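import Cfsg.Agent.Lib.FixSixth.Basic
import Cfsg.Agent.Lib.FixedFree.BaseChange
import Mathlib.FieldTheory.IsAlgClosed.AlgebraicClosure
import Mathlib.LinearAlgebra.TensorProduct.RightExactness
import Mathlib.RingTheory.Flat.Basic

/-!
# Averaging and the linear algebra of fixed spaces (S5720, piece 2)

Elementary abelian subgroups of order `r ^ 2` with `r ≤ 5`, elements of small characteristic order,
additivity of `fixDim` for elements of invertible order, reduction to simple subquotients and
extension of scalars.
-/

set_option autoImplicit false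

namespace CfsgLib.FixSixth

open Module
open scoped TensorProduct

universe v

variable {G : Type*} [Group G] {K : Type*} [Field K] {V : Type v} [AddCommGroup V] [Module K V]

theorem mem_ker_sub_one {ρ : Representation K G V} {g : G} {w : V} :
    w ∈ LinearMap.ker (ρ g - 1) ↔ ρ g w = w := by
  rw [LinearMap.mem_ker, LinearMap.sub_apply, Module.End.one_apply, sub_eq_zero]

theorem fixDim_le [FiniteDimensional K V] (ρ : Representation K G V) (g : G) :
    fixDim ρ g ≤ finrank K V :=
  Submodule.finrank_le _

theorem fixDim_comp {H : Type*} [Group H] (f : H →* G) (ρ : Representation K G V) (h : H) :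
    fixDim (ρ.comp f) h = fixDim ρ (f h) := rfl

theorem fixDim_equiv {W : Type*} [AddCommGroup W] [Module K W] (ρ : Representation K G V)
    (σ : Representation K G W) (e : V ≃ₗ[K] W) {g : G} (he : ∀ x, e (ρ g x) = σ g (e x)) :
    fixDim ρ g = fixDim σ g := by
  have h : (LinearMap.ker (ρ g - 1)).map (e : V →ₗ[K] W) = LinearMap.ker (σ g - 1) := by
    ext w
    rw [Submodule.mem_map]
    constructor
    · rintro ⟨x, hx, rfl⟩
      rw [mem_ker_sub_one] at hx ⊢
      show σ g (e x) = e x
      rw [← he, hx]
    · intro hw
      refine ⟨e.symm w, ?_, e.apply_symm_apply w⟩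
      rw [mem_ker_sub_one] at hw ⊢
      apply e.injective
      rw [he, e.apply_symm_apply, hw]
  unfold fixDim
  rw [← h]
  exact (LinearEquiv.finrank_map_eq e _).symm

theorem fixDim_conj (ρ : Representation K G V) {g g' : G} (h : IsConj g g') :
    fixDim ρ g = fixDim ρ g' := by
  obtain ⟨c, hc⟩ := isConj_iff.1 h
  let e : V ≃ₗ[K] V := LinearEquiv.ofLinearMap (ρ c) (ρ c⁻¹)
    (by rw [← Module.End.mul_eq_comp, ← map_mul, mul_inv_cancel, map_one]; rfl)
    (by rw [← Module.End.mul_eq_comp, ← map_mul, inv_mul_cancel, map_one]; rfl)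
  have hg : LinearMap.ker (ρ g' - 1) = (LinearMap.ker (ρ g - 1)).map (e : V →ₗ[K] V) := by
    ext w
    rw [Submodule.mem_map_equiv, mem_ker_sub_one, mem_ker_sub_one]
    show ρ g' w = w ↔ ρ g (ρ c⁻¹ w) = ρ c⁻¹ w
    rw [← hc, map_mul, map_mul, Module.End.mul_apply, Module.End.mul_apply]
    constructor
    · intro h1
      apply e.injective
      show ρ c (ρ g (ρ c⁻¹ w)) = ρ c (ρ c⁻¹ w)
      rw [h1]
      exact (e.apply_symm_apply w).symm
    · intro h1
      rw [h1]
      exact e.apply_symm_apply w
  unfold fixDim
  rw [hg]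
  exact (LinearEquiv.finrank_map_eq e _).symm

/-- In characteristic not dividing the order, fixed spaces are additive. -/
theorem fixDim_add [FiniteDimensional K V] (ρ : Representation K G V) {g : G}
    (hn : (orderOf g : K) ≠ 0) (W : Submodule K V) (hW : Stable ρ W) :
    fixDim ρ g = fixDim (ρ.subrepresentation W hW) g + fixDim (ρ.quotient W hW) g := by
  set F := LinearMap.ker (ρ g - 1) with hF
  set q := W.mkQ.domRestrict F with hq
  have hrange : LinearMap.range q = LinearMap.ker (ρ.quotient W hW g - 1) := by
    apply le_antisymm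
    · rintro _ ⟨⟨x, hx⟩, rfl⟩
      rw [hF, mem_ker_sub_one] at hx
      rw [mem_ker_sub_one]
      show W.mkQ (ρ g x) = W.mkQ x
      rw [hx]
    · intro y hy
      obtain ⟨x, rfl⟩ := Submodule.Quotient.mk_surjective W y
      rw [mem_ker_sub_one] at hy
      change W.mkQ (ρ g x) = W.mkQ x at hy
      set n := orderOf g with hn'
      have hpow : ∀ i : ℕ, W.mkQ (ρ (g ^ i) x) = W.mkQ x := by
        intro i
        induction i with
        | zero => rw [pow_zero, map_one]; rfl
        | succ i ih =>
          rw [pow_succ, map_mul, Module.End.mul_apply]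
          have h0 : ρ (g ^ i) (ρ g x) - ρ (g ^ i) x ∈ W := by
            rw [← map_sub]
            exact hW _ ((Submodule.Quotient.eq W).1 hy)
          exact ((Submodule.Quotient.eq W).2 h0).trans ih
      let s : V := (n : K)⁻¹ • ∑ i ∈ Finset.range n, ρ (g ^ i) x
      have hs : ρ g s = s := by
        show ρ g ((n : K)⁻¹ • ∑ i ∈ Finset.range n, ρ (g ^ i) x) = _
        rw [map_smul, map_sum]
        congr 1
        have h1 : ∀ i, ρ g (ρ (g ^ i) x) = ρ (g ^ (i + 1)) x := fun i => by
          rw [← Module.End.mul_apply, ← map_mul, ← pow_succ']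
        simp only [h1]
        have h2 := Finset.sum_range_succ' (fun i => ρ (g ^ i) x) n
        rw [Finset.sum_range_succ] at h2
        simp only [hn', pow_orderOf_eq_one, pow_zero] at h2
        exact (add_right_cancel h2).symm
      refine ⟨⟨s, by rw [hF, mem_ker_sub_one]; exact hs⟩, ?_⟩
      show W.mkQ s = W.mkQ x
      simp only [s, map_smul, map_sum, hpow, Finset.sum_const, Finset.card_range]
      rw [← Nat.cast_smul_eq_nsmul K, inv_smul_smul₀ hn]
  have hker : finrank K (LinearMap.ker q) =
      finrank K (LinearMap.ker (ρ.subrepresentation W hW g - 1)) := by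
    rw [← Submodule.finrank_map_subtype_eq F (LinearMap.ker q),
      ← Submodule.finrank_map_subtype_eq W (LinearMap.ker (ρ.subrepresentation W hW g - 1))]
    suffices h : (LinearMap.ker q).map F.subtype =
        (LinearMap.ker (ρ.subrepresentation W hW g - 1)).map W.subtype by rw [h]
    ext x
    simp only [Submodule.mem_map, Submodule.coe_subtype]
    constructor
    · rintro ⟨⟨y, hy⟩, hy', rfl⟩
      rw [hF, mem_ker_sub_one] at hy
      have hyW : y ∈ W := (Submodule.Quotient.mk_eq_zero W).1 hy'
      exact ⟨⟨y, hyW⟩, mem_ker_sub_one.2 (Subtype.ext hy), rfl⟩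
    · rintro ⟨⟨y, hy⟩, hy', rfl⟩
      rw [mem_ker_sub_one] at hy'
      exact ⟨⟨y, by rw [hF, mem_ker_sub_one]; exact congrArg Subtype.val hy'⟩,
        (Submodule.Quotient.mk_eq_zero W).2 hy, rfl⟩
  have h1 := LinearMap.finrank_range_add_finrank_ker q
  rw [hrange, hker] at h1
  unfold fixDim
  rw [← hF]
  omega

/-- A bound on all simple subquotients is a bound on the whole space. -/
theorem le_mul_fix_of_simple [FiniteDimensional K V] (ρ : Representation K G V) {g : G}
    (hn : (orderOf g : K) ≠ 0) (c : ℕ)
    (h : ∀ (W : Type v) [AddCommGroup W] [Module K W] [FiniteDimensional K W]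
      (σ : Representation K G W), IsSimpleRep σ → ρ.ker ≤ σ.ker → finrank K W ≤ c * fixDim σ g) :
    finrank K V ≤ c * fixDim ρ g := by
  suffices key : ∀ (n : ℕ) (W : Type v) [AddCommGroup W] [Module K W] [FiniteDimensional K W]
      (σ : Representation K G W), finrank K W ≤ n → ρ.ker ≤ σ.ker →
      finrank K W ≤ c * fixDim σ g from key _ V ρ le_rfl le_rfl
  intro n
  induction n with
  | zero => intro W _ _ _ σ hW _; omega
  | succ n ih =>
    intro W _ _ _ σ hW hk
    by_cases hs : IsSimpleRep σ
    · exact h W σ hs hk
    by_cases hne : ∃ x : W, x ≠ 0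
    swap
    · push Not at hne
      have h0 : finrank K W = 0 := by
        have : Subsingleton W := ⟨fun a b => by rw [hne a, hne b]⟩
        exact Module.finrank_zero_of_subsingleton
      omega
    simp only [IsSimpleRep, hne, true_and, not_forall, not_or] at hs
    obtain ⟨U, hU, hU0, hU1⟩ := hs
    have e1 := Submodule.finrank_quotient_add_finrank U
    have e2 : 0 < finrank K U := by
      rcases Nat.eq_zero_or_pos (finrank K U) with e | e
      · exact absurd (Submodule.finrank_eq_zero.1 e) hU0
      · exact e
    have e3 : finrank K U < finrank K W := Submodule.finrank_lt hU1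
    have k1 : ρ.ker ≤ MonoidHom.ker (σ.subrepresentation U hU) := fun x hx => by
      refine MonoidHom.mem_ker.2 (LinearMap.ext fun u => Subtype.ext ?_)
      show σ x (u : W) = (u : W)
      rw [MonoidHom.mem_ker.1 (hk hx)]
      rfl
    have k2 : ρ.ker ≤ MonoidHom.ker (σ.quotient U hU) := fun x hx => by
      refine MonoidHom.mem_ker.2 (LinearMap.ext fun y => ?_)
      obtain ⟨u, rfl⟩ := Submodule.Quotient.mk_surjective U y
      show U.mkQ (σ x u) = U.mkQ u
      rw [MonoidHom.mem_ker.1 (hk hx)]
      rfl
    have b1 := ih U (σ.subrepresentation U hU) (by omega) k1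
    have b2 := ih (W ⧸ U) (σ.quotient U hU) (by omega) k2
    rw [fixDim_add σ hn U hU, Nat.mul_add]
    omega

/-- The kernel of a composite is at most as large as the two kernels together. -/
theorem finrank_ker_comp_le [FiniteDimensional K V] (f g : Module.End K V) :
    finrank K (LinearMap.ker (f * g)) ≤
      finrank K (LinearMap.ker f) + finrank K (LinearMap.ker g) := by
  set q := g.domRestrict (LinearMap.ker (f * g)) with hq
  have h1 : LinearMap.range q ≤ LinearMap.ker f := by
    rintro _ ⟨⟨x, hx⟩, rfl⟩
    exact LinearMap.mem_ker.2 (LinearMap.mem_ker.1 hx)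
  have h2 : (LinearMap.ker q).map (LinearMap.ker (f * g)).subtype ≤ LinearMap.ker g := by
    rintro _ ⟨x, hx, rfl⟩
    exact LinearMap.mem_ker.2 (LinearMap.mem_ker.1 hx)
  have h3 := Submodule.finrank_mono h1
  have h4 := Submodule.finrank_mono h2
  rw [Submodule.finrank_map_subtype_eq] at h4
  have h5 := LinearMap.finrank_range_add_finrank_ker q
  omega

theorem finrank_ker_pow_le [FiniteDimensional K V] (f : Module.End K V) (n : ℕ) :
    finrank K (LinearMap.ker (f ^ n)) ≤ n * finrank K (LinearMap.ker f) := by
  induction n with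
  | zero => simp [Module.End.one_eq_id]
  | succ n ih =>
    have h := finrank_ker_comp_le (f ^ n) f
    rw [← pow_succ] at h
    rw [Nat.succ_mul]
    omega

/-- An element whose order is the characteristic fixes at least the reciprocal share. -/
theorem le_mul_fix_of_char [FiniteDimensional K V] (ρ : Representation K G V) {r : ℕ}
    (hr : r.Prime) {x : G} (hx : orderOf x = r) (hK : (r : K) = 0) :
    finrank K V ≤ r * fixDim ρ x := by
  rcases subsingleton_or_nontrivial V with hV | hV
  · rw [Module.finrank_zero_of_subsingleton]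
    exact Nat.zero_le _
  have : Fact r.Prime := ⟨hr⟩
  have : CharP K r := (CharP.charP_iff_prime_eq_zero hr).2 hK
  have : CharP (Module.End K V) r := charP_of_injective_algebraMap (algebraMap K _).injective r
  have h1 : (ρ x - 1) ^ r = 0 := by
    rw [sub_pow_char_of_commute _ (Commute.one_right (ρ x)), one_pow, ← map_pow, ← hx,
      pow_orderOf_eq_one, map_one, sub_self]
  have h2 := finrank_ker_pow_le (ρ x - 1) r
  rw [h1, LinearMap.ker_zero, finrank_top] at h2
  exact h2

theorem three_le_fix [FiniteDimensional K V] (ρ : Representation K G V) (h3 : (3 : K) = 0) {x : G}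
    (hx : orderOf x = 3) : finrank K V ≤ 3 * fixDim ρ x :=
  le_mul_fix_of_char ρ Nat.prime_three hx (by exact_mod_cast h3)

theorem hasFix_char_two [FiniteDimensional K V] (ρ : Representation K G V) (h2 : (2 : K) = 0)
    {t : G} (ht : orderOf t = 2) : HasFix ρ := by
  refine ⟨t, fun e => by simp [e] at ht, ?_⟩
  have := le_mul_fix_of_char ρ Nat.prime_two ht (by exact_mod_cast h2)
  omega

theorem finrank_finset_sup_le [FiniteDimensional K V] {ι : Type*} (s : Finset ι)
    (W : ι → Submodule K V) : finrank K ↥(s.sup W) ≤ ∑ i ∈ s, finrank K (W i) := by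
  classical
  induction s using Finset.induction_on with
  | empty => simp
  | insert a s ha ih =>
    rw [Finset.sup_insert, Finset.sum_insert ha]
    exact (Submodule.finrank_add_le_finrank_add_finrank _ _).trans (Nat.add_le_add_left ih _)

/-- An elementary abelian subgroup of order `r ^ 2`, `r ≤ 5`, has an element fixing a sixth. -/
theorem hasFix_elem [FiniteDimensional K V] (ρ : Representation K G V) {r : ℕ} (hr : r.Prime)
    (hr5 : r ≤ 5) {a b : G} (ha : orderOf a = r) (hb : orderOf b = r) (hab : Commute a b)
    (hba : b ∉ Subgroup.zpowers a) : HasFix ρ := by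
  classical
  by_cases hK : (r : K) = 0
  · refine ⟨a, fun e => ?_, ?_⟩
    · rw [e, orderOf_one] at ha
      exact hr.ne_one ha.symm
    · have h := le_mul_fix_of_char ρ hr ha hK
      have : r * fixDim ρ a ≤ 6 * fixDim ρ a := Nat.mul_le_mul_right _ (by omega)
      omega
  have : Fact r.Prime := ⟨hr⟩
  let el : ZMod r → ZMod r → G := fun i j => a ^ i.val * b ^ j.val
  have hel : ∀ i j i' j', el i j * el i' j' = el (i + i') (j + j') := by
    intro i j i' j'
    simp only [el, ZMod.val_add]
    have hA : ∀ n : ℕ, a ^ (n % r) = a ^ n := fun n => by rw [← pow_mod_orderOf a n, ha]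
    have hB : ∀ n : ℕ, b ^ (n % r) = b ^ n := fun n => by rw [← pow_mod_orderOf b n, hb]
    rw [hA, hB, pow_add, pow_add, mul_assoc,
      ← mul_assoc (b ^ j.val), ← (hab.pow_pow i'.val j.val).eq]
    simp only [mul_assoc]
  by_contra hcon
  simp only [HasFix, not_exists, not_and, not_le] at hcon
  -- the generators of the `r + 1` cyclic subgroups
  let gen : Option (ZMod r) → ZMod r × ZMod r := fun o => o.elim (0, 1) fun i => (1, i)
  have hgen : ∀ o, el (gen o).1 (gen o).2 ≠ 1 := by
    rintro (_ | i) e
    · simp only [gen, Option.elim, el, ZMod.val_zero, pow_zero, one_mul, ZMod.val_one] at e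
      rw [pow_one] at e
      rw [e, orderOf_one] at hb
      exact hr.ne_one hb.symm
    · simp only [gen, Option.elim, el, ZMod.val_one, pow_one] at e
      by_cases hi : i = 0
      · rw [hi, ZMod.val_zero, pow_zero, mul_one] at e
        rw [e, orderOf_one] at ha
        exact hr.ne_one ha.symm
      · refine hba ?_
        have h1 : b ^ i.val ∈ Subgroup.zpowers a := by
          rw [eq_inv_of_mul_eq_one_right e]
          exact inv_mem (Subgroup.mem_zpowers a)
        have h2 := pow_mem h1 (i⁻¹).val
        rw [← pow_mul, ← pow_mod_orderOf, hb, ← ZMod.val_mul, mul_inv_cancel₀ hi, ZMod.val_one,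
          pow_one] at h2
        exact h2
  let Fx : Option (ZMod r) → Submodule K V := fun o =>
    LinearMap.ker (ρ (el (gen o).1 (gen o).2) - 1)
  -- norms lie in fixed spaces
  have hnorm : ∀ (o : Option (ZMod r)) (x : V),
      ∑ t : ZMod r, ρ (el (t * (gen o).1) (t * (gen o).2)) x ∈ Fx o := by
    intro o x
    refine mem_ker_sub_one.2 ?_
    rw [map_sum]
    refine Fintype.sum_equiv (Equiv.addRight 1) _ _ fun t => ?_
    rw [← Module.End.mul_apply, ← map_mul, hel]
    simp only [Equiv.coe_addRight]
    rw [add_mul, add_mul, one_mul, one_mul, add_comm (gen o).1, add_comm (gen o).2]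
  have hall : ∀ x : V, (∑ i : ZMod r, ∑ j : ZMod r, ρ (el i j) x) ∈ Fx (some 0) := by
    intro x
    refine mem_ker_sub_one.2 ?_
    rw [map_sum]
    refine Fintype.sum_equiv (Equiv.addRight 1) _ _ fun t => ?_
    rw [map_sum]
    refine Finset.sum_congr rfl fun j _ => ?_
    rw [← Module.End.mul_apply, ← map_mul, hel]
    simp only [gen, Option.elim, Equiv.coe_addRight, zero_add, add_comm (1 : ZMod r)]
  have hid : ∀ x : V, (r : K) • x = (∑ i : ZMod r, ∑ t : ZMod r, ρ (el t (t * i)) x) +
      (∑ t : ZMod r, ρ (el 0 t) x) - ∑ i : ZMod r, ∑ j : ZMod r, ρ (el i j) x := by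
    intro x
    have key : ∀ i : ZMod r, (∑ t : ZMod r, ρ (el i (i * t)) x) +
        (if i = 0 then ∑ t : ZMod r, ρ (el 0 t) x else 0) =
        (∑ t : ZMod r, ρ (el i t) x) + if i = 0 then (r : K) • x else 0 := by
      intro i
      by_cases hi : i = 0
      · subst hi
        rw [if_pos rfl, if_pos rfl]
        simp [el, add_comm, Nat.cast_smul_eq_nsmul, ZMod.card]
      · rw [if_neg hi, if_neg hi, add_zero, add_zero]
        exact Fintype.sum_equiv (Equiv.mulLeft₀ i hi) _ _ fun t => rfl
    have h := Finset.sum_congr rfl (fun i (_ : i ∈ (Finset.univ : Finset (ZMod r))) => key i)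
    simp only [Finset.sum_add_distrib, Finset.sum_ite_eq', Finset.mem_univ, if_true] at h
    rw [Finset.sum_comm, h]
    abel
  have htop : (⊤ : Submodule K V) ≤ Finset.univ.sup Fx := by
    intro x _
    have hle : ∀ o, Fx o ≤ Finset.univ.sup Fx := fun o => Finset.le_sup (Finset.mem_univ o)
    have h1 : (r : K) • x ∈ Finset.univ.sup Fx := by
      rw [hid]
      refine sub_mem (add_mem (sum_mem fun i _ => hle (some i) ?_) (hle none ?_)) (hle _ (hall x))
      · have h := hnorm (some i) x
        simp only [gen, Option.elim, mul_one] at h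
        exact h
      · have h := hnorm none x
        simp only [gen, Option.elim, mul_zero, mul_one] at h
        exact h
    have h2 := Submodule.smul_mem _ (r : K)⁻¹ h1
    rwa [inv_smul_smul₀ hK] at h2
  have h1 := (Submodule.finrank_mono htop).trans (finrank_finset_sup_le Finset.univ Fx)
  rw [finrank_top] at h1
  have h2 : ∑ o : Option (ZMod r), 6 * finrank K (Fx o) < ∑ _o : Option (ZMod r), finrank K V :=
    Finset.sum_lt_sum_of_nonempty Finset.univ_nonempty fun o _ => hcon _ (hgen o)
  rw [← Finset.mul_sum, Finset.sum_const, Finset.card_univ, Fintype.card_option, ZMod.card,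
    smul_eq_mul] at h2
  have h3 : (r + 1) * finrank K V ≤ 6 * finrank K V := Nat.mul_le_mul_right _ (by omega)
  omega

/-- A four group has an element fixing a sixth. -/
theorem hasFix_four [FiniteDimensional K V] (ρ : Representation K G V) {a b : G}
    (ha : orderOf a = 2) (hb : orderOf b = 2) (hab : Commute a b) (hne : a ≠ b) : HasFix ρ := by
  refine hasFix_elem ρ Nat.prime_two (by norm_num) ha hb hab fun h => hne ?_
  have hfin : IsOfFinOrder a := orderOf_pos_iff.1 (by omega)
  obtain ⟨i, rfl⟩ := hfin.mem_powers_iff_mem_zpowers.2 h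
  have h' : orderOf (a ^ i) = 2 := hb
  show a = a ^ i
  rw [← pow_mod_orderOf, ha] at h' ⊢
  rcases Nat.mod_two_eq_zero_or_one i with e | e <;> simp_all

theorem hasFix_rr [FiniteDimensional K V] (ρ : Representation K G V) {r : ℕ}
    (hr : r = 3 ∨ r = 5) {a b : G} (ha : orderOf a = r) (hb : orderOf b = r) (hab : Commute a b)
    (hba : b ∉ Subgroup.zpowers a) : HasFix ρ := by
  rcases hr with rfl | rfl
  · exact hasFix_elem ρ Nat.prime_three (by norm_num) ha hb hab hba
  · exact hasFix_elem ρ (by norm_num) le_rfl ha hb hab hba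

/-- Extension of scalars to the algebraic closure. -/
noncomputable def extRep (ρ : Representation K G V) :
    Representation (AlgebraicClosure K) G (AlgebraicClosure K ⊗[K] V) :=
  CfsgLib.FixedFree.extend (AlgebraicClosure K) ρ

theorem extRep_apply (ρ : Representation K G V) (g : G) :
    extRep ρ g = (ρ g).baseChange (AlgebraicClosure K) := rfl

theorem finrank_extRep (K : Type*) [Field K] (V : Type*) [AddCommGroup V] [Module K V] :
    finrank (AlgebraicClosure K) (AlgebraicClosure K ⊗[K] V) = finrank K V :=
  Module.finrank_baseChange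

theorem finrank_range_baseChange (L : Type*) [Field L] [Algebra K L] (f : Module.End K V) :
    finrank L (LinearMap.range (f.baseChange L)) = finrank K (LinearMap.range f) := by
  have hs : Function.Surjective (f.rangeRestrict.baseChange L) := by
    rw [LinearMap.baseChange_eq_ltensor]
    exact LinearMap.lTensor_surjective L f.surjective_rangeRestrict
  have hi : Function.Injective ((LinearMap.range f).subtype.baseChange L) := by
    rw [LinearMap.baseChange_eq_ltensor]
    exact Module.Flat.lTensor_preserves_injective_linearMap _ (Submodule.injective_subtype _)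
  conv_lhs => rw [show f = (LinearMap.range f).subtype.comp f.rangeRestrict from rfl,
    LinearMap.baseChange_comp, LinearMap.range_comp, LinearMap.range_eq_top.2 hs,
    Submodule.map_top]
  rw [LinearMap.finrank_range_of_inj hi, Module.finrank_baseChange]

theorem fixDim_extRep [FiniteDimensional K V] (ρ : Representation K G V) (g : G) :
    fixDim (extRep ρ) g = fixDim ρ g := by
  have h : extRep ρ g - 1 = (ρ g - 1).baseChange (AlgebraicClosure K) := by
    rw [LinearMap.baseChange_sub, Module.End.one_eq_id (M := V), LinearMap.baseChange_id,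
      extRep_apply]
    rfl
  unfold fixDim
  rw [h]
  have h1 := LinearMap.finrank_range_add_finrank_ker
    ((ρ g - 1).baseChange (AlgebraicClosure K))
  have h2 := LinearMap.finrank_range_add_finrank_ker (ρ g - 1)
  rw [finrank_range_baseChange (AlgebraicClosure K) (ρ g - 1), Module.finrank_baseChange] at h1
  omega

theorem hasFix_of_extRep [FiniteDimensional K V] (ρ : Representation K G V)
    (h : HasFix (extRep ρ)) : HasFix ρ := by
  obtain ⟨g, hg, h⟩ := h
  exact ⟨g, hg, by rwa [finrank_extRep, fixDim_extRep] at h⟩

end CfsgLib.FixSixth
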