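import Cfsg.Agent.Lib.FixSixth.Averaging
import Cfsg.Agent.Lib.Solvable.PCore
import Cfsg.Agent.Lib.Perm.DerivedLengthLinear
import Mathlib.GroupTheory.Nilpotent

/-!
# Splitting off the fixed space of a normal subgroup of coprime order (S5720)

For a normal subgroup `N` of order invertible in `K`, the space is the direct sum of the fixed space
`fixN` and the kernel `movedN` of the norm of `N`, both stable.  In characteristic `p` a nilpotent
normal subgroup acts on a simple module through its coprime part.
-/

set_option autoImplicit false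
set_option linter.style.haveILetI false

namespace CfsgLib.FixSixth

open Module

universe v

variable {G : Type*} [Group G] {K : Type*} [Field K] {V : Type v} [AddCommGroup V] [Module K V]

/-- The vectors fixed by `N`. -/
def fixN (ρ : Representation K G V) (N : Subgroup G) : Submodule K V :=
  ⨅ n : N, LinearMap.ker (ρ n - 1)

theorem mem_fixN {ρ : Representation K G V} {N : Subgroup G} {x : V} :
    x ∈ fixN ρ N ↔ ∀ n ∈ N, ρ n x = x := by
  simp [fixN, Submodule.mem_iInf, sub_eq_zero]

/-- The sum of the operators of `N`. -/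
noncomputable def normN (ρ : Representation K G V) (N : Subgroup G) [Finite N] : Module.End K V :=
  letI := Fintype.ofFinite N
  ∑ n : N, ρ n

/-- The vectors killed by the norm of `N`. -/
noncomputable def movedN (ρ : Representation K G V) (N : Subgroup G) [Finite N] : Submodule K V :=
  LinearMap.ker (normN ρ N)

variable (ρ : Representation K G V) (N : Subgroup G) [Finite N]

theorem normN_mem_fixN (x : V) : normN ρ N x ∈ fixN ρ N := by
  letI := Fintype.ofFinite N
  refine mem_fixN.2 fun n hn => ?_
  simp only [normN, LinearMap.sum_apply, map_sum]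
  refine Fintype.sum_equiv (Equiv.mulLeft (⟨n, hn⟩ : N)) _ _ fun m => ?_
  rw [← Module.End.mul_apply, ← map_mul]
  rfl

theorem normN_of_mem {x : V} (hx : x ∈ fixN ρ N) : normN ρ N x = (Nat.card N : K) • x := by
  letI := Fintype.ofFinite N
  simp only [normN, LinearMap.sum_apply]
  rw [Finset.sum_congr rfl fun (n : N) _ => mem_fixN.1 hx n n.2, Finset.sum_const,
    Finset.card_univ, Nat.card_eq_fintype_card, Nat.cast_smul_eq_nsmul]

theorem normN_comm [N.Normal] (g : G) : ρ g * normN ρ N = normN ρ N * ρ g := by
  letI := Fintype.ofFinite N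
  simp only [normN, Finset.mul_sum, Finset.sum_mul]
  refine Fintype.sum_equiv (MulAut.conjNormal g : MulAut N).toEquiv _ _ fun n => ?_
  rw [← map_mul, ← map_mul, MulEquiv.toEquiv_eq_coe, EquivLike.coe_coe, MulAut.conjNormal_apply,
    inv_mul_cancel_right]

omit [Finite N] in
theorem fixN_stable [N.Normal] : Stable ρ (fixN ρ N) := by
  intro g x hx
  refine mem_fixN.2 fun n hn => ?_
  have h1 := mem_fixN.1 hx (g⁻¹ * n * g) (by simpa using Subgroup.Normal.conj_mem ‹N.Normal› n hn g⁻¹)
  rw [← Module.End.mul_apply, ← map_mul, show n * g = g * (g⁻¹ * n * g) by group, map_mul,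
    Module.End.mul_apply, h1]

theorem movedN_stable [N.Normal] : Stable ρ (movedN ρ N) := by
  intro g x hx
  rw [movedN, LinearMap.mem_ker] at hx
  show normN ρ N (ρ g x) = 0
  rw [← Module.End.mul_apply, ← normN_comm, Module.End.mul_apply, hx, map_zero]

theorem isCompl_fixN_movedN (hN : (Nat.card N : K) ≠ 0) : IsCompl (fixN ρ N) (movedN ρ N) := by
  constructor
  · rw [Submodule.disjoint_def]
    intro x hx hx'
    rw [movedN, LinearMap.mem_ker, normN_of_mem ρ N hx] at hx'
    exact (smul_eq_zero.1 hx').resolve_left hN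
  · rw [codisjoint_iff, eq_top_iff]
    intro x _
    refine Submodule.mem_sup.2 ⟨(Nat.card N : K)⁻¹ • normN ρ N x,
      Submodule.smul_mem _ _ (normN_mem_fixN ρ N x), x - (Nat.card N : K)⁻¹ • normN ρ N x, ?_,
      add_sub_cancel _ _⟩
    rw [movedN, LinearMap.mem_ker, map_sub, map_smul, normN_of_mem ρ N (normN_mem_fixN ρ N x),
      smul_smul, inv_mul_cancel₀ hN, one_smul, sub_self]

theorem finrank_fixN_add_movedN [FiniteDimensional K V] (hN : (Nat.card N : K) ≠ 0) :
    finrank K (fixN ρ N) + finrank K (movedN ρ N) = finrank K V :=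
  Submodule.finrank_add_eq_of_isCompl (isCompl_fixN_movedN ρ N hN)

/-- Fixed spaces of every element split along the decomposition. -/
theorem fixDim_split [FiniteDimensional K V] [N.Normal] (hN : (Nat.card N : K) ≠ 0) (g : G) :
    fixDim ρ g = fixDim (ρ.subrepresentation (fixN ρ N) (fixN_stable ρ N)) g +
      fixDim (ρ.subrepresentation (movedN ρ N) (movedN_stable ρ N)) g := by
  set F := LinearMap.ker (ρ g - 1) with hF
  have hsub : ∀ (W : Submodule K V) (hW : Stable ρ W),
      fixDim (ρ.subrepresentation W hW) g = finrank K (W ⊓ F : Submodule K V) := by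
    intro W hW
    unfold fixDim
    rw [← Submodule.finrank_map_subtype_eq W]
    suffices h : (LinearMap.ker (ρ.subrepresentation W hW g - 1)).map W.subtype = W ⊓ F by rw [h]
    ext x
    simp only [Submodule.mem_map, Submodule.coe_subtype, Submodule.mem_inf, hF, mem_ker_sub_one]
    constructor
    · rintro ⟨⟨y, hy⟩, hy', rfl⟩
      exact ⟨hy, congrArg Subtype.val hy'⟩
    · rintro ⟨hy, hy'⟩
      exact ⟨⟨x, hy⟩, Subtype.ext hy', rfl⟩
  rw [hsub, hsub]
  have hsum : (fixN ρ N ⊓ F) ⊔ (movedN ρ N ⊓ F) = F := by
    refine le_antisymm (sup_le inf_le_right inf_le_right) fun x hx => ?_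
    rw [hF, mem_ker_sub_one] at hx
    set y := (Nat.card N : K)⁻¹ • normN ρ N x with hy
    have hgy : ρ g y = y := by
      rw [hy, map_smul, ← Module.End.mul_apply, normN_comm, Module.End.mul_apply, hx]
    refine Submodule.mem_sup.2 ⟨y, ⟨Submodule.smul_mem _ _ (normN_mem_fixN ρ N x), ?_⟩,
      x - y, ⟨?_, ?_⟩, add_sub_cancel _ _⟩
    · show y ∈ F
      rw [hF, mem_ker_sub_one]; exact hgy
    · show x - y ∈ movedN ρ N
      rw [hy, movedN, LinearMap.mem_ker, map_sub, map_smul,
        normN_of_mem ρ N (normN_mem_fixN ρ N x), smul_smul, inv_mul_cancel₀ hN, one_smul, sub_self]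
    · show x - y ∈ F
      rw [hF, mem_ker_sub_one, map_sub, hx, hgy]
  have h1 := Submodule.finrank_sup_add_finrank_inf_eq (fixN ρ N ⊓ F) (movedN ρ N ⊓ F)
  rw [hsum, ((isCompl_fixN_movedN ρ N hN).disjoint.mono inf_le_left inf_le_left).eq_bot,
    finrank_bot, add_zero] at h1
  exact h1

/-- `N` acts trivially on its fixed space. -/
theorem le_ker_fixN [N.Normal] :
    N ≤ MonoidHom.ker (ρ.subrepresentation (fixN ρ N) (fixN_stable ρ N)) := fun n hn =>
  MonoidHom.mem_ker.2 (LinearMap.ext fun x => Subtype.ext (mem_fixN.1 x.2 n hn))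

/-- A bound on the simple modules on which `N` acts nontrivially is a bound on the moved part. -/
theorem le_mul_fix_of_moved [FiniteDimensional K V] [N.Normal] (hN : (Nat.card N : K) ≠ 0) {g : G}
    (hn : (orderOf g : K) ≠ 0) (c : ℕ)
    (h : ∀ (W : Type v) [AddCommGroup W] [Module K W] [FiniteDimensional K W]
      (σ : Representation K G W), IsSimpleRep σ → ρ.ker ≤ σ.ker → (∃ n ∈ N, σ n ≠ 1) →
      finrank K W ≤ c * fixDim σ g) :
    finrank K (movedN ρ N) ≤
      c * fixDim (ρ.subrepresentation (movedN ρ N) (movedN_stable ρ N)) g := by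
  letI := Fintype.ofFinite N
  suffices key : ∀ (m : ℕ) (W : Type v) [AddCommGroup W] [Module K W] [FiniteDimensional K W]
      (σ : Representation K G W), finrank K W ≤ m → ρ.ker ≤ σ.ker →
      (∀ x : W, ∑ n : N, σ n x = 0) → finrank K W ≤ c * fixDim σ g by
    refine key _ _ _ le_rfl (fun x hx => MonoidHom.mem_ker.2
      (LinearMap.ext fun u => Subtype.ext ?_)) fun u => Subtype.ext ?_
    · show ρ x (u : V) = (u : V)
      rw [MonoidHom.mem_ker.1 hx]
      rfl
    · have h1 : (∑ n : N, ρ (n : G)) (u : V) = 0 := u.2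
      rw [LinearMap.sum_apply] at h1
      rw [Submodule.coe_sum]
      exact h1
  intro m
  induction m with
  | zero => intro W _ _ _ σ hW _ _; omega
  | succ m ih =>
    intro W _ _ _ σ hW hk hz
    by_cases hne : ∃ x : W, x ≠ 0
    swap
    · push Not at hne
      have h0 : finrank K W = 0 := by
        have : Subsingleton W := ⟨fun a b => by rw [hne a, hne b]⟩
        exact Module.finrank_zero_of_subsingleton
      omega
    by_cases hs : IsSimpleRep σ
    · refine h W σ hs hk ?_
      by_contra hcon
      push Not at hcon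
      obtain ⟨x, hx⟩ := hne
      have h1 := hz x
      rw [Finset.sum_congr rfl fun (n : N) _ =>
          (show σ n x = x by rw [hcon n n.2, Module.End.one_apply]), Finset.sum_const,
        Finset.card_univ, ← Nat.card_eq_fintype_card, ← Nat.cast_smul_eq_nsmul K] at h1
      exact hx ((smul_eq_zero.1 h1).resolve_left hN)
    simp only [IsSimpleRep, hne, true_and, not_forall, not_or] at hs
    obtain ⟨U, hU, hU0, hU1⟩ := hs
    have e1 := Submodule.finrank_quotient_add_finrank U
    have e2 : 0 < finrank K U := by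
      rcases Nat.eq_zero_or_pos (finrank K U) with e | e
      · exact absurd (Submodule.finrank_eq_zero.1 e) hU0
      · exact e
    have e3 : finrank K U < finrank K W := Submodule.finrank_lt hU1
    have k1 : ρ.ker ≤ MonoidHom.ker (σ.subrepresentation U hU) := fun x hx => by
      refine MonoidHom.mem_ker.2 (LinearMap.ext fun u => Subtype.ext ?_)
      show σ x (u : W) = (u : W)
      rw [MonoidHom.mem_ker.1 (hk hx)]
      rfl
    have k2 : ρ.ker ≤ MonoidHom.ker (σ.quotient U hU) := fun x hx => by
      refine MonoidHom.mem_ker.2 (LinearMap.ext fun y => ?_)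
      obtain ⟨u, rfl⟩ := Submodule.Quotient.mk_surjective U y
      show U.mkQ (σ x u) = U.mkQ u
      rw [MonoidHom.mem_ker.1 (hk hx)]
      rfl
    have b1 := ih U (σ.subrepresentation U hU) (by omega) k1 fun u => Subtype.ext (by
      rw [Submodule.coe_sum]
      exact hz u)
    have b2 := ih (W ⧸ U) (σ.quotient U hU) (by omega) k2 fun y => by
      obtain ⟨u, rfl⟩ := Submodule.Quotient.mk_surjective U y
      show ∑ n : N, U.mkQ (σ n u) = 0
      rw [← map_sum, hz, map_zero]
    rw [fixDim_add σ hn U hU, Nat.mul_add]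
    omega

section CoprimePart

/-- The elements of a nilpotent `N` of order prime to `p`, as a subgroup of `G`. -/
def coprimePart (p : ℕ) (N : Subgroup G) : Subgroup G := (Cfsg.pPrimeCore p N).map N.subtype

variable (p : ℕ)

theorem coprimePart_le (N : Subgroup G) : coprimePart p N ≤ N := Subgroup.map_subtype_le _

theorem coprimePart_normal (N : Subgroup G) [N.Normal] : (coprimePart p N).Normal :=
  have := Solvable.pPrimeCore_characteristic p N
  inferInstanceAs ((Cfsg.pPrimeCore p N).map N.subtype).Normal

theorem card_coprimePart_coprime [Finite G] (N : Subgroup G) :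
    (Nat.card (coprimePart p N)).Coprime p := by
  rw [coprimePart, Solvable.card_map_subtype]
  exact Solvable.pPrimeCore_coprime p

theorem card_coprimePart_ne_zero [Finite G] [hp : Fact p.Prime] [CharP K p] (N : Subgroup G) :
    (Nat.card (coprimePart p N) : K) ≠ 0 := by
  rw [Ne, CharP.cast_eq_zero_iff K p]
  exact fun h => hp.out.coprime_iff_not_dvd.1 (card_coprimePart_coprime p N).symm h

/-- A normal `p`-subgroup acts trivially on a simple module in characteristic `p`. -/
theorem le_ker_of_isPGroup [Finite G] [IsAlgClosed K] [Fact p.Prime] [CharP K p]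
    [FiniteDimensional K V] (σ : Representation K G V) (hs : IsSimpleRep σ) (Q : Subgroup G)
    [Q.Normal] (hQ : IsPGroup p Q) : Q ≤ MonoidHom.ker σ := by
  obtain ⟨x, hx⟩ := hs.1
  have : Nontrivial V := ⟨⟨x, 0, hx⟩⟩
  obtain ⟨w, hw, hfix⟩ :=
    CfsgLib.Perm.DerivedLengthLinear.exists_fixed (P := Q) hQ _ (σ.comp Q.subtype) le_rfl
  rcases hs.2 (fixN σ Q) (fixN_stable σ Q) with h | h
  · exact absurd ((Submodule.mem_bot K).1 (h ▸ mem_fixN.2 fun n hn => hfix ⟨n, hn⟩)) hw
  · exact fun n hn => MonoidHom.mem_ker.2
      (LinearMap.ext fun y => mem_fixN.1 (h ▸ Submodule.mem_top : y ∈ fixN σ Q) n hn)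

/-- A nilpotent normal subgroup whose coprime part acts trivially on a simple module acts
trivially. -/
theorem le_ker_of_coprimePart [Finite G] [IsAlgClosed K] [hp : Fact p.Prime] [CharP K p]
    [FiniteDimensional K V] (σ : Representation K G V) (hs : IsSimpleRep σ) (N : Subgroup G)
    [N.Normal] (hnil : Group.IsNilpotent N) (h : coprimePart p N ≤ MonoidHom.ker σ) :
    N ≤ MonoidHom.ker σ := by
  have hsup : Cfsg.pCore p N ⊔ Cfsg.pPrimeCore p N = ⊤ := by
    rw [← Subgroup.index_eq_one]
    by_contra hne
    obtain ⟨t, ht, hdvd⟩ := Nat.exists_prime_and_dvd hne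
    have := Fact.mk ht
    let P : Sylow t N := default
    have hn : (P : Subgroup N).Normal := inferInstance
    have hle : (P : Subgroup N) ≤ Cfsg.pCore p N ⊔ Cfsg.pPrimeCore p N := by
      by_cases hrt : t = p
      · subst hrt
        exact (Solvable.le_pCore hn P.2).trans le_sup_left
      · obtain ⟨k, hk⟩ := IsPGroup.iff_card.mp P.2
        refine (Solvable.le_pPrimeCore hn ?_).trans le_sup_right
        rw [hk]
        exact ((Nat.coprime_primes ht hp.out).mpr hrt).pow_left _
    exact P.not_dvd_index (hdvd.trans (Subgroup.index_dvd_of_le hle))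
  have := Solvable.pCore_characteristic p N
  have hQ := le_ker_of_isPGroup p σ hs ((Cfsg.pCore p N).map N.subtype)
    ((Solvable.pCore_isPGroup p).map _)
  have h2 : (⊤ : Subgroup N).map N.subtype ≤ MonoidHom.ker σ := by
    rw [← hsup, Subgroup.map_sup]
    exact sup_le hQ h
  intro n hn
  exact h2 ⟨⟨n, hn⟩, trivial, rfl⟩

end CoprimePart

end CfsgLib.FixSixth
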