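import Cfsg.Agent.Lib.FixSixth.SL2Elem
import Mathlib.FieldTheory.IsAlgClosed.AlgebraicClosure

/-!
S5720, piece 4b, group theory: an elementary abelian `r`-group on which `SL(2, p)` acts without
fixed points, `-1` acting trivially, has rank at least `3` (at least `5` if `r ≠ p` and `p ≥ 11`),
and an element of order three fixes at most a square root of it.
-/

set_option autoImplicit false
set_option linter.style.haveILetI false

namespace CfsgLib.FixSixth.KExtra

open Module Polynomial
open scoped MatrixGroups

variable {p : ℕ} [Fact p.Prime]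

/-- A homomorphism from a perfect group is trivial if its values commute. -/
theorem hom_trivial {H A : Type*} [Group H] [Group A] (hperf : commutator H = ⊤) (f : H →* A)
    (hc : ∀ a b : H, Commute (f a) (f b)) (g : H) : f g = 1 := by
  have h : commutator H ≤ f.ker := by
    rw [commutator_def, Subgroup.commutator_le]
    intro a _ b _
    rw [MonoidHom.mem_ker, map_commutatorElement, commutatorElement_eq_one_iff_mul_comm]
    exact hc a b
  exact MonoidHom.mem_ker.1 (h (by rw [hperf]; trivial))

variable {B : Type*} [CommGroup B]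

theorem not_commute (hp : 3 ≤ p) (hperf : commutator SL(2, ZMod p) = ⊤)
    (A : SL(2, ZMod p) →* MulAut B) (hfix : ∀ b : B, (∀ g, A g b = b) → b = 1)
    (hnt : ∃ b : B, b ≠ 1) : ¬ Commute (A (xM p)) (A (wM p)) := by
  intro hc
  obtain ⟨b, hb⟩ := hnt
  refine hb (hfix b fun g => ?_)
  have hcyc : ∀ g, A g ∈ Subgroup.zpowers (A (xM p)) := by
    intro g
    have h : (⊤ : Subgroup SL(2, ZMod p)) ≤ (Subgroup.zpowers (A (xM p))).comap A := by
      rw [← closure_xM_conj_xM hp, Subgroup.closure_le]
      rintro y (rfl | rfl)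
      · exact Subgroup.mem_zpowers _
      · show A _ ∈ Subgroup.zpowers _
        rw [map_mul, map_mul, map_inv, ← hc.eq, mul_inv_cancel_right]
        exact Subgroup.mem_zpowers _
    exact h (Subgroup.mem_top g)
  rw [hom_trivial hperf A (fun a c => ?_) g]
  · rfl
  · obtain ⟨i, hi⟩ := hcyc a
    obtain ⟨j, hj⟩ := hcyc c
    rw [← hi, ← hj]
    exact (Commute.refl _).zpow_zpow i j

/-- `C × C` embeds by `(a, b) ↦ a * w b`, where `C` is the fixed group of the element of order 3. -/
theorem fix_sq_le [Finite B] (hp : 3 ≤ p) (A : SL(2, ZMod p) →* MulAut B)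
    (hfix : ∀ b : B, (∀ g, A g b = b) → b = 1) :
    Nat.card {b : B // A (xM p) b = b} * Nat.card {b : B // A (xM p) b = b} ≤ Nat.card B := by
  rw [← Nat.card_prod]
  refine Nat.card_le_card_of_injective (fun q => q.1.1 * A (wM p) q.2.1) ?_
  rintro ⟨⟨a, ha⟩, ⟨b, hb⟩⟩ ⟨⟨a', ha'⟩, ⟨b', hb'⟩⟩ h
  simp only at h
  have h1 : a'⁻¹ * a = A (wM p) (b' * b⁻¹) := by
    rw [map_mul, map_inv]
    calc a'⁻¹ * a = a'⁻¹ * (a * A (wM p) b) * (A (wM p) b)⁻¹ := by group
      _ = a'⁻¹ * (a' * A (wM p) b') * (A (wM p) b)⁻¹ := by rw [h]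
      _ = _ := by group
  set t := a'⁻¹ * a with ht
  have hfx : t = 1 := by
    refine hfix t fun g => ?_
    let S : Subgroup SL(2, ZMod p) :=
      { carrier := {g | A g t = t}
        one_mem' := by simp
        mul_mem' := fun {x y} hx hy => by
          simp only [Set.mem_setOf_eq, map_mul, MulAut.mul_apply] at *
          rw [hy, hx]
        inv_mem' := fun {x} hx => by
          simp only [Set.mem_setOf_eq, map_inv] at *
          conv_lhs => rw [← hx]
          simp }
    have hS : (⊤ : Subgroup SL(2, ZMod p)) ≤ S := by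
      rw [← closure_xM_conj_xM hp, Subgroup.closure_le]
      rintro y (rfl | rfl)
      · show A (xM p) t = t
        rw [ht, map_mul, map_inv, ha, ha']
      · show A (_ * _ * _) t = t
        rw [map_mul A, map_mul A, map_inv A, MulAut.mul_apply, MulAut.mul_apply, h1, MulAut.inv_apply,
          MulEquiv.symm_apply_apply, map_mul (A (xM p)), map_inv (A (xM p)), hb, hb']
    exact hS (Subgroup.mem_top g)
  have hb0 : b' * b⁻¹ = 1 := (A (wM p)).injective (by rw [← h1, hfx, map_one])
  obtain rfl : a' = a := inv_mul_eq_one.1 hfx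
  obtain rfl : b' = b := mul_inv_eq_one.1 hb0
  rfl

variable {r : ℕ} [Fact r.Prime]

theorem rank_bounds {W : Type*} [AddCommGroup W] [Module (ZMod r) W] [Finite W] (hp : 7 ≤ p)
    (hperf : commutator SL(2, ZMod p) = ⊤) (hr2 : r ≠ 2)
    (D : SL(2, ZMod p) →* Module.End (ZMod r) W) (hneg : D (-1) = 1)
    (hnc : ¬ Commute (D (xM p)) (D (wM p))) :
    3 ≤ finrank (ZMod r) W ∧ (r ≠ p → 11 ≤ p → 5 ≤ finrank (ZMod r) W) := by
  haveI : Module.Finite (ZMod r) W := Module.Finite.of_finite
  have h2 : (2 : ZMod r) ≠ 0 := fun e => hr2 <| by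
    have h := (ZMod.natCast_eq_zero_iff 2 r).1 (show ((2 : ℕ) : ZMod r) = 0 by exact_mod_cast e)
    exact (Nat.prime_dvd_prime_iff_eq Fact.out Nat.prime_two).1 h
  have hw : D (wM p) * D (wM p) = 1 := by rw [← map_mul, wM_sq, hneg]
  constructor
  · by_contra hd
    push Not at hd
    refine hnc ?_
    suffices h : ∃ s : ZMod r, D (wM p) = s • 1 by
      obtain ⟨s, hs⟩ := h
      rw [hs]
      exact (Commute.one_right _).smul_right s
    let e := LinearMap.toMatrixAlgEquiv (Module.finBasis (ZMod r) W)
    suffices h : ∃ s : ZMod r, e (D (wM p)) = s • 1 by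
      obtain ⟨s, hs⟩ := h
      exact ⟨s, e.injective (by rw [hs, map_smul, map_one])⟩
    have hdet : (e (D (wM p))).det = 1 := by
      let f : SL(2, ZMod p) →* (ZMod r)ˣ :=
        ((Matrix.detMonoidHom).comp (e.toAlgHom.toMonoidHom.comp D)).toHomUnits
      have := congrArg Units.val (hom_trivial hperf f (fun a b => Commute.all _ _) (wM p))
      exact this
    have hsq : e (D (wM p)) * e (D (wM p)) = 1 := by rw [← map_mul, hw, map_one]
    generalize e (D (wM p)) = S at hdet hsq
    revert S
    generalize finrank (ZMod r) W = d at hd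
    intro S hdet hsq
    interval_cases d
    · exact ⟨1, Subsingleton.elim _ _⟩
    · exact ⟨S 0 0, by ext i j; fin_cases i; fin_cases j; simp⟩
    · rw [Matrix.det_fin_two] at hdet
      have e00 := congrFun (congrFun hsq 0) 0
      have e01 := congrFun (congrFun hsq 0) 1
      have e10 := congrFun (congrFun hsq 1) 0
      have e11 := congrFun (congrFun hsq 1) 1
      simp [Matrix.mul_apply, Fin.sum_univ_two] at e00 e01 e10 e11
      set t := S 0 0 + S 1 1
      have h00 : t * S 0 0 = 2 := by linear_combination e00 + hdet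
      have h11 : t * S 1 1 = 2 := by linear_combination e11 + hdet
      have ht : t ≠ 0 := fun h => h2 (by rw [← h00, h, zero_mul])
      have h01 : t * S 0 1 = 0 := by linear_combination e01
      have h10 : t * S 1 0 = 0 := by linear_combination e10
      refine ⟨S 0 0, ?_⟩
      ext i j
      fin_cases i <;> fin_cases j <;> simp
      · exact (mul_eq_zero.1 h01).resolve_left ht
      · exact (mul_eq_zero.1 h10).resolve_left ht
      · exact mul_left_cancel₀ ht (h11.trans h00.symm)
  · intro hrp h11
    set T := D (uM p 1) with hT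
    have hpr : ¬ r ∣ p := fun h => hrp ((Nat.prime_dvd_prime_iff_eq Fact.out Fact.out).1 h)
    have hTp : T ^ p = 1 := by
      rw [hT, ← map_pow, uM_pow, ZMod.natCast_self, zero_mul, uM_zero, map_one]
    have hT1 : T ≠ 1 := by
      intro h
      refine hnc ?_
      rw [hT, ← xM_mul_wM, map_mul] at h
      have h' : D (xM p) = D (wM p) := by
        calc D (xM p) = D (xM p) * (D (wM p) * D (wM p)) := by rw [hw, mul_one]
          _ = _ := by rw [← mul_assoc, h, one_mul]
      rw [h']
    set m := minpoly (ZMod r) T
    have hmon : m.Monic := minpoly.monic (Algebra.IsIntegral.isIntegral T)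
    have hdvd : m ∣ X ^ p - 1 := minpoly.dvd _ _ (by simp [hTp])
    set L := AlgebraicClosure (ZMod r)
    set mL := m.map (algebraMap (ZMod r) L) with hmL
    have hmL0 : mL ≠ 0 := (hmon.map _).ne_zero
    -- a primitive root
    obtain ⟨ζ, hζ, hζ1⟩ : ∃ ζ : L, mL.IsRoot ζ ∧ ζ ≠ 1 := by
      by_contra hno
      push Not at hno
      have hall : mL = (X - C 1) ^ mL.roots.card := by
        conv_lhs => rw [(IsAlgClosed.splits mL).eq_prod_roots_of_monic (hmon.map _)]
        rw [Multiset.eq_replicate.2 ⟨rfl, fun a ha => hno a ((mem_roots hmL0).1 ha)⟩]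
        simp
      have hm : m = (X - C 1) ^ mL.roots.card := by
        refine Polynomial.map_injective _ (algebraMap (ZMod r) L).injective ?_
        rw [← hmL]
        refine hall.trans ?_
        simp
      set n := mL.roots.card
      have h0 : (T - 1) ^ n = 0 := by
        have h := minpoly.aeval (ZMod r) T
        rw [show minpoly (ZMod r) T = m from rfl, hm] at h
        simpa using h
      have h1 : (T - 1) ^ (r ^ n) = 0 :=
        pow_eq_zero_of_le (Nat.lt_pow_self (Fact.out : r.Prime).one_lt).le h0
      haveI : Nontrivial (Module.End (ZMod r) W) := ⟨⟨T, 1, hT1⟩⟩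
      haveI : CharP (Module.End (ZMod r) W) r :=
        charP_of_injective_algebraMap (algebraMap (ZMod r) (Module.End (ZMod r) W)).injective r
      rw [sub_pow_char_pow_of_commute (p := r) n (Commute.one_right T), one_pow, sub_eq_zero] at h1
      have hcop : Nat.gcd (r ^ n) p = 1 :=
        Nat.Coprime.pow_left n ((Nat.coprime_primes Fact.out Fact.out).2 hrp)
      exact hT1 (by simpa [hcop] using pow_gcd_eq_one.2 ⟨h1, hTp⟩)
    have hζp : ζ ^ p = 1 := by
      have h : (((X : (ZMod r)[X]) ^ p - 1).map (algebraMap (ZMod r) L)).IsRoot ζ :=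
        hζ.dvd (Polynomial.map_dvd _ hdvd)
      simpa [sub_eq_zero] using h
    have hord : orderOf ζ = p := orderOf_eq_prime hζp hζ1
    -- the roots contain all square powers
    have hpow : ∀ a : ℕ, (a : ZMod p) ≠ 0 → mL.IsRoot (ζ ^ (a * a)) := by
      intro a ha
      set l := Units.mk0 (a : ZMod p) ha with hl
      have hconj : uM p 1 ^ (a * a) = tM p l * uM p 1 * (tM p l)⁻¹ := by
        rw [eq_mul_inv_iff_mul_eq, uM_pow]
        refine Subtype.ext ?_
        rw [Matrix.SpecialLinearGroup.coe_mul, Matrix.SpecialLinearGroup.coe_mul, uM_val, uM_val,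
          tM_val]
        ext i j
        fin_cases i <;> fin_cases j <;> simp [Matrix.mul_apply, hl]
      have hDi : D ((tM p l)⁻¹) * D (tM p l) = 1 := by rw [← map_mul, inv_mul_cancel, map_one]
      have key : ∀ q : (ZMod r)[X], aeval (T ^ (a * a)) q = D (tM p l) * aeval T q * D (tM p l)⁻¹ := by
        intro q
        rw [hT, ← map_pow, hconj, map_mul, map_mul]
        induction q using Polynomial.induction_on' with
        | add f g hf hg => rw [map_add, map_add, hf, hg, mul_add, add_mul]
        | monomial n c =>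
          rw [aeval_monomial, aeval_monomial]
          have hp' : ∀ n : ℕ, (D (tM p l) * D (uM p 1) * D (tM p l)⁻¹) ^ n =
              D (tM p l) * D (uM p 1) ^ n * D (tM p l)⁻¹ := by
            intro n
            induction n with
            | zero => rw [pow_zero, pow_zero, mul_one, ← map_mul, mul_inv_cancel, map_one]
            | succ n ih =>
              rw [pow_succ, ih, pow_succ]
              calc _ = D (tM p l) * D (uM p 1) ^ n * (D (tM p l)⁻¹ * D (tM p l)) * D (uM p 1) *
                    D (tM p l)⁻¹ := by simp only [mul_assoc]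
                _ = _ := by rw [hDi, mul_one]; simp only [mul_assoc]
          rw [hp']
          simp only [← Algebra.smul_def, smul_mul_assoc, mul_smul_comm]
      have h2 : aeval T (m.comp (X ^ (a * a))) = 0 := by
        rw [aeval_comp, map_pow, aeval_X, key, minpoly.aeval, mul_zero, zero_mul]
      have h3 : (((m.comp (X ^ (a * a))).map (algebraMap (ZMod r) L))).IsRoot ζ :=
        hζ.dvd (Polynomial.map_dvd _ (minpoly.dvd _ _ h2))
      simpa [hmL, Polynomial.map_comp] using h3
    classical
    let s : Finset L := (Finset.Icc 1 5).image fun a => ζ ^ (a * a)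
    have hs : s.card = 5 := by
      rw [Finset.card_image_of_injOn]
      · rfl
      · intro a ha b hb h
        simp only [Finset.coe_Icc, Set.mem_Icc] at ha hb
        have hm := (isOfFinOrder_iff_pow_eq_one.2 ⟨p, by omega, hζp⟩).pow_eq_pow_iff_modEq.1 (show ζ ^ (a * a) = ζ ^ (b * b) from h)
        rw [hord, ← ZMod.natCast_eq_natCast_iff] at hm
        push_cast at hm
        rcases mul_self_eq_mul_self_iff.1 hm with e | e
        · rw [ZMod.natCast_eq_natCast_iff', Nat.mod_eq_of_lt (by omega), Nat.mod_eq_of_lt (by omega)] at e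
          exact e
        · have e' : ((a + b : ℕ) : ZMod p) = 0 := by push_cast; rw [e]; ring
          rw [ZMod.natCast_eq_zero_iff] at e'
          have := Nat.le_of_dvd (by omega) e'
          omega
    have hsub : s ⊆ mL.roots.toFinset := by
      intro y hy
      obtain ⟨a, ha, rfl⟩ := Finset.mem_image.1 hy
      rw [Finset.mem_Icc] at ha
      rw [Multiset.mem_toFinset, mem_roots hmL0]
      refine hpow a fun e => ?_
      rw [ZMod.natCast_eq_zero_iff] at e
      have := Nat.le_of_dvd (by omega) e
      omega
    calc 5 = s.card := hs.symm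
      _ ≤ mL.roots.toFinset.card := Finset.card_le_card hsub
      _ ≤ mL.roots.card := Multiset.toFinset_card_le _
      _ ≤ mL.natDegree := card_roots' _
      _ = m.natDegree := natDegree_map _
      _ ≤ (LinearMap.charpoly T).natDegree :=
        natDegree_le_of_dvd (LinearMap.minpoly_dvd_charpoly T) (LinearMap.charpoly_monic T).ne_zero
      _ = _ := LinearMap.charpoly_natDegree T

/-- **The share of the fixed characters.** -/
theorem fix_bound [Finite B] (hp : 7 ≤ p) (hperf : commutator SL(2, ZMod p) = ⊤) (hr2 : r ≠ 2)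
    (hexp : ∀ b : B, b ^ r = 1) (A : SL(2, ZMod p) →* MulAut B)
    (hfix : ∀ b : B, (∀ g, A g b = b) → b = 1) (hneg : A (-1) = 1) (hnt : ∃ b : B, b ≠ 1) :
    r ^ 2 * Nat.card {b : B // A (xM p) b = b} ≤ Nat.card B ∧
      (r ≠ p → 11 ≤ p → r ^ 3 * Nat.card {b : B // A (xM p) b = b} ≤ Nat.card B) := by
  letI : Module (ZMod r) (Additive B) := AddCommGroup.zmodModule (n := r) (fun x => hexp (Additive.toMul x))
  let D : SL(2, ZMod p) →* Module.End (ZMod r) (Additive B) :=
    { toFun := fun g => AddMonoidHom.toZModLinearMap r (MonoidHom.toAdditive (A g).toMonoidHom)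
      map_one' := by
        refine LinearMap.ext fun x => ?_
        show Additive.ofMul ((A 1).toMonoidHom (Additive.toMul x)) = _
        simp
      map_mul' := fun g h => by
        refine LinearMap.ext fun x => ?_
        show Additive.ofMul (A (g * h) (Additive.toMul x)) = Additive.ofMul (A g (A h (Additive.toMul x)))
        rw [map_mul]; rfl }
  have hDA : ∀ g h, D g = D h → A g = A h := fun g h e => MulEquiv.ext fun b =>
    LinearMap.congr_fun e (Additive.ofMul b)
  have hDn : D (-1) = 1 := by
    refine LinearMap.ext fun x => ?_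
    show Additive.ofMul (A (-1) (Additive.toMul x)) = x
    rw [hneg]; rfl
  have hnc : ¬ Commute (D (xM p)) (D (wM p)) := fun h => by
    refine not_commute (le_trans (by norm_num) hp) hperf A hfix hnt ?_
    have := hDA (xM p * wM p) (wM p * xM p) ((D.map_mul _ _).trans (h.eq.trans (D.map_mul _ _).symm))
    rwa [map_mul, map_mul] at this
  obtain ⟨hd3, hd5⟩ := rank_bounds hp hperf hr2 D hDn hnc
  have hcard : Nat.card B = r ^ finrank (ZMod r) (Additive B) := by
    rw [← Nat.card_congr (Additive.ofMul (α := B)).symm, Module.natCard_eq_pow_finrank (K := ZMod r),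
      Nat.card_zmod]
  have hr : 1 < r := (Fact.out : r.Prime).one_lt
  -- the fixed points form a subgroup, whose order is a power of `r`
  let C : Subgroup B :=
    { carrier := {b | A (xM p) b = b}
      one_mem' := map_one _
      mul_mem' := fun {a b} (ha : _ = _) (hb : _ = _) => by
        show A (xM p) (a * b) = a * b
        rw [map_mul, ha, hb]
      inv_mem' := fun {a} (ha : _ = _) => by
        show A (xM p) a⁻¹ = a⁻¹
        rw [map_inv, ha] }
  obtain ⟨e, -, he⟩ := (Nat.dvd_prime_pow Fact.out).1 (hcard ▸ Subgroup.card_subgroup_dvd_card C)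
  have hC : Nat.card {b : B // A (xM p) b = b} = r ^ e := he
  have hsq := fix_sq_le (le_trans (by norm_num) hp) A hfix
  rw [hC, hcard, ← pow_add, Nat.pow_le_pow_iff_right hr] at hsq
  rw [hC, hcard, ← pow_add, ← pow_add, Nat.pow_le_pow_iff_right hr, Nat.pow_le_pow_iff_right hr]
  exact ⟨by omega, fun h1 h2 => by have := hd5 h1 h2; omega⟩

end CfsgLib.FixSixth.KExtra
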