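import Cfsg.Agent.Lib.FixSixth.KernelGrade
import Cfsg.Agent.Lib.FixSixth.KernelGroup
import Cfsg.Agent.Lib.FixSixth.Averaging

/-!
S5720, piece 4b: the kernel contains an extraspecial-type section, scalar at the bottom.
-/

set_option autoImplicit false
set_option linter.style.haveILetI false

namespace CfsgLib.FixSixth

open Module
open scoped MatrixGroups commutatorElement

namespace KExtra

variable {G : Type*} [Group G] {K V : Type*} [Field K] [AddCommGroup V] [Module K V]

/-- The elements of `O` acting as scalars. -/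
def scal (ρ : Representation K G V) (O : Subgroup G) : Subgroup G where
  carrier := {o | o ∈ O ∧ ∃ c : K, ρ o = c • 1}
  one_mem' := ⟨O.one_mem, 1, by rw [map_one, one_smul]⟩
  mul_mem' := by
    rintro a b ⟨ha, c, hc⟩ ⟨hb, d, hd⟩
    exact ⟨O.mul_mem ha hb, c * d, by rw [map_mul, hc, hd, smul_mul_smul_comm, one_mul]⟩
  inv_mem' := by
    rintro a ⟨ha, c, hc⟩
    refine ⟨O.inv_mem ha, c⁻¹, ?_⟩
    have h : ρ a⁻¹ * ρ a = 1 := by rw [← map_mul, inv_mul_cancel, map_one]
    rw [hc, mul_smul_comm, mul_one] at h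
    by_cases h0 : c = 0
    · rw [h0, zero_smul] at h
      rw [← mul_one (ρ a⁻¹), ← h, mul_zero, smul_zero]
    · rw [← h, smul_smul, inv_mul_cancel₀ h0, one_smul]

theorem mem_scal {ρ : Representation K G V} {O : Subgroup G} {o : G} :
    o ∈ scal ρ O ↔ o ∈ O ∧ ∃ c : K, ρ o = c • 1 := Iff.rfl

instance scal_normal (ρ : Representation K G V) (O : Subgroup G) [hN : O.Normal] :
    (scal ρ O).Normal := ⟨by
  rintro o ⟨ho, c, hc⟩ g
  refine ⟨hN.conj_mem o ho g, c, ?_⟩
  rw [map_mul, map_mul, hc, mul_smul_comm, mul_one, smul_mul_assoc, ← map_mul, mul_inv_cancel,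
    map_one]⟩

variable [Finite G]

theorem exists_section (ρ : Representation K G V) (O : Subgroup G) [O.Normal]
    (hnil : Group.IsNilpotent O) (hne : ¬ O ≤ scal ρ O) :
    ∃ E : Subgroup G, E.Normal ∧ E ≤ O ∧ scal ρ O < E ∧
      (∀ e ∈ E, ∀ o ∈ O, ⁅e, o⁆ ∈ scal ρ O) ∧
      ∀ N : Subgroup G, N.Normal → scal ρ O < N → N ≤ E → N = E := by
  set Z := scal ρ O
  set q := QuotientGroup.mk' Z
  set Q := O.map q
  haveI : Q.Normal := Subgroup.Normal.map inferInstance q (QuotientGroup.mk'_surjective Z)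
  haveI : Group.IsNilpotent O := hnil
  haveI : Group.IsNilpotent Q :=
    Group.nilpotent_of_surjective (q.subgroupMap O) (q.subgroupMap_surjective O)
  obtain ⟨o1, ho1, ho1'⟩ := SetLike.not_le_iff_exists.1 hne
  haveI : Nontrivial Q := ⟨⟨⟨q o1, Subgroup.mem_map_of_mem q ho1⟩, 1, fun h => ho1'
    ((QuotientGroup.eq_one_iff o1).1 (congrArg Subtype.val h))⟩⟩
  obtain ⟨⟨⟨y, hyQ⟩, hy⟩, hy1'⟩ := Subgroup.ne_bot_iff_exists_ne_one.1
    (Group.IsNilpotent.center_ne_bot (G := Q))
  have hy1 : (⟨y, hyQ⟩ : Q) ≠ 1 := fun h => hy1' (Subtype.ext h)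
  obtain ⟨w, hw, rfl⟩ := Subgroup.mem_map.1 hyQ
  let Z2 : Subgroup G := O ⊓ (Subgroup.centralizer (Q : Set (G ⧸ Z))).comap q
  have hZ2 : ∀ e ∈ Z2, ∀ o ∈ O, ⁅e, o⁆ ∈ Z := by
    rintro e ⟨-, he⟩ o ho
    refine (QuotientGroup.eq_one_iff _).1 ?_
    show q ⁅e, o⁆ = 1
    rw [map_commutatorElement, commutatorElement_eq_one_iff_mul_comm]
    exact (Subgroup.mem_centralizer_iff.1 he _ (Subgroup.mem_map_of_mem q ho)).symm
  have hlt : Z < Z2 := by
    refine lt_of_le_of_ne (fun z hz => ⟨hz.1, ?_⟩) fun e => hy1 ?_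
    · show q z ∈ Subgroup.centralizer _
      rw [show q z = 1 from (QuotientGroup.eq_one_iff z).2 hz]
      exact Subgroup.one_mem _
    · refine Subtype.ext ((QuotientGroup.eq_one_iff w).2 ?_)
      rw [e]
      refine ⟨hw, Subgroup.mem_centralizer_iff.2 fun a ha => ?_⟩
      exact congrArg Subtype.val (Subgroup.mem_center_iff.1 hy ⟨a, ha⟩)
  obtain ⟨E, ⟨hEn, hZE, hE2⟩, hmin⟩ := exists_minimal_of_wellFoundedLT
    (fun E : Subgroup G => E.Normal ∧ Z < E ∧ E ≤ Z2) ⟨Z2, inferInstance, hlt, le_rfl⟩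
  exact ⟨E, hEn, hE2.trans inf_le_left, hZE, fun e he => hZ2 e (hE2 he),
    fun N hN hZN hNE => le_antisymm hNE (hmin ⟨hN, hZN, hNE.trans hE2⟩ hNE)⟩

theorem smul_cancel (hV : ∃ v : V, v ≠ 0) (ρ : Representation K G V) {g : G} {c d : K}
    (h : c • ρ g = d • ρ g) : c = d := by
  obtain ⟨v, hv⟩ := hV
  have h1 : c • v = d • v := by
    have h2 := congrArg (fun f => f * ρ g⁻¹) h
    simp only [smul_mul_assoc, ← map_mul, mul_inv_cancel, map_one] at h2
    simpa using LinearMap.congr_fun h2 v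
  exact smul_left_injective K hv h1

theorem scalar_ne_zero (hV : ∃ v : V, v ≠ 0) (ρ : Representation K G V) {g : G} {c : K}
    (h : ρ g = c • 1) : c ≠ 0 := by
  rintro rfl
  refine one_ne_zero (smul_cancel hV ρ (g := g) (c := 1) (d := 0) ?_)
  rw [h, one_smul, zero_smul, zero_smul]

end KExtra

open KExtra

set_option maxHeartbeats 1600000 in
/-- **The remaining case of the kernel lemma.** -/
theorem kernel_extra {p : ℕ} [Fact p.Prime] {G : Type*} [Group G] [Finite G] (C : Cover p G)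
    {K V : Type*} [Field K] [IsAlgClosed K] [AddCommGroup V] [Module K V] [FiniteDimensional K V]
    (_h2 : (2 : K) ≠ 0) (h3 : (3 : K) ≠ 0) (ρ : Representation K G V) (hρ : IsSimpleRep ρ) {x : G}
    (hx : orderOf x = 3) (hO : ∃ o ∈ C.π.ker, ρ o ≠ 1)
    (hZ : ∀ o ∈ C.π.ker, (∀ o' ∈ C.π.ker, ρ (o * o') = ρ (o' * o)) →
      ∃ c : K, ρ o = c • 1) :
    finrank K V ≤ 6 * fixDim ρ x ∧
      ((p : K) = 0 → 11 ≤ p → finrank K V ≤ 4 * fixDim ρ x) := by
  classical
  have hV := hρ.1
  set O := C.π.ker with hOdef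
  set Z := scal ρ O with hZdef
  have hp := C.seven_le
  -- the scalars are a proper subgroup
  have hne : ¬ O ≤ Z := by
    intro hle
    obtain ⟨o, ho, hne⟩ := hO
    refine hne ?_
    have h : (⁅O, (⊤ : Subgroup G)⁆ : Subgroup G) ≤ ρ.asGroupHom.ker := by
      rw [Subgroup.commutator_le]
      intro a ha g _
      obtain ⟨-, c, hc⟩ := hle ha
      rw [MonoidHom.mem_ker]
      refine Units.ext ?_
      rw [map_commutatorElement, commutatorElement_def]
      have : Commute (ρ.asGroupHom a) (ρ.asGroupHom g) := Units.ext (by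
        show ρ a * ρ g = ρ g * ρ a
        rw [hc, smul_mul_assoc, one_mul, mul_smul_comm, mul_one])
      rw [this.eq, mul_inv_cancel_right, mul_inv_cancel]
    rw [C.ker_comm] at h
    simpa [Representation.asGroupHom_apply] using congrArg Units.val (MonoidHom.mem_ker.1 (h ho))
  obtain ⟨E, hEn, hEO, hZE, hcomm, hmin⟩ := exists_section ρ O C.nil hne
  haveI := hEn
  -- the commutator pairing
  have hex : ∀ (e : E) (o : O), ∃ c : Kˣ, ρ ((e : G) * o) = (c : K) • ρ ((o : G) * e) := by
    intro e o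
    obtain ⟨-, c, hc⟩ := hcomm e e.2 o o.2
    refine ⟨Units.mk0 c (scalar_ne_zero hV ρ hc), ?_⟩
    have : ρ ((e : G) * o) = ρ (⁅(e : G), (o : G)⁆ * ((o : G) * e)) := by
      congr 1; rw [commutatorElement_def]; group
    rw [this, map_mul ρ ⁅(e : G), (o : G)⁆, hc, smul_mul_assoc, one_mul, Units.val_mk0]
  choose c hc using hex
  have huniq : ∀ (e : E) (o : O) (d : Kˣ), ρ ((e : G) * o) = (d : K) • ρ ((o : G) * e) → c e o = d :=
    fun e o d h => Units.ext (smul_cancel hV ρ ((hc e o).symm.trans h))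
  have hcl : ∀ (e e' : E) (o : O), c (e * e') o = c e o * c e' o := fun e e' o => huniq _ _ _ (by
    rw [Subgroup.coe_mul, mul_assoc, map_mul, hc e' o, mul_smul_comm, ← map_mul, ← mul_assoc,
      map_mul ρ _ (e' : G), hc e o, smul_mul_assoc, ← map_mul, smul_smul, mul_assoc, Units.val_mul,
      mul_comm (c e o : K)])
  have hcr : ∀ (e : E) (o o' : O), c e (o * o') = c e o * c e o' := fun e o o' => huniq _ _ _ (by
    rw [Subgroup.coe_mul, ← mul_assoc, map_mul, hc e o, smul_mul_assoc, ← map_mul, mul_assoc,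
      map_mul, hc e o', mul_smul_comm, ← map_mul, smul_smul, mul_assoc, Units.val_mul])
  let cE : E →* (O →* Kˣ) := MonoidHom.mk' (fun e => MonoidHom.mk' (c e) (hcr e))
    fun e e' => MonoidHom.ext fun o => hcl e e' o
  let cT : O →* (E →* Kˣ) := cE.flip
  have hcE : ∀ e : E, cE e = 1 ↔ (e : G) ∈ Z := by
    intro e
    constructor
    · intro h
      refine ⟨hEO e.2, hZ _ (hEO e.2) fun o' ho' => ?_⟩
      have h1 := hc e ⟨o', ho'⟩
      rw [show c e ⟨o', ho'⟩ = 1 from DFunLike.congr_fun h ⟨o', ho'⟩, Units.val_one, one_smul] at h1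
      exact h1
    · rintro ⟨-, d, hd⟩
      refine MonoidHom.ext fun o => huniq e o 1 ?_
      rw [Units.val_one, one_smul, map_mul, map_mul, hd, smul_mul_assoc, one_mul, mul_smul_comm,
        mul_one]
  have hsc : ∀ e e' : E, cE e = cE e' → ∃ μ : K, μ ≠ 0 ∧ ρ (e : G) = μ • ρ (e' : G) := by
    intro e e' h
    obtain ⟨-, d, hd⟩ := (hcE (e * e'⁻¹)).1 (by rw [map_mul, map_inv, h, mul_inv_cancel])
    refine ⟨d, scalar_ne_zero hV ρ hd, ?_⟩
    rw [Subgroup.coe_mul, Subgroup.coe_inv] at hd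
    calc ρ (e : G) = ρ ((e : G) * (e' : G)⁻¹) * ρ (e' : G) := by rw [← map_mul, inv_mul_cancel_right]
      _ = _ := by rw [hd, smul_mul_assoc, one_mul]
  -- conjugation
  have hinv : ∀ (g : G) (e : E) (o : O),
      c (MulAut.conjNormal g e) (MulAut.conjNormal g o) = c e o := by
    intro g e o
    refine huniq _ _ _ ?_
    rw [MulAut.conjNormal_apply, MulAut.conjNormal_apply,
      show g * e * g⁻¹ * (g * o * g⁻¹) = g * ((e : G) * o) * g⁻¹ by group,
      show g * o * g⁻¹ * (g * e * g⁻¹) = g * ((o : G) * e) * g⁻¹ by group,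
      map_mul ρ _ g⁻¹, map_mul ρ _ g⁻¹, map_mul ρ g, map_mul ρ g, hc e o, mul_smul_comm,
      smul_mul_assoc]
  have hconj : ∀ (g : G) (o : O) (e : E),
      c (MulAut.conjNormal g⁻¹ e) o = c e (MulAut.conjNormal g o) := fun g o e => by
    conv_rhs => rw [show e = MulAut.conjNormal g (MulAut.conjNormal g⁻¹ e) by simp [map_inv]]
    rw [hinv]
  let σ : G → (E →* Kˣ) → (E →* Kˣ) := fun g k => k.comp (MulAut.conjNormal g⁻¹ : E ≃* E).toMonoidHom
  have hσT : ∀ g o, σ g (cT o) = cT (MulAut.conjNormal g o) := fun g o =>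
    MonoidHom.ext fun e => hconj g o e
  have hσmem : ∀ g k, k ∈ cT.range → σ g k ∈ cT.range := by
    rintro g _ ⟨o, rfl⟩
    exact ⟨_, (hσT g o).symm⟩
  let B := cT.range
  let M := cE.range
  let act : G →* MulAut B :=
    { toFun := fun g =>
        { toFun := fun k => ⟨σ g k, hσmem g k k.2⟩
          invFun := fun k => ⟨σ g⁻¹ k, hσmem g⁻¹ k k.2⟩
          left_inv := fun k => Subtype.ext (MonoidHom.ext fun e => by simp [σ])
          right_inv := fun k => Subtype.ext (MonoidHom.ext fun e => by simp [σ])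
          map_mul' := fun k l => Subtype.ext (MonoidHom.ext fun e => by simp [σ]) }
      map_one' := MulEquiv.ext fun k => Subtype.ext (MonoidHom.ext fun e => by simp [σ])
      map_mul' := fun g h => MulEquiv.ext fun k => Subtype.ext (MonoidHom.ext fun e => by
        simp [σ, mul_inv_rev]) }
  have hactT : ∀ g o, act g (cT.rangeRestrict o) = cT.rangeRestrict (MulAut.conjNormal g o) :=
    fun g o => Subtype.ext (hσT g o)
  have hBsurj : Function.Surjective cT.rangeRestrict := cT.rangeRestrict_surjective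
  have hMsurj : Function.Surjective cE.rangeRestrict := cE.rangeRestrict_surjective
  haveI : Finite B := Finite.of_surjective _ hBsurj
  haveI : Finite M := Finite.of_surjective _ hMsurj
  have hact : C.π.ker ≤ act.ker := by
    intro d hd
    refine MonoidHom.mem_ker.2 (MulEquiv.ext fun k => ?_)
    obtain ⟨o, rfl⟩ := hBsurj k
    rw [hactT, MulAut.one_apply,
      show MulAut.conjNormal d o = ⟨d, hd⟩ * o * (⟨d, hd⟩ : O)⁻¹ from
        Subtype.ext (by simp [MulAut.conjNormal_apply]),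
      map_mul, map_mul, map_inv, mul_comm _ (cT.rangeRestrict o), mul_inv_cancel_right]
  let A : SL(2, ZMod p) →* MulAut B := C.π.liftOfSurjective C.surj ⟨act, hact⟩
  have hA : ∀ g, A (C.π g) = act g := fun g =>
    C.π.liftOfRightInverse_comp_apply _ _ ⟨act, hact⟩ g
  have hperf : commutator SL(2, ZMod p) = ⊤ := by
    have h := Subgroup.map_commutator (⊤ : Subgroup G) ⊤ C.π
    rw [← commutator_def, C.perfect, Subgroup.map_top_of_surjective _ C.surj] at h
    rw [commutator_def]
    exact h.symm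
  have hfix : ∀ k : B, (∀ g, A g k = k) → k = 1 := by
    intro k hk
    by_contra hk1
    obtain ⟨o, ho⟩ := hBsurj k
    have hke : ∀ (g : G) (e : E), (k : E →* Kˣ) (MulAut.conjNormal g e) = (k : E →* Kˣ) e := by
      intro g e
      have h := DFunLike.congr_fun (congrArg Subtype.val ((hA g⁻¹).symm ▸ hk (C.π g⁻¹))) e
      simpa [act, σ] using h
    let N : Subgroup G := (k : E →* Kˣ).ker.map E.subtype
    have hNn : N.Normal := ⟨by
      rintro _ ⟨e, he, rfl⟩ g
      exact ⟨MulAut.conjNormal g e, (hke g e).trans he, rfl⟩⟩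
    have hZN : Z ≤ N := fun z hz => ⟨⟨z, hZE.le hz⟩, by
      show (k : E →* Kˣ) _ = 1
      rw [← ho]
      exact DFunLike.congr_fun ((hcE ⟨z, hZE.le hz⟩).2 hz) o, rfl⟩
    have hNE : N ≤ E := Subgroup.map_subtype_le _
    have hNZ : N = Z := by
      by_contra hne'
      have hN := hmin N hNn (lt_of_le_of_ne hZN (Ne.symm hne')) hNE
      refine hk1 (Subtype.ext (MonoidHom.ext fun e => ?_))
      have hmem : (e : G) ∈ N := by rw [hN]; exact e.2
      obtain ⟨e', he', heq⟩ := hmem
      rw [← Subtype.ext heq]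
      exact he'
    refine hZE.not_ge fun e he => ⟨hEO he, hZ e (hEO he) fun o' ho' => ?_⟩
    have hg : ∀ g : G, ∃ d : Kˣ, ρ (g * e) = (d : K) • ρ (e * g) := by
      intro g
      obtain ⟨-, d, hd⟩ : g * e * g⁻¹ * e⁻¹ ∈ Z := by
        rw [← hNZ]
        refine ⟨MulAut.conjNormal g ⟨e, he⟩ * (⟨e, he⟩ : E)⁻¹, ?_, by simp⟩
        show (k : E →* Kˣ) _ = 1
        rw [map_mul, map_inv, hke, mul_inv_cancel]
      refine ⟨Units.mk0 d (scalar_ne_zero hV ρ hd), ?_⟩
      calc ρ (g * e) = ρ (g * e * g⁻¹ * e⁻¹) * ρ (e * g) := by rw [← map_mul]; congr 1; group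
        _ = _ := by rw [hd, smul_mul_assoc, one_mul, Units.val_mk0]
    choose d hd using hg
    let χ : G →* Kˣ := MonoidHom.mk' d fun g g' => Units.ext (smul_cancel hV ρ (g := e * (g * g')) (by
      rw [← hd, mul_assoc, map_mul, hd g', mul_smul_comm, ← map_mul, ← mul_assoc,
        map_mul ρ _ g', hd g, smul_mul_assoc, ← map_mul, smul_smul, mul_assoc, Units.val_mul,
        mul_comm (d g : K)]))
    have h1 : d o' = 1 := hom_trivial C.perfect χ (fun a b => Commute.all _ _) o'
    have := hd o'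
    rw [h1, Units.val_one, one_smul] at this
    exact this.symm
  have hneg : A (-1) = 1 := by
    rw [← C.z_map, hA]
    refine MulEquiv.ext fun k => ?_
    obtain ⟨o, rfl⟩ := hBsurj k
    rw [hactT, MulAut.one_apply]
    congr 1
    refine Subtype.ext ?_
    rw [MulAut.conjNormal_apply, ← Subgroup.mem_center_iff.1 C.z_central, mul_inv_cancel_right]
  -- the prime `r`
  obtain ⟨e0, he0, he0'⟩ := SetLike.exists_of_lt hZE
  set n := orderOf (QuotientGroup.mk e0 : G ⧸ Z) with hn
  have hn1 : n ≠ 1 := fun h => he0' ((QuotientGroup.eq_one_iff e0).1 (orderOf_eq_one_iff.1 h))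
  set r := n.minFac with hrdef
  haveI : Fact r.Prime := ⟨Nat.minFac_prime hn1⟩
  set e1 : E := ⟨e0 ^ (n / r), E.pow_mem he0 _⟩ with he1
  have hord : orderOf (QuotientGroup.mk (e1 : G) : G ⧸ Z) = r := by
    rw [he1]
    show orderOf (QuotientGroup.mk (e0 ^ (n / r)) : G ⧸ Z) = r
    rw [QuotientGroup.mk_pow]
    exact orderOf_pow_orderOf_div (orderOf_pos _).ne' n.minFac_dvd
  have he1Z : (e1 : G) ∉ Z := fun h => (Fact.out : r.Prime).ne_one
    (hord.symm.trans (orderOf_eq_one_iff.2 ((QuotientGroup.eq_one_iff _).2 h)))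
  let Er : Subgroup G :=
    ((powMonoidHom r : (O →* Kˣ) →* (O →* Kˣ)).comp cE).ker.map E.subtype
  have hErN : Er.Normal := ⟨by
    rintro _ ⟨e, he, rfl⟩ g
    refine ⟨MulAut.conjNormal g e, ?_, rfl⟩
    refine MonoidHom.ext fun o => ?_
    show c (MulAut.conjNormal g e) o ^ r = 1
    rw [show g = g⁻¹⁻¹ from (inv_inv g).symm, hconj]
    exact DFunLike.congr_fun (MonoidHom.mem_ker.1 he) _⟩
  have hZEr : Z < Er := by
    refine lt_of_le_of_ne (fun z hz => ⟨⟨z, hZE.le hz⟩, ?_, rfl⟩) fun h => he1Z ?_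
    · refine MonoidHom.ext fun o => ?_
      show c ⟨z, hZE.le hz⟩ o ^ r = 1
      rw [show c ⟨z, hZE.le hz⟩ o = 1 from DFunLike.congr_fun ((hcE ⟨z, hZE.le hz⟩).2 hz) o, one_pow]
    · rw [h]
      refine ⟨e1, ?_, rfl⟩
      show (cE e1) ^ r = 1
      refine (map_pow cE e1 r).symm.trans ((hcE _).2 ?_)
      rw [Subgroup.coe_pow]
      refine (QuotientGroup.eq_one_iff _).1 ?_
      rw [QuotientGroup.mk_pow, ← hord, pow_orderOf_eq_one]
  have hEr : Er = E := hmin Er hErN hZEr (Subgroup.map_subtype_le _)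
  have hcr' : ∀ e o, c e o ^ r = 1 := by
    intro e o
    have hmem : (e : G) ∈ Er := by rw [hEr]; exact e.2
    obtain ⟨e', he', heq⟩ := hmem
    rw [← Subtype.ext heq]
    exact DFunLike.congr_fun (MonoidHom.mem_ker.1 he') o
  obtain ⟨oB, hoB⟩ : ∃ o, c e1 o ≠ 1 := by
    by_contra h
    push Not at h
    exact he1Z ((hcE e1).1 (MonoidHom.ext h))
  have hrK : (r : K) ≠ 0 := by
    intro h
    haveI : CharP K r := (CharP.charP_iff_prime_eq_zero Fact.out).2 h
    refine hoB (Units.ext (frobenius_inj K r ?_))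
    simpa [frobenius_def] using congrArg Units.val (hcr' e1 oB)
  have hrO : r ∣ Nat.card O :=
    (hord ▸ orderOf_map_dvd (QuotientGroup.mk' Z) (e1 : G)).trans
      (Subgroup.orderOf_dvd_natCard O (hEO e1.2))
  have hr7 : 7 ≤ r := by
    have hpr : r.Prime := Fact.out
    have h15 : r.Coprime 15 := Nat.Coprime.coprime_dvd_left hrO C.coprime_fifteen
    have hodd : Odd r := C.odd_ker.of_dvd_nat hrO
    by_contra hlt
    push Not at hlt
    interval_cases r <;> revert hpr h15 hodd <;> decide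
  have hexpB : ∀ k : B, k ^ r = 1 := fun k => by
    obtain ⟨o, rfl⟩ := hBsurj k
    exact Subtype.ext (MonoidHom.ext fun e => hcr' e o)
  have hexpM : ∀ f : M, f ^ r = 1 := fun f => by
    obtain ⟨e, rfl⟩ := hMsurj f
    exact Subtype.ext (MonoidHom.ext fun o => hcr' e o)
  have hcardK : ∀ (H : Type _) [Group H] [Finite H], (∀ f : H, f ^ r = 1) → (Nat.card H : K) ≠ 0 := by
    intro H _ _ h
    obtain ⟨m, hm⟩ := IsPGroup.iff_card.1 (show IsPGroup r H from fun f => ⟨1, by rw [pow_one]; exact h f⟩)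
    rw [hm, Nat.cast_pow]
    exact pow_ne_zero _ hrK
  have hnt : ∃ k : B, k ≠ 1 := ⟨cT.rangeRestrict oB, fun h =>
    hoB (DFunLike.congr_fun (congrArg Subtype.val h) e1)⟩
  obtain ⟨hb2, hb3⟩ := fix_bound hp hperf (by omega) hexpB A hfix hneg hnt
  -- the grading
  obtain ⟨x0, hx0, hx0π⟩ := C.three_exists
  have hx03 : x0 ^ 3 = 1 := hx0 ▸ pow_orderOf_eq_one x0
  rw [fixDim_conj ρ (C.three_conj x x0 hx hx0)]
  let preE : M → E := Function.surjInv hMsurj
  let preB : B → O := Function.surjInv hBsurj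
  have hpreE : ∀ f : M, cE (preE f) = f := fun f => congrArg Subtype.val (Function.surjInv_eq hMsurj f)
  have hpreB : ∀ k : B, cT.rangeRestrict (preB k) = k := Function.surjInv_eq hBsurj
  have hu : ∀ g, ((ρ.asGroupHom g : (Module.End K V)ˣ) : Module.End K V) = ρ g := fun g => rfl
  let ψ : M → M := fun f => cE.rangeRestrict (MulAut.conjNormal x0 (preE f))
  have hψc : ∀ (g : G) (e e' : E), cE e = cE e' →
      cE (MulAut.conjNormal g e) = cE (MulAut.conjNormal g e') := by
    intro g e e' h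
    refine MonoidHom.ext fun o => ?_
    show c (MulAut.conjNormal g e) o = c (MulAut.conjNormal g e') o
    rw [show g = g⁻¹⁻¹ from (inv_inv g).symm, hconj, hconj]
    exact DFunLike.congr_fun h _
  have hψ : Function.Surjective ψ := fun f => by
    refine ⟨cE.rangeRestrict (MulAut.conjNormal x0⁻¹ (preE f)), Subtype.ext ?_⟩
    show cE _ = _
    rw [hψc x0 _ (MulAut.conjNormal x0⁻¹ (preE f)) (hpreE _)]
    rw [show MulAut.conjNormal x0 (MulAut.conjNormal x0⁻¹ (preE f)) = preE f by simp [map_inv], hpreE]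
  let F : Submodule K (Module.End K V) :=
    { carrier := {U | ρ x0 * U = U * ρ x0}
      add_mem' := fun {a b} (ha : _ = _) (hb : _ = _) => by
        show ρ x0 * (a + b) = (a + b) * ρ x0
        rw [mul_add, add_mul, ha, hb]
      zero_mem' := by show ρ x0 * 0 = 0 * ρ x0; rw [mul_zero, zero_mul]
      smul_mem' := fun r a (ha : _ = _) => by
        show ρ x0 * (r • a) = (r • a) * ρ x0
        rw [mul_smul_comm, smul_mul_assoc, ha] }
  have hgb := grade_bound (hcardK M hexpM) (hcardK B hexpB)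
    (fun f => ρ.asGroupHom (preE f)) (fun k => ρ.asGroupHom (preB k))
    (fun f k => (k : E →* Kˣ) (preE f))
    (by
      intro f g
      obtain ⟨μ, hμ, h⟩ := hsc (preE f * preE g) (preE (f * g))
        (by rw [map_mul, hpreE, hpreE, hpreE, Subgroup.coe_mul])
      refine ⟨μ, hμ, ?_⟩
      rw [hu, hu, hu, ← map_mul]
      exact h)
    (by
      intro f k
      rw [hu, hu, ← map_mul, ← map_mul, hc]
      conv_rhs => rw [← hpreB k]
      rw [hpreB]
      congr 2
      conv_rhs => rw [← hpreB k]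
      rfl)
    (by
      intro f g k
      obtain ⟨o, rfl⟩ := hBsurj k
      show cE (preE (f * g)) o = cE (preE f) o * cE (preE g) o
      rw [hpreE, hpreE, hpreE]
      rfl)
    (fun f k l => rfl)
    (by
      intro f hf
      by_contra h
      push Not at h
      refine hf (Subtype.ext (MonoidHom.ext fun o => ?_))
      rw [← hpreE f]
      exact h (cT.rangeRestrict o))
    (by
      intro k hk
      by_contra h
      push Not at h
      refine hk ?_
      obtain ⟨o, rfl⟩ := hBsurj k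
      refine Subtype.ext (MonoidHom.ext fun e => ?_)
      have := h (cE.rangeRestrict e)
      show cE e o = 1
      rw [show cE e = cE (preE (cE.rangeRestrict e)) from (hpreE (cE.rangeRestrict e)).symm]
      exact this)
    (ρ.asGroupHom x0) (A (xM p)).toEquiv
    (by
      intro k
      show A (xM p) (A (xM p) (A (xM p) k)) = k
      rw [← MulAut.mul_apply, ← MulAut.mul_apply, ← map_mul, ← map_mul, ← pow_three', xM_cube,
        map_one, MulAut.one_apply])
    ψ hψ
    (by
      intro k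
      set o := preB k
      set o1 := MulAut.conjNormal x0 o
      set o2 := preB ((A (xM p)).toEquiv k)
      have h12 : cT.rangeRestrict o1 = cT.rangeRestrict o2 := by
        rw [← hactT, hpreB, hpreB, ← hA, hx0π]
        rfl
      refine ⟨ρ ((o2⁻¹ * o1 : O) : G), fun f => ?_, ?_⟩
      · rw [hu, ← map_mul, ← map_mul, hc]
        have h1 : c (preE f) (o2⁻¹ * o1) = 1 := by
          have := DFunLike.congr_fun (congrArg Subtype.val
            (show cT.rangeRestrict (o2⁻¹ * o1) = 1 by rw [map_mul, map_inv, h12, inv_mul_cancel]))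
            (preE f)
          exact this
        rw [h1, Units.val_one, one_smul]
      · rw [hu, hu, hu, ← map_mul, ← map_mul, ← map_mul]
        congr 1
        simp [o1, MulAut.conjNormal_apply, mul_assoc])
    (by
      intro f
      obtain ⟨μ, hμ, h⟩ := hsc (MulAut.conjNormal x0 (preE f)) (preE (ψ f)) (hpreE (ψ f)).symm
      refine ⟨μ, hμ, ?_⟩
      rw [hu, hu, hu, ← smul_mul_assoc, ← h, ← map_mul, ← map_mul]
      congr 1
      simp [MulAut.conjNormal_apply])
    F (fun U hU => hU)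
  obtain ⟨m1, m2, hD, hF⟩ := commutant_lower h3 (ρ x0)
    (by rw [← map_mul, ← map_mul, ← pow_three', hx03, map_one]) F (fun S hS => hS)
  change 3 * Nat.card B * finrank K F ≤ finrank K V * finrank K V *
    (Nat.card B + 2 * Nat.card {k : B // A (xM p) k = k}) at hgb
  change finrank K V = fixDim ρ x0 + m1 + m2 at hD
  change fixDim ρ x0 * fixDim ρ x0 + m1 * m1 + m2 * m2 ≤ finrank K F at hF
  set nB := Nat.card B
  set nC := Nat.card {k : B // A (xM p) k = k}
  set D := finrank K V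
  set m0 := fixDim ρ x0
  have hBpos : 0 < nB := Nat.card_pos
  constructor
  · have h49 : 49 * nC ≤ nB :=
      le_trans (Nat.mul_le_mul_right _ (show 49 ≤ r ^ 2 by nlinarith)) hb2
    have h147 : 147 * finrank K F ≤ 51 * (D * D) := Nat.le_of_mul_le_mul_left (by nlinarith) hBpos
    by_contra hlt
    push Not at hlt
    zify at hlt hD hF h147
    nlinarith [sq_nonneg ((m1 : ℤ) - m2)]
  · intro hp0 h11
    have hrp : r ≠ p := fun h => hrK (h ▸ hp0)
    have h343 : 343 * nC ≤ nB :=
      le_trans (Nat.mul_le_mul_right _ (show 343 ≤ r ^ 3 from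
        le_trans (by norm_num) (Nat.pow_le_pow_left hr7 3))) (hb3 hrp h11)
    have h1029 : 1029 * finrank K F ≤ 345 * (D * D) := Nat.le_of_mul_le_mul_left (by nlinarith) hBpos
    by_contra hlt
    push Not at hlt
    zify at hlt hD hF h1029
    nlinarith [sq_nonneg ((m1 : ℤ) - m2)]

end CfsgLib.FixSixth
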