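import Cfsg.Agent.Lib.FixSixth.KernelCount
import Cfsg.Agent.Lib.FixSixth.KernelExtra

/-!
# The kernel estimates for an element of order three
-/

set_option autoImplicit false

namespace CfsgLib.FixSixth

variable {p : ℕ} [Fact p.Prime] {G : Type*} [Group G] [Finite G] (C : Cover p G)
variable {K V : Type*} [Field K] [IsAlgClosed K] [AddCommGroup V] [Module K V]
  [FiniteDimensional K V]

/-- A non-trivially acting kernel: a sixth is fixed by an element of order three. -/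
theorem kernel_six (h2 : (2 : K) ≠ 0) (h3 : (3 : K) ≠ 0) (ρ : Representation K G V)
    (hs : IsSimpleRep ρ) (hO : ∃ o ∈ C.π.ker, ρ o ≠ 1) {x : G} (hx : orderOf x = 3) :
    Module.finrank K V ≤ 6 * fixDim ρ x := by
  by_cases hZ : ∀ o ∈ C.π.ker, (∀ o' ∈ C.π.ker, ρ (o * o') = ρ (o' * o)) →
      ∃ c : K, ρ o = c • 1
  · exact (kernel_extra C h2 h3 ρ hs hx hO hZ).1
  · exact (kernel_monomial C h3 ρ hs hZ hx).1

/-- A non-trivially acting kernel in characteristic `p ≡ 2 (mod 3)`: a quarter is fixed. -/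
theorem kernel_four (h2 : (2 : K) ≠ 0) (h3 : (3 : K) ≠ 0) (ρ : Representation K G V)
    (hs : IsSimpleRep ρ) (hO : ∃ o ∈ C.π.ker, ρ o ≠ 1) {x : G} (hx : orderOf x = 3)
    (hpK : (p : K) = 0) (hmod : p % 3 = 2) (h11 : 11 ≤ p) :
    Module.finrank K V ≤ 4 * fixDim ρ x := by
  by_cases hZ : ∀ o ∈ C.π.ker, (∀ o' ∈ C.π.ker, ρ (o * o') = ρ (o' * o)) →
      ∃ c : K, ρ o = c • 1
  · exact (kernel_extra C h2 h3 ρ hs hx hO hZ).2 hpK h11
  · exact (kernel_monomial C h3 ρ hs hZ hx).2 hmod h11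

end CfsgLib.FixSixth
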