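import Cfsg.Agent.Lib.FixSixth.Basic

/-!
# Elements of order three and generation in `SL(2, p)` (S5720)

`xM_conj`: all elements of order three of `SL(2, p)`, `p ≥ 5`, are conjugate to `xM p`;
`closure_xM_wM` and `closure_xM_conj_xM`: the two generation lemmas.
-/

set_option autoImplicit false

namespace CfsgLib.FixSixth

open scoped MatrixGroups
open Matrix

variable {p : ℕ}

theorem uM_val (c : ZMod p) : (uM p c).1 = !![1, c; 0, 1] := rfl

theorem wM_val : (wM p).1 = !![0, -1; 1, 0] := rfl

theorem tM_val (l : (ZMod p)ˣ) :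
    (tM p l).1 = !![(l : ZMod p), 0; 0, ((l⁻¹ : (ZMod p)ˣ) : ZMod p)] := rfl

theorem xM_val : (xM p).1 = !![-1, 1; -1, 0] := rfl

theorem uM_add (a b : ZMod p) : uM p (a + b) = uM p a * uM p b := by
  apply Subtype.ext
  simp [uM_val, Matrix.mul_fin_two, add_comm]

theorem uM_zero : uM p 0 = 1 := by
  apply Subtype.ext
  ext i j
  fin_cases i <;> fin_cases j <;> simp [uM_val]

theorem uM_pow (a : ZMod p) (n : ℕ) : uM p a ^ n = uM p (n * a) := by
  induction n with
  | zero => simp [uM_zero]
  | succ n ih => rw [pow_succ, ih, ← uM_add]; push_cast; ring_nf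

/-- `uM 1 = xM * wM`. -/
theorem xM_mul_wM : xM p * wM p = uM p 1 := by
  apply Subtype.ext
  simp [uM_val, wM_val, xM_val, Matrix.mul_fin_two]

theorem wM_sq : wM p * wM p = -1 := by
  apply Subtype.ext
  ext i j
  fin_cases i <;> fin_cases j <;> simp [wM_val, Matrix.mul_fin_two]

theorem xM_cube : xM p ^ 3 = 1 := by
  apply Subtype.ext
  ext i j
  fin_cases i <;> fin_cases j <;> simp [pow_succ, xM_val, Matrix.mul_fin_two]

theorem wM_inv_val : ((wM p)⁻¹).1 = !![0, 1; -1, 0] := by
  rw [Matrix.SpecialLinearGroup.coe_inv, wM_val, Matrix.adjugate_fin_two]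
  simp

section Field

variable [hp : Fact p.Prime]

theorem two_zmod (h : 3 ≤ p) : (2 : ZMod p) ≠ 0 := fun e => by
  have e' : ((2 : ℕ) : ZMod p) = 0 := by exact_mod_cast e
  have := (Nat.prime_dvd_prime_iff_eq hp.out Nat.prime_two).1
    ((ZMod.natCast_eq_zero_iff 2 p).1 e')
  omega

theorem three_zmod (h : 5 ≤ p) : (3 : ZMod p) ≠ 0 := fun e => by
  have e' : ((3 : ℕ) : ZMod p) = 0 := by exact_mod_cast e
  have := (Nat.prime_dvd_prime_iff_eq hp.out Nat.prime_three).1
    ((ZMod.natCast_eq_zero_iff 3 p).1 e')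
  omega

theorem orderOf_xM (h : 5 ≤ p) : orderOf (xM p) = 3 := by
  haveI : Fact (Nat.Prime 3) := ⟨Nat.prime_three⟩
  refine orderOf_eq_prime xM_cube fun e => three_zmod h ?_
  have h00 := congrArg (fun M : SL(2, ZMod p) => M.1 0 1) e
  simp [xM_val] at h00

/-- A subgroup containing all upper unitriangular elements and `wM` is everything. -/
theorem eq_top_of_uM_wM (H : Subgroup SL(2, ZMod p)) (hu : ∀ c, uM p c ∈ H) (hw : wM p ∈ H) :
    H = ⊤ := by
  have hl : ∀ c : ZMod p, wM p * uM p (-c) * (wM p)⁻¹ ∈ H := fun c =>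
    H.mul_mem (H.mul_mem hw (hu _)) (H.inv_mem hw)
  have hlv : ∀ c : ZMod p, (wM p * uM p (-c) * (wM p)⁻¹).1 = !![1, 0; c, 1] := by
    intro c
    rw [Matrix.SpecialLinearGroup.coe_mul, Matrix.SpecialLinearGroup.coe_mul, wM_inv_val,
      wM_val, uM_val]
    simp [Matrix.mul_fin_two]
  have key : ∀ M : SL(2, ZMod p), M.1 1 0 ≠ 0 → M ∈ H := by
    intro M hc
    obtain ⟨a, b, c, d, hM⟩ : ∃ a b c d, M.1 = !![a, b; c, d] :=
      ⟨_, _, _, _, Matrix.eta_fin_two M.1⟩
    have hdet : a * d - b * c = 1 := by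
      have := M.2
      rw [hM, Matrix.det_fin_two_of] at this
      exact this
    have hc' : c ≠ 0 := by simpa [hM] using hc
    have he : M = uM p ((a - 1) / c) * (wM p * uM p (-c) * (wM p)⁻¹) * uM p ((d - 1) / c) := by
      apply Subtype.ext
      rw [Matrix.SpecialLinearGroup.coe_mul, Matrix.SpecialLinearGroup.coe_mul, hlv, uM_val,
        uM_val, hM]
      ext i j
      fin_cases i <;> fin_cases j <;> simp [Matrix.mul_fin_two] <;> field_simp <;>
        first | linear_combination hdet | linear_combination -hdet |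
          linear_combination c * hdet | linear_combination -c * hdet | ring1
    rw [he]
    exact H.mul_mem (H.mul_mem (hu _) (hl _)) (hu _)
  refine (Subgroup.eq_top_iff' H).2 fun M => ?_
  by_cases hc : M.1 1 0 = 0
  · have ha : M.1 0 0 ≠ 0 := by
      intro ha
      have hd : M.1.det = 1 := M.2
      rw [Matrix.det_fin_two, hc, ha] at hd
      simp at hd
    have h1 := key (wM p * uM p (-1) * (wM p)⁻¹ * M) (by
      rw [Matrix.SpecialLinearGroup.coe_mul, hlv]
      simp [Matrix.mul_apply, Fin.sum_univ_two, hc, ha])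
    simpa [mul_assoc] using H.mul_mem (H.inv_mem (hl 1)) h1
  · exact key M hc

theorem uM_mem_of_uM_mem (H : Subgroup SL(2, ZMod p)) {a : ZMod p} (ha : a ≠ 0)
    (h : uM p a ∈ H) (c : ZMod p) : uM p c ∈ H := by
  have h2 := H.pow_mem h (c / a).val
  rwa [uM_pow, ZMod.natCast_zmod_val, div_mul_cancel₀ _ ha] at h2

/-- `SL(2, p)` is generated by `xM` and `wM`. -/
theorem closure_xM_wM : Subgroup.closure ({xM p, wM p} : Set SL(2, ZMod p)) = ⊤ := by
  have hx : xM p ∈ Subgroup.closure ({xM p, wM p} : Set SL(2, ZMod p)) :=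
    Subgroup.subset_closure (Set.mem_insert _ _)
  have hw : wM p ∈ Subgroup.closure ({xM p, wM p} : Set SL(2, ZMod p)) :=
    Subgroup.subset_closure (Set.mem_insert_of_mem _ rfl)
  refine eq_top_of_uM_wM _ (fun c => uM_mem_of_uM_mem _ one_ne_zero ?_ c) hw
  rw [← xM_mul_wM]
  exact Subgroup.mul_mem _ hx hw

/-- `SL(2, p)` is generated by `xM` and its conjugate under `wM`. -/
theorem closure_xM_conj_xM (h : 3 ≤ p) :
    Subgroup.closure ({xM p, wM p * xM p * (wM p)⁻¹} : Set SL(2, ZMod p)) = ⊤ := by
  set y := wM p * xM p * (wM p)⁻¹ with hy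
  set H := Subgroup.closure ({xM p, y} : Set SL(2, ZMod p)) with hH
  have hx : xM p ∈ H := Subgroup.subset_closure (Set.mem_insert _ _)
  have hy' : y ∈ H := Subgroup.subset_closure (Set.mem_insert_of_mem _ rfl)
  have hxy : xM p * y = -uM p 2 := by
    apply Subtype.ext
    rw [hy, Matrix.SpecialLinearGroup.coe_mul, Matrix.SpecialLinearGroup.coe_mul,
      Matrix.SpecialLinearGroup.coe_mul, wM_inv_val, wM_val, xM_val]
    ext i j
    fin_cases i <;> fin_cases j <;>
      simp [uM_val, Matrix.mul_fin_two, Matrix.vecMul, dotProduct, Fin.sum_univ_two] <;> norm_num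
  have hneg : (-1 : SL(2, ZMod p)) ∈ H := by
    have h2 := H.pow_mem (H.mul_mem hx hy') p
    rw [hxy, neg_pow, uM_pow, ZMod.natCast_self, zero_mul, uM_zero, mul_one,
      (hp.out.odd_of_ne_two (by omega)).neg_one_pow] at h2
    exact h2
  have hu : ∀ c, uM p c ∈ H := by
    refine fun c => uM_mem_of_uM_mem _ (two_zmod h) ?_ c
    have h3 := H.mul_mem hneg (H.mul_mem hx hy')
    rwa [hxy, neg_mul_neg, one_mul] at h3
  refine eq_top_of_uM_wM _ hu ?_
  have h4 : wM p = (xM p)⁻¹ * uM p 1 := by rw [← xM_mul_wM, inv_mul_cancel_left]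
  rw [h4]
  exact H.mul_mem (H.inv_mem hx) (hu 1)

/-- All elements of order three of `SL(2, p)` are conjugate to `xM p`. -/
theorem xM_conj (h : 5 ≤ p) {g : SL(2, ZMod p)} (hg : orderOf g = 3) : IsConj g (xM p) := by
  have h2 : (2 : ZMod p) ≠ 0 := two_zmod (by omega)
  have h3 : (3 : ZMod p) ≠ 0 := three_zmod h
  obtain ⟨a, b, c, d, hM⟩ : ∃ a b c d, g.1 = !![a, b; c, d] :=
    ⟨_, _, _, _, Matrix.eta_fin_two g.1⟩
  have hdet : a * d - b * c = 1 := by
    have := g.2
    rw [hM, Matrix.det_fin_two_of] at this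
    exact this
  have hcube : g.1 * g.1 * g.1 = 1 := by
    have := congrArg Subtype.val (pow_orderOf_eq_one g)
    rw [hg, pow_succ, pow_two] at this
    simpa using this
  rw [hM, Matrix.mul_fin_two, Matrix.mul_fin_two] at hcube
  have e00 := congrFun (congrFun hcube 0) 0
  have e01 := congrFun (congrFun hcube 0) 1
  have e10 := congrFun (congrFun hcube 1) 0
  have e11 := congrFun (congrFun hcube 1) 1
  simp at e00 e01 e10 e11
  have hne : g ≠ 1 := by
    intro e
    rw [e, orderOf_one] at hg
    omega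
  -- trace
  have htr : a + d = -1 := by
    by_contra htr
    have f0 : ((a + d) ^ 2 - 1) * a = (a + d) + 1 := by linear_combination e00 + (2 * a + d) * hdet
    have f1 : ((a + d) ^ 2 - 1) * d = (a + d) + 1 := by linear_combination e11 + (a + 2 * d) * hdet
    have f2 : ((a + d) ^ 2 - 1) * b = 0 := by linear_combination e01 + b * hdet
    have f3 : ((a + d) ^ 2 - 1) * c = 0 := by linear_combination e10 + c * hdet
    by_cases hz : (a + d) ^ 2 - 1 = 0
    · rw [hz, zero_mul] at f0
      exact htr (by linear_combination -f0)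
    · have hb : b = 0 := (mul_eq_zero.1 f2).resolve_left hz
      have hc : c = 0 := (mul_eq_zero.1 f3).resolve_left hz
      have had : a = d := mul_left_cancel₀ hz (by rw [f0, f1])
      subst hb hc had
      have ha2 : a * a = 1 := by linear_combination hdet
      have ha1 : a = 1 := by linear_combination e00 - a * ha2
      apply hne
      apply Subtype.ext
      rw [hM, ha1]
      ext i j
      fin_cases i <;> fin_cases j <;> simp
  -- a vector on which the form `det [g v, v]` takes the value one
  obtain ⟨s, t, hQ⟩ : ∃ s t : ZMod p, b * t ^ 2 + (a - d) * s * t - c * s ^ 2 = 1 := by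
    by_cases hc : c = 0
    · have hne2 : a - d ≠ 0 := by
        intro had
        have hd : d = a := by linear_combination -had
        subst hc
        rw [hd] at htr hdet
        exact h3 (by linear_combination (2 * a - 1) * htr - 4 * hdet)
      exact ⟨(1 - b) / (a - d), 1, by subst hc; field_simp; ring⟩
    · classical
      set e := b + (a - d) ^ 2 / (4 * c) with he
      have h4 : (4 : ZMod p) ≠ 0 := by
        rw [show (4 : ZMod p) = 2 * 2 by norm_num]; exact mul_ne_zero h2 h2
      have he0 : e ≠ 0 := by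
        intro e0
        rw [he] at e0
        field_simp at e0
        exact h3 (by linear_combination (a + d - 1) * htr - 4 * hdet - e0)
      obtain ⟨S, T, hST⟩ := FiniteField.exists_root_sum_quadratic
        (f := Polynomial.C (-c) * Polynomial.X ^ 2) (g := Polynomial.C e * Polynomial.X ^ 2 - 1)
        (Polynomial.degree_C_mul_X_pow 2 (neg_ne_zero.2 hc))
        (by rw [← map_one Polynomial.C, Polynomial.degree_sub_C (by
              rw [Polynomial.degree_C_mul_X_pow 2 he0]; norm_num),
              Polynomial.degree_C_mul_X_pow 2 he0]; rfl)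
        (by rw [ZMod.card]; rcases hp.out.eq_two_or_odd with h' | h' <;> omega)
      simp at hST
      refine ⟨S + (a - d) / (2 * c) * T, T, ?_⟩
      have : b * T ^ 2 + (a - d) * (S + (a - d) / (2 * c) * T) * T -
          c * (S + (a - d) / (2 * c) * T) ^ 2 = -(c * S ^ 2) + (b + (a - d) ^ 2 / (4 * c)) * T ^ 2 := by
        field_simp
        ring
      rw [this, ← he]
      linear_combination hST
  let C : SL(2, ZMod p) := ⟨!![a * s + b * t, s; c * s + d * t, t], by
    rw [Matrix.det_fin_two_of]; linear_combination hQ⟩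
  refine (isConj_iff.2 ⟨C, ?_⟩).symm
  rw [mul_inv_eq_iff_eq_mul]
  apply Subtype.ext
  rw [Matrix.SpecialLinearGroup.coe_mul, Matrix.SpecialLinearGroup.coe_mul, xM_val, hM]
  change !![a * s + b * t, s; c * s + d * t, t] * !![-1, 1; -1, 0] =
    !![a, b; c, d] * !![a * s + b * t, s; c * s + d * t, t]
  have hd : d = -1 - a := by linear_combination htr
  subst hd
  ext i j
  fin_cases i <;> fin_cases j <;> simp [Matrix.mul_fin_two]
  all_goals first
    | ring1
    | linear_combination s * hdet
    | linear_combination t * hdet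
    | linear_combination -s * hdet
    | linear_combination -t * hdet

end Field

end CfsgLib.FixSixth
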