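import Cfsg.Agent.Lib.FixSixth.Basic
import Cfsg.Agent.Lib.FixSixth.SL2Elem
import Cfsg.Agent.Lib.Recog.GW.CoverSL
import Cfsg.Agent.Lib.Transfer.UniqueOrderP
import Cfsg.Agent.Lib.Solvable.Gaschutz

/-!
# S5720, piece (1b): the minimal configuration inside a double cover of `PSL₂(p)`
-/

set_option autoImplicit false
set_option linter.style.haveILetI false

namespace CfsgLib.FixSixth

open Subgroup
open scoped MatrixGroups commutatorElement

variable {G : Type*} [Group G] [Finite G]

theorem ker_le_frattini_of_minimal {Q : Type*} [Group Q] (f : G →* Q) (hf : Function.Surjective f)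
    (hmin : ∀ M : Subgroup G, M.map f = ⊤ → M = ⊤) : f.ker ≤ frattini G := by
  refine le_iInf₂ fun M hM => ?_
  by_contra h
  refine hM.1 (hmin M ?_)
  have h1 : M ⊔ f.ker = ⊤ := hM.2 _ (left_lt_sup.mpr h)
  rw [← Subgroup.map_top_of_surjective f hf, ← h1, Subgroup.map_sup,
    (f.ker.map_eq_bot_iff).mpr le_rfl, sup_bot_eq]

theorem le_center_of_cyclic_normal (hG : commutator G = ⊤) (X : Subgroup G) [X.Normal] [IsCyclic X] :
    X ≤ center G := by
  have hab : ∀ (f g : X →* X) (x : X), f (g x) = g (f x) := by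
    intro f g x
    obtain ⟨m, hm⟩ := MonoidHom.map_cyclic f
    obtain ⟨n, hn⟩ := MonoidHom.map_cyclic g
    rw [hn x, hm, hm x, hn, ← zpow_mul, ← zpow_mul, mul_comm]
  have hker : commutator G ≤ (MulAut.conjNormal (H := X)).ker := by
    rw [_root_.commutator_def, commutator_le]
    intro a _ b _
    rw [MonoidHom.mem_ker, map_commutatorElement, commutatorElement_eq_one_iff_mul_comm]
    refine MulEquiv.ext fun x => ?_
    simp only [MulAut.mul_apply]
    exact hab (MulAut.conjNormal a).toMonoidHom (MulAut.conjNormal b).toMonoidHom x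
  intro x hx
  refine mem_center_iff.mpr fun g => ?_
  have h1 : MulAut.conjNormal (H := X) g = 1 := hker (hG ▸ mem_top g)
  have h2 := congrArg (fun e : MulAut X => (e ⟨x, hx⟩ : G)) h1
  simp only [MulAut.conjNormal_apply, MulAut.one_apply] at h2
  exact mul_inv_eq_iff_eq_mul.mp h2

/-- The Sylow subgroups of a nilpotent normal subgroup are normal in the whole group. -/
theorem exists_normal_sylow_of_nilpotent (N : Subgroup G) [N.Normal] (hN : Group.IsNilpotent N)
    (r : ℕ) [Fact r.Prime] :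
    ∃ P : Subgroup G, P.Normal ∧ P ≤ N ∧ IsPGroup r P ∧ ¬ r ∣ (P.subgroupOf N).index := by
  obtain ⟨P0⟩ := (inferInstance : Nonempty (Sylow r N))
  have hn : (P0 : Subgroup N).Normal :=
    (Group.isNilpotent_of_finite_tfae.out 0 3 rfl rfl).mp hN r inferInstance P0
  haveI : (P0 : Subgroup N).Characteristic := P0.characteristic_of_normal hn
  refine ⟨(P0 : Subgroup N).map N.subtype, inferInstance, map_subtype_le _, P0.2.map _, ?_⟩
  rw [subgroupOf, comap_map_eq_self_of_injective N.subtype_injective]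
  exact P0.not_dvd_index

/-- A central `r`-subgroup of a nilpotent subgroup which is its own commutator with the group. -/
theorem eq_bot_of_central_sylow (N P : Subgroup G) [N.Normal] (hcomm : ⁅N, (⊤ : Subgroup G)⁆ = N)
    (hPN : P ≤ N) (hPc : P ≤ center G) (hcop : (Nat.card P).Coprime (P.subgroupOf N).index) : P = ⊥ := by
  set P' := P.subgroupOf N
  have hcard : Nat.card P' = Nat.card P := Nat.card_congr (subgroupOfEquivOfLe hPN).toEquiv
  haveI : P'.Normal := ⟨fun a ha b => by
    have : b * a * b⁻¹ = a := by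
      apply Subtype.ext
      have h : (b : G) * (a : G) = (a : G) * (b : G) := mem_center_iff.mp (hPc ha) (b : G)
      simp only [coe_mul, coe_inv]
      rw [h, mul_inv_cancel_right]
    rwa [this]⟩
  obtain ⟨Q, hQ⟩ := exists_right_complement'_of_coprime (N := P') (hcard.symm ▸ hcop)
  have hQc : Nat.card Q = P'.index := by
    have h1 := hQ.card_mul
    rw [← P'.card_mul_index] at h1
    exact Nat.eq_of_mul_eq_mul_left Nat.card_pos h1
  have hcopQ : (Nat.card P).Coprime (Nat.card Q) := by rw [hQc]; exact hcop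
  have hdec : ∀ x : N, ∃ a ∈ P', ∃ b ∈ Q, x = a * b := by
    intro x
    obtain ⟨⟨⟨a, ha⟩, ⟨b, hb⟩⟩, hx⟩ := hQ.2 x
    exact ⟨a, ha, b, hb, hx.symm⟩
  -- `Q` is the set of elements of `N` whose order divides its cardinality
  have hmem : ∀ x : N, x ^ Nat.card Q = 1 → x ∈ Q := by
    intro x hx
    obtain ⟨a, ha, b, hb, rfl⟩ := hdec x
    have hc : Commute a b := Subtype.ext ((mem_center_iff.mp (hPc ha) (b : G)).symm)
    rw [hc.mul_pow] at hx
    have hb1 : b ^ Nat.card Q = 1 := by
      have := pow_card_eq_one' (G := Q) (x := ⟨b, hb⟩)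
      exact congrArg Subtype.val this
    rw [hb1, mul_one] at hx
    have ha1 : a ^ Nat.card P' = 1 := congrArg Subtype.val (pow_card_eq_one' (G := P') (x := ⟨a, ha⟩))
    have : a = 1 := orderOf_eq_one_iff.mp (Nat.dvd_one.mp
      (Nat.Coprime.gcd_eq_one hcopQ ▸ Nat.dvd_gcd (hcard ▸ orderOf_dvd_of_pow_eq_one ha1)
        (orderOf_dvd_of_pow_eq_one hx)))
    simpa [this] using hb
  have hle : ⁅N, (⊤ : Subgroup G)⁆ ≤ Q.map N.subtype := by
    rw [commutator_le]
    intro o ho g _
    obtain ⟨a, ha, b, hb, hab⟩ := hdec ⟨o, ho⟩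
    have hac : ∀ g : G, g * (a : G) = (a : G) * g := mem_center_iff.mp (hPc ha)
    have ho' : o = (a : G) * b := congrArg Subtype.val hab
    have hconj : g * (b : G)⁻¹ * g⁻¹ ∈ Q.map N.subtype := by
      refine ⟨⟨g * (b : G)⁻¹ * g⁻¹, ‹N.Normal›.conj_mem _ (inv_mem b.2) g⟩, hmem _ ?_, rfl⟩
      apply Subtype.ext
      have hb1 : ((b : G)⁻¹) ^ Nat.card Q = 1 := by
        rw [inv_pow, inv_eq_one]
        exact congrArg (fun t : Q => ((t : N) : G)) (pow_card_eq_one' (G := Q) (x := ⟨b, hb⟩))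
      simp [conj_pow, hb1]
    have e : ⁅o, g⁆ = (b : G) * (g * (b : G)⁻¹ * g⁻¹) := by
      rw [commutatorElement_def, ho', mul_inv_rev]
      have e2 : g * ((b : G)⁻¹ * (a : G)⁻¹) = g * (b : G)⁻¹ * (a : G)⁻¹ := (mul_assoc _ _ _).symm
      calc (a : G) * b * g * ((b : G)⁻¹ * (a : G)⁻¹) * g⁻¹
          = (a : G) * ((b : G) * g * (b : G)⁻¹) * (a : G)⁻¹ * g⁻¹ := by group
        _ = (b : G) * g * (b : G)⁻¹ * g⁻¹ := by rw [← hac, mul_inv_cancel_right]
        _ = _ := by group
    rw [e]
    exact mul_mem ⟨b, hb, rfl⟩ hconj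
  rw [hcomm] at hle
  rw [eq_bot_iff]
  intro x hx
  obtain ⟨y, hy, hyx⟩ := hle (hPN hx)
  have hy' : y ∈ P' := by
    rw [mem_subgroupOf, show (y : G) = x from hyx]; exact hx
  have : y ∈ P' ⊓ Q := ⟨hy', hy⟩
  rw [hQ.disjoint.eq_bot, mem_bot] at this
  rw [mem_bot, ← hyx, this]; rfl

variable {p : ℕ} [Fact p.Prime]

/-- Elements of order three are conjugate in a cover with kernel of order prime to three. -/
theorem three_conj_of_coprime (π : G →* SL(2, ZMod p)) (hπ : Function.Surjective π) (hp : 5 ≤ p)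
    (hxc : ∀ s : SL(2, ZMod p), orderOf s = 3 → IsConj s (xM p))
    (h3 : ¬ 3 ∣ Nat.card π.ker) (x y : G) (hx : orderOf x = 3) (hy : orderOf y = 3) : IsConj x y := by
  haveI : Fact (Nat.Prime 3) := ⟨Nat.prime_three⟩
  have hout : ∀ a : G, orderOf a = 3 → ∃ g : G, π (g * a * g⁻¹) = xM p := by
    intro a ha
    have ho : orderOf (π a) = 3 := by
      refine orderOf_eq_prime (by rw [← map_pow, ← ha, pow_orderOf_eq_one, map_one]) fun h => h3 ?_
      exact ha ▸ Subgroup.orderOf_dvd_natCard _ (MonoidHom.mem_ker.mpr h)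
    obtain ⟨c, hc⟩ := isConj_iff.mp (hxc _ ho)
    obtain ⟨g, rfl⟩ := hπ c
    exact ⟨g, by rw [map_mul, map_mul, map_inv, hc]⟩
  obtain ⟨g, hg⟩ := hout x hx
  obtain ⟨h, hh⟩ := hout y hy
  suffices IsConj (g * x * g⁻¹) (h * y * h⁻¹) from
    (isConj_iff.mpr ⟨g, rfl⟩).trans (this.trans (isConj_iff.mpr ⟨h, rfl⟩).symm)
  have hord : ∀ (a b : G), orderOf a = 3 → orderOf (b * a * b⁻¹) = 3 := fun a b ha => by
    rw [← ha]; exact orderOf_injective (MulAut.conj b).toMonoidHom (MulAut.conj b).injective a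
  replace hx := hord x g hx
  replace hy := hord y h hy
  generalize g * x * g⁻¹ = a at hg hx
  generalize h * y * h⁻¹ = b at hh hy
  set T := (zpowers (xM p)).comap π
  have hTk : π.ker ≤ T := fun k hk => by
    rw [mem_comap, MonoidHom.mem_ker.mp hk]; exact one_mem _
  have hidx : ∀ c : T, orderOf c = 3 → IsPGroup 3 (zpowers c) ∧ ¬ 3 ∣ (zpowers c).index := by
    intro c hc
    refine ⟨IsPGroup.of_card (n := 1) (by rw [Nat.card_zpowers, hc, pow_one]), fun hd => ?_⟩
    have h1 := (zpowers c).card_mul_index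
    have hT : Nat.card T = Nat.card π.ker * 3 := by
      have h2 := (π.ker.subgroupOf T).card_mul_index
      rw [Nat.card_congr (subgroupOfEquivOfLe hTk).toEquiv] at h2
      rw [← h2]
      congr 1
      let τ : T →* SL(2, ZMod p) := π.comp T.subtype
      have hk : τ.ker = π.ker.subgroupOf T := rfl
      have hr : τ.range = zpowers (xM p) := by
        rw [MonoidHom.range_comp, range_subtype, map_comap_eq_self_of_surjective hπ]
      rw [← hk, index_ker, hr, Nat.card_zpowers, orderOf_xM hp]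
    rw [Nat.card_zpowers, hc, hT] at h1
    exact h3 (hd.trans (dvd_of_eq (by omega)))
  let A : T := ⟨a, by rw [mem_comap, hg]; exact mem_zpowers _⟩
  let B : T := ⟨b, by rw [mem_comap, hh]; exact mem_zpowers _⟩
  have hA : orderOf A = 3 := (orderOf_submonoid A).symm.trans hx
  have hB : orderOf B = 3 := (orderOf_submonoid B).symm.trans hy
  obtain ⟨t, ht⟩ := MulAction.exists_smul_eq T ((hidx A hA).1.toSylow (hidx A hA).2)
    ((hidx B hB).1.toSylow (hidx B hB).2)
  have htA : t * A * t⁻¹ ∈ zpowers B := by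
    have h' := congrArg (fun S : Sylow 3 T => (S : Subgroup T)) ht
    simp only [Sylow.coe_subgroup_smul, IsPGroup.toSylow_coe] at h'
    rw [← h']
    exact ⟨A, mem_zpowers A, rfl⟩
  obtain ⟨k, hk⟩ := mem_zpowers_iff.mp htA
  obtain ⟨i, hi⟩ := mem_zpowers_iff.mp (show π (t : G) ∈ zpowers (xM p) from t.2)
  have hk' : b ^ k = (t : G) * a * (t : G)⁻¹ := congrArg Subtype.val hk
  have e := congrArg π hk'
  rw [map_zpow, map_mul, map_mul, map_inv, hh, hg, ← hi,
    ((Commute.refl (xM p)).zpow_left i).eq, mul_inv_cancel_right] at e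
  have hk1 : b ^ k = b := by
    have h1 : xM p ^ (k - 1) = 1 := by rw [zpow_sub_one, e, mul_inv_cancel]
    rw [← orderOf_dvd_iff_zpow_eq_one, orderOf_xM hp, ← hy, orderOf_dvd_iff_zpow_eq_one, zpow_sub_one,
      mul_inv_eq_one] at h1
    exact h1
  exact isConj_iff.mpr ⟨t, hk'.symm.trans hk1⟩

theorem xM_ne_one' (hp : 5 ≤ p) : xM p ≠ 1 := fun h => by
  simpa [h] using orderOf_xM (p := p) hp

theorem exists_three_lift (π : G →* SL(2, ZMod p)) (hπ : Function.Surjective π) (hp : 5 ≤ p)
    (h3 : ¬ 3 ∣ Nat.card π.ker) : ∃ x : G, orderOf x = 3 ∧ π x = xM p := by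
  haveI : Fact (Nat.Prime 3) := ⟨Nat.prime_three⟩
  obtain ⟨g, hg⟩ := hπ (xM p)
  set e := Nat.card π.ker
  have he : e * e % 3 = 1 := by
    have : e % 3 = 1 ∨ e % 3 = 2 := by omega
    rcases this with h | h <;> simp [Nat.mul_mod, h]
  have hπx : π (g ^ (e * e)) = xM p := by
    rw [map_pow, hg, ← pow_mod_orderOf, orderOf_xM hp, he, pow_one]
  have hker : g ^ 3 ∈ π.ker := by rw [MonoidHom.mem_ker, map_pow, hg, xM_cube]
  have h1 : (g ^ 3) ^ e = 1 := congrArg Subtype.val (pow_card_eq_one' (G := π.ker) (x := ⟨_, hker⟩))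
  refine ⟨g ^ (e * e), orderOf_eq_prime ?_ fun h => (xM_ne_one' hp) (by rw [← hπx, h, map_one]), hπx⟩
  rw [← pow_mul, show e * e * 3 = 3 * e * e by ring, pow_mul, pow_mul, h1, one_pow]

/-- A nilpotent kernel of odd order with the property of `hno` has order prime to `15`. -/
theorem not_dvd_card_ker {Q : Type*} [Group Q] (π : G →* Q) (hnil : Group.IsNilpotent π.ker)
    (hG : commutator G = ⊤) (hcomm : ⁅π.ker, (⊤ : Subgroup G)⁆ = π.ker)
    (r : ℕ) [Fact r.Prime] (hr : r ≠ 2)
    (hno : ∀ a b : G, orderOf a = r → orderOf b = r → Commute a b → b ∈ zpowers a) :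
    ¬ r ∣ Nat.card π.ker := by
  obtain ⟨P, hPn, hPN, hP, hidx⟩ := exists_normal_sylow_of_nilpotent π.ker hnil r
  haveI : IsCyclic P := by
    by_contra hnc
    obtain ⟨A, -, hAc, hAe, hA⟩ := CfsgLib.Transfer.exists_normal_elementary_sq hr hP hnc
    have hr2 : 2 ≤ r := (Fact.out : r.Prime).two_le
    haveI : Nontrivial A := (Finite.one_lt_card_iff_nontrivial).mp (hA ▸ by nlinarith)
    obtain ⟨a, ha⟩ := exists_ne (1 : A)
    have hord : ∀ c ∈ A, c ≠ 1 → orderOf ((c : P) : G) = r := fun c hc hc1 =>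
      (orderOf_submonoid c).trans (orderOf_eq_prime (hAe c hc) hc1)
    have ha' : ((a : P) : G) ≠ 1 := by simpa using ha
    have hoa := hord a a.2 (by simpa using ha)
    have hlt : ¬ A.map P.subtype ≤ zpowers ((a : P) : G) := fun hle => by
      have h1 := Nat.le_of_dvd (by rw [Nat.card_zpowers, hoa]; omega) (card_dvd_of_le hle)
      rw [card_map_of_injective P.subtype_injective, hA, Nat.card_zpowers, hoa] at h1
      nlinarith
    obtain ⟨_, ⟨b, hb, rfl⟩, hba⟩ := SetLike.not_le_iff_exists.mp hlt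
    have hb1 : b ≠ 1 := fun h => hba (by rw [h, map_one]; exact one_mem _)
    exact hba (hno _ _ hoa (hord b hb hb1)
      (congrArg (fun t : A => ((t : P) : G)) (hAc.is_comm.comm a ⟨b, hb⟩)))
  have hcop : (Nat.card P).Coprime (P.subgroupOf π.ker).index := by
    obtain ⟨n, hn⟩ := hP.exists_card_eq
    rw [hn]
    exact ((Fact.out : r.Prime).coprime_iff_not_dvd.mpr hidx).pow_left n
  have hbot : P = ⊥ := eq_bot_of_central_sylow _ P hcomm hPN (le_center_of_cyclic_normal hG P) hcop
  rwa [hbot, bot_subgroupOf, index_bot] at hidx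

/-- The minimal configuration inside a double cover of `PSL₂(p)` with one involution. -/
theorem cover_of_psl {L : Type*} [Group L] [Finite L] (hp7 : 7 ≤ p) (z : L)
    (f : L →* Matrix.ProjectiveSpecialLinearGroup (Fin 2) (ZMod p)) (hf : Function.Surjective f)
    (hzc : z ∈ center L) (hz : orderOf z = 2) (huniq : ∀ t : L, orderOf t = 2 → t = z)
    {m : ℕ} (hm : Odd m) (hker : Nat.card f.ker = 2 * m)
    (hno : ∀ r, (r = 3 ∨ r = 5) → ∀ a b : L, orderOf a = r → orderOf b = r → Commute a b →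
      b ∈ zpowers a) :
    ∃ G : Subgroup L, Nonempty (Cover p G) := by
  classical
  haveI : Fact (Nat.Prime 2) := ⟨Nat.prime_two⟩
  have hcardF : Fintype.card (ZMod p) = p := ZMod.card p
  have hperfSL : commutator SL(2, ZMod p) = ⊤ :=
    CfsgLib.Recog.GW.commutator_sl_two (by rw [hcardF]; omega)
  have hperfPSL : commutator (Matrix.ProjectiveSpecialLinearGroup (Fin 2) (ZMod p)) = ⊤ := by
    rw [_root_.commutator_def, ← map_top_of_surjective _ (QuotientGroup.mk'_surjective (center SL(2, ZMod p))),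
      ← map_commutator, ← _root_.commutator_def, hperfSL]
  obtain ⟨G, hGtop, hGmin⟩ := (wellFounded_lt (α := Subgroup L)).has_min
    {M : Subgroup L | M.map f = ⊤} ⟨⊤, map_top_of_surjective f hf⟩
  set f₀ := f.comp G.subtype with hf₀
  have hf₀s : Function.Surjective f₀ := by
    rw [← MonoidHom.range_eq_top, MonoidHom.range_comp, range_subtype]; exact hGtop
  have hmin : ∀ M : Subgroup G, M.map f₀ = ⊤ → M = ⊤ := by
    intro M hM
    have h1 : M.map G.subtype ∈ {M : Subgroup L | M.map f = ⊤} := by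
      simpa [Subgroup.map_map] using hM
    have h2 : M.map G.subtype = G := (map_subtype_le M).eq_of_not_lt (hGmin _ h1)
    exact map_injective G.subtype_injective (h2.trans (by simp [← MonoidHom.range_eq_map]))
  have hperf : commutator G = ⊤ := hmin _ (by
    rw [_root_.commutator_def, map_commutator, map_top_of_surjective _ hf₀s, ← _root_.commutator_def, hperfPSL])
  -- `z` lies in `G`, and in the kernel
  have h2card : 2 ∣ Nat.card G := by
    refine dvd_trans ?_ (Subgroup.card_dvd_of_surjective f₀ hf₀s)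
    have hmem : ∀ s : SL(2, ZMod p), s ∈ center SL(2, ZMod p) → s.1 1 0 = 0 := fun s hs => by
      obtain ⟨r, -, hr⟩ := Matrix.SpecialLinearGroup.mem_center_iff.mp hs
      simp [← hr]
    have h1 : (QuotientGroup.mk (wM p) : Matrix.ProjectiveSpecialLinearGroup (Fin 2) (ZMod p)) ≠ 1 :=
      fun h => by simpa [wM] using hmem _ ((QuotientGroup.eq_one_iff _).mp h)
    have h2 : (QuotientGroup.mk (wM p) : Matrix.ProjectiveSpecialLinearGroup (Fin 2) (ZMod p)) ^ 2 = 1 := by
      rw [← QuotientGroup.mk_pow, QuotientGroup.eq_one_iff, mem_center_iff]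
      intro s
      have : wM p ^ 2 = -1 := by
        apply Subtype.ext
        rw [pow_two, Matrix.SpecialLinearGroup.coe_mul, Matrix.SpecialLinearGroup.coe_neg]
        simp [wM, Matrix.mul_fin_two, Matrix.one_fin_two]
      rw [this, mul_neg, neg_mul, one_mul, mul_one]
    exact (dvd_of_eq (orderOf_eq_prime h2 h1).symm).trans (_root_.orderOf_dvd_natCard _)
  obtain ⟨z₀, hz₀⟩ := exists_prime_orderOf_dvd_card' 2 h2card
  have hz₀z : (z₀ : L) = z := huniq _ ((orderOf_submonoid z₀).trans hz₀)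
  have hzker : f z = 1 := by
    obtain ⟨t, ht⟩ := exists_prime_orderOf_dvd_card' 2 (hker ▸ dvd_mul_right 2 m : 2 ∣ Nat.card f.ker)
    rw [← huniq _ ((orderOf_submonoid t).trans ht)]
    exact t.2
  -- the kernel and its odd part
  have hN : f₀.ker ≤ frattini G := ker_le_frattini_of_minimal f₀ hf₀s hmin
  have hNnil : Group.IsNilpotent f₀.ker := by
    haveI := frattini_nilpotent (G := G)
    exact nilpotent_of_mulEquiv (subgroupOfEquivOfLe hN)
  have hNdvd : Nat.card f₀.ker ∣ 2 * m := by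
    rw [← hker, ← card_map_of_injective G.subtype_injective]
    exact card_dvd_of_le (by rintro _ ⟨x, hx, rfl⟩; exact hx)
  have hz₀N : z₀ ∈ f₀.ker := by
    rw [MonoidHom.mem_ker, hf₀, MonoidHom.comp_apply]
    exact (congrArg f hz₀z).trans hzker
  have hz₀c : z₀ ∈ center G := mem_center_iff.mpr fun g => Subtype.ext
    (by simpa [hz₀z] using mem_center_iff.mp hzc (g : L))
  obtain ⟨T, hTn, hTN, hT, hTidx⟩ := exists_normal_sylow_of_nilpotent f₀.ker hNnil 2
  have hzT : z₀ ∈ T := by
    haveI : (T.subgroupOf f₀.ker).Normal := hTn.subgroupOf _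
    have hp2 : IsPGroup 2 (T.subgroupOf f₀.ker) := hT.of_equiv (subgroupOfEquivOfLe hTN).symm
    let S := hp2.toSylow hTidx
    obtain ⟨S', hS'⟩ := (IsPGroup.of_card (n := 1) (G := zpowers (⟨z₀, hz₀N⟩ : f₀.ker))
      (by rw [Nat.card_zpowers, Subgroup.orderOf_mk, hz₀, pow_one])).exists_le_sylow
    obtain ⟨g, hg⟩ := MulAction.exists_smul_eq f₀.ker S' S
    have : (⟨z₀, hz₀N⟩ : f₀.ker) ∈ (S' : Subgroup f₀.ker) := hS' (mem_zpowers _)
    have h1 : g * (⟨z₀, hz₀N⟩ : f₀.ker) * g⁻¹ ∈ (S : Subgroup f₀.ker) := by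
      rw [← hg, Sylow.coe_subgroup_smul]; exact ⟨_, this, rfl⟩
    rw [IsPGroup.toSylow_coe, mem_subgroupOf] at h1
    have h2 : (g : G) * z₀ * (g : G)⁻¹ = z₀ := by rw [mem_center_iff.mp hz₀c, mul_inv_cancel_right]
    simpa [h2] using h1
  have hTcard : Nat.card T = 2 := by
    obtain ⟨n, hn⟩ := hT.exists_card_eq
    have h1 : 2 ≤ Nat.card T := by rw [← hz₀]; exact Nat.le_of_dvd Nat.card_pos (orderOf_dvd_natCard T hzT)
    have h2 : 2 ^ n ∣ 2 * m := hn ▸ (card_dvd_of_le hTN).trans hNdvd
    rcases n with _ | _ | n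
    · simp [hn] at h1
    · simpa using hn
    · exfalso
      have h4 : 2 * 2 ∣ 2 * m := dvd_trans ⟨2 ^ n, by ring⟩ h2
      exact absurd (Nat.dvd_of_mul_dvd_mul_left (by norm_num) h4) (Nat.two_dvd_ne_zero.mpr (Nat.odd_iff.mp hm))
  haveI : (T.subgroupOf f₀.ker).Normal := hTn.subgroupOf _
  have hTc : Nat.card (T.subgroupOf f₀.ker) = 2 :=
    (Nat.card_congr (subgroupOfEquivOfLe hTN).toEquiv).trans hTcard
  obtain ⟨O', hO'⟩ := exists_right_complement'_of_coprime (N := T.subgroupOf f₀.ker)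
    (by rw [hTc]; exact Nat.prime_two.coprime_iff_not_dvd.mpr hTidx)
  have hNcard : Nat.card f₀.ker = 2 * Nat.card O' := by rw [← hO'.card_mul, hTc]
  have hO'odd : Odd (Nat.card O') := by
    have h1 : Nat.card O' ∣ m := Nat.dvd_of_mul_dvd_mul_left (by norm_num) (hNcard ▸ hNdvd)
    exact hm.of_dvd_nat h1
  have hTle : ∀ t ∈ T, t = 1 ∨ t = z₀ := by
    intro t ht
    rcases eq_or_ne t 1 with h | h
    · exact Or.inl h
    · right
      have h1 : orderOf t ∣ 2 := hTcard ▸ orderOf_dvd_natCard T ht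
      rcases (Nat.dvd_prime Nat.prime_two).mp h1 with h2 | h2
      · exact absurd (orderOf_eq_one_iff.mp h2) h
      · exact Subtype.ext ((huniq _ ((orderOf_submonoid t).trans h2)).trans hz₀z.symm)
  -- the odd elements of the kernel
  have hOmem : ∀ x : f₀.ker, Odd (orderOf x) → x ∈ O' := by
    intro x hx
    obtain ⟨⟨⟨a, ha⟩, ⟨b, hb⟩⟩, hab⟩ := hO'.2 x
    simp only at hab
    rcases hTle a (mem_subgroupOf.mp ha) with h | h
    · rw [show a = 1 from Subtype.ext h, one_mul] at hab; exact hab ▸ hb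
    · exfalso
      have hc : Commute a b := Subtype.ext (by
        simpa [h] using (mem_center_iff.mp hz₀c (b : G)).symm)
      have hbo : orderOf b ∣ Nat.card O' := orderOf_dvd_natCard O' hb
      have hao : orderOf a = 2 := by rw [← Subgroup.orderOf_coe, h, hz₀]
      have hox : orderOf x = orderOf a * orderOf b := by
        rw [← hab]
        exact hc.orderOf_mul_eq_mul_orderOf_of_coprime (by
          rw [hao]
          exact Nat.coprime_two_left.mpr (hO'odd.of_dvd_nat hbo))
      rw [hox, hao] at hx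
      exact Nat.not_odd_iff_even.mpr (even_two_mul _) hx
  set O := O'.map f₀.ker.subtype
  have hOodd : ∀ x ∈ O, Odd (orderOf x) := by
    rintro _ ⟨x, hx, rfl⟩
    rw [coe_subtype, Subgroup.orderOf_coe]
    exact hO'odd.of_dvd_nat (orderOf_dvd_natCard O' hx)
  have hON : O ≤ f₀.ker := map_subtype_le _
  haveI hOn : O.Normal := ⟨fun x hx g => by
    have hxN : g * x * g⁻¹ ∈ f₀.ker := (inferInstance : f₀.ker.Normal).conj_mem x (hON hx) g
    refine ⟨⟨_, hxN⟩, hOmem _ ?_, rfl⟩
    rw [Subgroup.orderOf_mk]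
    exact (orderOf_injective (MulAut.conj g).toMonoidHom (MulAut.conj g).injective x).symm ▸ hOodd x hx⟩
  have hOcard : Nat.card O = Nat.card O' := card_map_of_injective f₀.ker.subtype_injective
  -- the double cover `G / O`
  let φ : G ⧸ O →* Matrix.ProjectiveSpecialLinearGroup (Fin 2) (ZMod p) := QuotientGroup.lift O f₀ hON
  have hφ : Function.Surjective φ := fun y => by
    obtain ⟨x, rfl⟩ := hf₀s y; exact ⟨x, rfl⟩
  have hφk : φ.ker = f₀.ker.map (QuotientGroup.mk' O) := QuotientGroup.ker_lift O f₀ hON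
  have hφcard : Nat.card φ.ker = 2 := by
    have h1 : φ.ker.index = f₀.ker.index := by
      rw [hφk, index_map, QuotientGroup.ker_mk', sup_eq_left.mpr hON,
        MonoidHom.range_eq_top.mpr (QuotientGroup.mk'_surjective O), index_top, mul_one]
    have h2 := φ.ker.card_mul_index
    rw [h1, ← O.index_eq_card] at h2
    have h3 := O.card_mul_index
    rw [← h2, hOcard, ← f₀.ker.card_mul_index, hNcard, ← mul_assoc] at h3
    have h4 := Nat.eq_of_mul_eq_mul_right (Nat.pos_of_ne_zero FiniteIndex.index_ne_zero) h3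
    rw [mul_comm 2] at h4
    exact Nat.eq_of_mul_eq_mul_left Nat.card_pos h4
  have hφc : φ.ker ≤ center (G ⧸ O) := by
    rw [hφk]
    rintro _ ⟨x, hx, rfl⟩
    obtain ⟨⟨⟨a, ha⟩, ⟨b, hb⟩⟩, hab⟩ := hO'.2 ⟨x, hx⟩
    have e : x = (a : G) * (b : G) := (congrArg Subtype.val hab).symm
    have hb' : QuotientGroup.mk' O (b : G) = 1 := (QuotientGroup.eq_one_iff _).mpr ⟨b, hb, rfl⟩
    rw [e, map_mul, hb', mul_one]
    refine mem_center_iff.mpr fun g => ?_
    obtain ⟨g, rfl⟩ := QuotientGroup.mk'_surjective O g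
    rw [← map_mul, ← map_mul]
    rcases hTle a (mem_subgroupOf.mp ha) with h | h
    · simp [h]
    · rw [h, mem_center_iff.mp hz₀c g]
  have hperfq : commutator (G ⧸ O) = ⊤ := by
    rw [_root_.commutator_def, ← map_top_of_surjective _ (QuotientGroup.mk'_surjective O),
      ← map_commutator, ← _root_.commutator_def, hperf]
  obtain ⟨e⟩ := CfsgLib.Recog.GW.equiv_sl_of_cover
    (by rw [hcardF]; exact (Fact.out : p.Prime).odd_of_ne_two (by omega)) (by rw [hcardF]; omega)
    hperfq φ hφ hφc hφcard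
  let π : G →* SL(2, ZMod p) := e.toMonoidHom.comp (QuotientGroup.mk' O)
  have hπ : Function.Surjective π := e.surjective.comp (QuotientGroup.mk'_surjective O)
  have hπk : π.ker = O := by
    ext x
    simp [π]
  have hπmin : ∀ M : Subgroup G, M.map π = ⊤ → M = ⊤ := by
    intro M hM
    refine hmin M ?_
    have h1 : M.map (QuotientGroup.mk' O) = ⊤ := by
      rw [← (map_injective (f := e.toMonoidHom) e.injective).eq_iff, Subgroup.map_map,
        map_top_of_surjective _ e.surjective]
      exact hM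
    have : f₀ = φ.comp (QuotientGroup.mk' O) := rfl
    rw [this, ← Subgroup.map_map, h1, map_top_of_surjective _ hφ]
  have hπnil : Group.IsNilpotent π.ker := by
    rw [hπk]
    haveI := hNnil
    exact nilpotent_of_mulEquiv (subgroupOfEquivOfLe hON)
  have hzπ : π z₀ = -1 := by
    have h1 : π z₀ ≠ 1 := fun h => by
      have := hOodd z₀ (hπk ▸ MonoidHom.mem_ker.mpr h)
      rw [hz₀] at this
      exact absurd this (by decide)
    have hz2 : z₀ ^ 2 = 1 := orderOf_dvd_iff_pow_eq_one.mp (dvd_of_eq hz₀)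
    have h2 : π z₀ ^ 2 = 1 := by rw [← map_pow, hz2, map_one]
    have h3 : π z₀ ∈ center SL(2, ZMod p) := mem_center_iff.mpr fun s => by
      obtain ⟨g, rfl⟩ := hπ s
      rw [← map_mul, ← map_mul, mem_center_iff.mp hz₀c g]
    obtain ⟨r, hr, hr'⟩ := Matrix.SpecialLinearGroup.mem_center_iff.mp h3
    rw [Fintype.card_fin] at hr
    rcases sq_eq_one_iff.mp hr with rfl | rfl
    · exact absurd (Subtype.ext (by rw [← hr', map_one]; rfl)) h1
    · apply Subtype.ext
      rw [← hr', map_neg, map_one, Matrix.SpecialLinearGroup.coe_neg]; rfl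
  have hkc : ⁅π.ker, (⊤ : Subgroup G)⁆ = π.ker := by
    refine le_antisymm (commutator_le_left _ _) ?_
    set O₁ := ⁅π.ker, (⊤ : Subgroup G)⁆
    have hle : O₁ ≤ π.ker := commutator_le_left _ _
    let σ : G ⧸ O₁ →* SL(2, ZMod p) := QuotientGroup.lift O₁ π hle
    have hσs : Function.Surjective σ := fun y => by obtain ⟨x, rfl⟩ := hπ y; exact ⟨x, rfl⟩
    have hσk : σ.ker = π.ker.map (QuotientGroup.mk' O₁) := QuotientGroup.ker_lift O₁ π hle
    have hperf1 : commutator (G ⧸ O₁) = ⊤ := by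
      rw [_root_.commutator_def, ← map_top_of_surjective _ (QuotientGroup.mk'_surjective O₁),
        ← map_commutator, ← _root_.commutator_def, hperf]
    have hst : Cfsg.IsStemExtension σ := by
      refine ⟨hσs, ?_, by rw [hperf1]; exact le_top⟩
      rw [hσk]
      rintro _ ⟨x, hx, rfl⟩
      refine mem_center_iff.mpr fun g => ?_
      obtain ⟨g, rfl⟩ := QuotientGroup.mk'_surjective O₁ g
      apply Eq.symm
      rw [← commutatorElement_eq_one_iff_mul_comm, ← map_commutatorElement]
      exact (QuotientGroup.eq_one_iff _).mpr (commutator_mem_commutator hx (mem_top g))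
    have hbot := CfsgLib.KnownA.SL2Stem.stem_sl2_trivial (by rw [hcardF]; omega)
      (by rw [hcardF]; intro h; exact absurd (h ▸ (Fact.out : p.Prime)) (by norm_num)) hst
    rw [hσk, Subgroup.map_eq_bot_iff, QuotientGroup.ker_mk'] at hbot
    exact hbot
  have hnoG : ∀ r, (r = 3 ∨ r = 5) → ∀ a b : G, orderOf a = r → orderOf b = r → Commute a b →
      b ∈ zpowers a := by
    intro r hr a b ha hb hab
    obtain ⟨k, hk⟩ := mem_zpowers_iff.mp (hno r hr (a : L) (b : L) ((orderOf_submonoid a).trans ha)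
      ((orderOf_submonoid b).trans hb) (congrArg Subtype.val hab.eq))
    exact ⟨k, Subtype.ext (by simpa using hk)⟩
  haveI : Fact (Nat.Prime 3) := ⟨Nat.prime_three⟩
  haveI : Fact (Nat.Prime 5) := ⟨by norm_num⟩
  have h3 : ¬ 3 ∣ Nat.card π.ker := not_dvd_card_ker π hπnil hperf hkc 3 (by norm_num) (hnoG 3 (Or.inl rfl))
  have h5 : ¬ 5 ∣ Nat.card π.ker := not_dvd_card_ker π hπnil hperf hkc 5 (by norm_num) (hnoG 5 (Or.inr rfl))
  refine ⟨G, ⟨
    { π := π
      seven_le := hp7
      surj := hπ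
      odd_ker := by rw [hπk, hOcard]; exact hO'odd
      nil := hπnil
      perfect := hperf
      minimal := hπmin
      ker_comm := hkc
      coprime_fifteen := ?_
      z := z₀
      z_map := hzπ
      z_sq := by rw [← hz₀, pow_orderOf_eq_one]
      z_central := hz₀c
      three_conj := three_conj_of_coprime π hπ (by omega) (fun s => xM_conj (by omega)) h3
      three_exists := exists_three_lift π hπ (by omega) h3 }⟩⟩
  rw [show 15 = 3 * 5 by norm_num]
  exact Nat.Coprime.mul_right ((Nat.prime_three.coprime_iff_not_dvd.mpr h3).symm)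
    (((by norm_num : Nat.Prime 5).coprime_iff_not_dvd.mpr h5).symm)

theorem card_sl_zmod : Nat.card SL(2, ZMod p) = p * ((p + 1) * (p - 1)) := by
  rw [CfsgLib.KnownA.SL2Stem.card_sl2, ZMod.card]

/-- For `p = 11` the kernel is an `11`-group. -/
theorem Cover.isPGroup_eleven (C : Cover p G) (hp : p = 11) : IsPGroup 11 C.π.ker := by
  haveI : Fact (Nat.Prime 11) := ⟨by norm_num⟩
  refine IsPGroup.of_card (n := (Nat.card C.π.ker).primeFactorsList.length)
    (Nat.eq_prime_pow_of_unique_prime_dvd Nat.card_pos.ne' fun {r} hr hrd => ?_)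
  by_contra hne
  haveI : Fact r.Prime := ⟨hr⟩
  obtain ⟨R, hRn, hRN, hR, hidx⟩ := exists_normal_sylow_of_nilpotent C.π.ker C.nil r
  have hr2 : r ≠ 2 := by
    rintro rfl
    exact absurd hrd (Nat.odd_iff.mp C.odd_ker |> Nat.two_dvd_ne_zero.mpr)
  have hr15 : r ≠ 3 ∧ r ≠ 5 := by
    constructor <;> rintro rfl <;>
      exact absurd (Nat.dvd_one.mp (C.coprime_fifteen ▸ Nat.dvd_gcd hrd (by norm_num))) (by norm_num)
  have hGidx : C.π.ker.index = 1320 := by
    rw [index_ker, MonoidHom.range_eq_top.mpr C.surj, card_top, card_sl_zmod]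
    subst hp; norm_num
  have hcop : (Nat.card R).Coprime R.index := by
    obtain ⟨n, hn⟩ := hR.exists_card_eq
    rw [hn]
    refine (hr.coprime_iff_not_dvd.mpr fun hd => ?_).pow_left n
    rw [← relIndex_mul_index hRN, hr.dvd_mul] at hd
    rcases hd with hd | hd
    · exact hidx hd
    · rw [hGidx, show (1320 : ℕ) = 2 ^ 3 * 3 * 5 * 11 by norm_num, hr.dvd_mul, hr.dvd_mul, hr.dvd_mul] at hd
      have hq : ∀ q : ℕ, q.Prime → r ∣ q → r = q := fun q hq h => (Nat.prime_dvd_prime_iff_eq hr hq).mp h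
      rcases hd with ((hd | hd) | hd) | hd
      · exact hr2 (hq 2 Nat.prime_two (hr.dvd_of_dvd_pow hd))
      · exact hr15.1 (hq 3 Nat.prime_three hd)
      · exact hr15.2 (hq 5 (by norm_num) hd)
      · exact hne (hq 11 (by norm_num) hd)
  obtain ⟨M, hM⟩ := exists_right_complement'_of_coprime (N := R) hcop
  have hsup : R ⊔ M = ⊤ := hM.sup_eq_top
  have hMtop : M = ⊤ := C.minimal M (by
    have h1 := congrArg (map C.π) hsup
    rwa [Subgroup.map_sup, (R.map_eq_bot_iff).mpr hRN, bot_sup_eq,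
      map_top_of_surjective _ C.surj] at h1)
  have hRbot : R = ⊥ := by
    have h1 := hM.disjoint
    rwa [hMtop, disjoint_top] at h1
  rw [hRbot, bot_subgroupOf, index_bot] at hidx
  exact hidx hrd

/-- If some lift of `uM p 1` has order `p` then a `p`-group kernel is trivial (Gaschütz). -/
theorem Cover.ker_eq_bot_of_split (C : Cover p G) (hker : IsPGroup p C.π.ker) (g : G)
    (hg : C.π g = uM p 1) (ho : orderOf g = p) : C.π.ker = ⊥ := by
  by_contra hne
  haveI := C.nil
  haveI hnt : Nontrivial C.π.ker := (Subgroup.nontrivial_iff_ne_bot _).mpr hne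
  set D := ⁅C.π.ker, C.π.ker⁆
  haveI : D.Normal := commutator_normal _ _
  have hDle : D ≤ C.π.ker := commutator_le_left _ _
  have hDne : D ≠ C.π.ker := by
    intro h
    have h1 : commutator C.π.ker = ⊤ := by
      apply map_injective C.π.ker.subtype_injective
      rw [map_subtype_commutator, ← MonoidHom.range_eq_map, range_subtype]; exact h
    exact (IsSolvable.commutator_lt_top_of_nontrivial C.π.ker).ne h1
  set q := QuotientGroup.mk' D
  set A := C.π.ker.map q
  haveI : A.Normal := (inferInstance : C.π.ker.Normal).map q (QuotientGroup.mk'_surjective D)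
  haveI : IsMulCommutative A := ⟨⟨fun a b => by
    obtain ⟨⟨_, ⟨a, ha, rfl⟩⟩, ⟨_, ⟨b, hb, rfl⟩⟩⟩ := a, b
    apply Subtype.ext
    simp only [coe_mul]
    rw [← commutatorElement_eq_one_iff_mul_comm, ← map_commutatorElement]
    exact (QuotientGroup.eq_one_iff _).mpr (commutator_mem_commutator ha hb)⟩⟩
  set B := zpowers (q g)
  have hgker : g ∉ C.π.ker := fun h => by
    have h1 := congrArg (fun M : SL(2, ZMod p) => M.1 0 1) (hg.symm.trans (MonoidHom.mem_ker.mp h))
    simp [uM] at h1
  have hBA : B ⊓ A = ⊥ := by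
    rw [eq_bot_iff]
    rintro x ⟨hx, y, hy, hxy⟩
    obtain ⟨k, rfl⟩ := mem_zpowers_iff.mp hx
    have h1 : g ^ k ∈ C.π.ker := by
      have h2 : y⁻¹ * g ^ k ∈ D := by
        rw [← QuotientGroup.eq_one_iff]
        change q (y⁻¹ * g ^ k) = 1
        rw [map_mul, map_inv, map_zpow, hxy, inv_mul_cancel]
      simpa using mul_mem hy (hDle h2)
    have hpk : (p : ℤ) ∣ k := by
      by_contra hpk
      apply hgker
      have hcop : IsCoprime (p : ℤ) k := (Nat.prime_iff_prime_int.mp Fact.out).coprime_iff_not_dvd.mpr hpk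
      obtain ⟨a, b, hab⟩ := hcop
      have hgp : g ^ (p : ℤ) = 1 := by rw [zpow_natCast, ← ho, pow_orderOf_eq_one]
      have e : g = (g ^ k) ^ b := by
        conv_lhs => rw [← zpow_one g, ← hab, zpow_add, mul_comm a, zpow_mul, hgp, one_zpow, one_mul]
        rw [← zpow_mul, mul_comm]
      rw [e]; exact zpow_mem h1 b
    obtain ⟨c, rfl⟩ := hpk
    rw [mem_bot, ← map_zpow, zpow_mul, zpow_natCast, ← ho, pow_orderOf_eq_one, one_zpow, map_one]
  set U := A ⊔ B
  have hApg : IsPGroup p A := hker.map q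
  have hcardA : ∃ n, Nat.card A = p ^ n := hApg.exists_card_eq
  -- the index of `U` is prime to `p`
  have hUidx : ¬ p ∣ U.index := by
    set U₀ := C.π.ker ⊔ zpowers g
    have hU : U = U₀.map q := by rw [Subgroup.map_sup, MonoidHom.map_zpowers]
    have h1 : U.index ∣ U₀.index := hU ▸ index_map_dvd _ (QuotientGroup.mk'_surjective D)
    have h2 : U₀ = (zpowers (uM p 1)).comap C.π := by
      rw [← hg, ← MonoidHom.map_zpowers, comap_map_eq, sup_comm]
    have h3 : U₀.index = (zpowers (uM p 1)).index := by rw [h2, index_comap_of_surjective _ C.surj]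
    intro hd
    have h4 := hd.trans (h3 ▸ h1)
    have hu : orderOf (uM p 1) = p := by
      refine orderOf_eq_prime (by rw [← hg, ← map_pow, orderOf_dvd_iff_pow_eq_one.mp (dvd_of_eq ho), map_one]) fun h => ?_
      exact hgker (MonoidHom.mem_ker.mpr (hg.trans h))
    have h5 := (zpowers (uM p 1)).card_mul_index
    rw [Nat.card_zpowers, hu, card_sl_zmod] at h5
    have h6 := Nat.eq_of_mul_eq_mul_left (Fact.out : p.Prime).pos h5
    rw [h6, (Fact.out : p.Prime).dvd_mul] at h4
    have := C.seven_le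
    rcases h4 with h4 | h4
    · have := (Nat.dvd_add_right (dvd_refl p)).mp h4
      exact (Fact.out : p.Prime).not_dvd_one this
    · have := Nat.le_of_dvd (by omega) h4
      omega
  have hcopA : (Nat.card A).Coprime U.index := by
    obtain ⟨n, hn⟩ := hcardA
    rw [hn]
    exact ((Fact.out : p.Prime).coprime_iff_not_dvd.mpr hUidx).pow_left n
  obtain ⟨H, hH⟩ := CfsgLib.Solvable.gaschutz_exists (K := A) (U := U) (A := B) le_sup_left hcopA hBA rfl
  have hM : H.comap q = ⊤ := by
    refine C.minimal _ ?_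
    have h1 : C.π.ker ⊔ H.comap q = ⊤ := by
      have h2 := congrArg (comap q) hH.sup_eq_top
      rw [comap_top, ← comap_sup_eq (f := q) (hf := QuotientGroup.mk'_surjective D), comap_map_eq,
        QuotientGroup.ker_mk', sup_eq_left.mpr hDle] at h2
      exact h2
    have h3 := congrArg (map C.π) h1
    rwa [Subgroup.map_sup, (C.π.ker.map_eq_bot_iff).mpr le_rfl, bot_sup_eq,
      map_top_of_surjective _ C.surj] at h3
  have hH' : H = ⊤ := comap_injective (QuotientGroup.mk'_surjective D) (hM.trans (comap_top q).symm)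
  have hAbot : A = ⊥ := by
    have h1 := hH.disjoint
    rwa [hH', disjoint_top] at h1
  rw [Subgroup.map_eq_bot_iff, QuotientGroup.ker_mk'] at hAbot
  exact hDne (le_antisymm hDle hAbot)

end CfsgLib.FixSixth
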