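import Mathlib

/-!
# Layers of a nilpotent map with a twisted semisimple symmetry (S5720)

`T ^ n = 1` and `T` shifts the weight of the `i`-th layer of `N` by `2 * i`.
-/

set_option autoImplicit false

namespace CfsgLib.FixSixth.Layers

open Module Finset

variable {K V : Type*} [Field K] [AddCommGroup V] [Module K V]

/-- Weight space. -/
def wt (T : V →ₗ[K] V) (ζ : K) (j : ℕ) : Submodule K V := LinearMap.ker (T - (ζ ^ j) • 1)

/-- Dimension of the weight `j` part of the `i`-th layer. -/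
noncomputable def E (N T : V →ₗ[K] V) (ζ : K) (i j : ℕ) : ℕ :=
  finrank K (wt T ζ j ⊓ LinearMap.ker N ⊓ LinearMap.range (N ^ i) : Submodule K V)

/-- The standing hypotheses. -/
structure Data (N T : V →ₗ[K] V) (ζ : K) (n L : ℕ) : Prop where
  pos : 0 < n
  cast_ne : (n : K) ≠ 0
  pow_eq : T ^ n = 1
  prim : IsPrimitiveRoot ζ n
  twist : ∀ (i : ℕ) (v : V), (N ^ (i + 1)) v = 0 → T ((N ^ i) v) = (ζ ^ 2) ^ i • (N ^ i) (T v)
  nil : N ^ L = 0

set_option linter.unusedSectionVars false

variable [FiniteDimensional K V] {N T : V →ₗ[K] V} {ζ : K} {n L : ℕ}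

omit [FiniteDimensional K V] in
theorem mem_wt {j : ℕ} {v : V} : v ∈ wt T ζ j ↔ T v = ζ ^ j • v := by
  simp [wt, sub_eq_zero]

omit [FiniteDimensional K V] in
theorem zeta_ne (h : Data N T ζ n L) : ζ ≠ 0 := h.prim.ne_zero h.pos.ne'

/-- The kernels of the powers of `N` are invariant under `T`. -/
theorem ker_pow_stable (h : Data N T ζ n L) (m : ℕ) {v : V} (hv : (N ^ m) v = 0) :
    (N ^ m) (T v) = 0 := by
  have hv' : (N ^ (m + 1)) v = 0 := by
    rw [pow_succ', Module.End.mul_apply, hv, map_zero]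
  have h1 := h.twist m v hv'
  rw [hv, map_zero] at h1
  exact (smul_eq_zero.1 h1.symm).resolve_left (pow_ne_zero _ (pow_ne_zero _ (zeta_ne h)))

theorem E_antitone (h : Data N T ζ n L) (j : ℕ) : Antitone (fun i => E N T ζ i j) := by
  have := h.pos
  refine antitone_nat_of_succ_le fun i => Submodule.finrank_mono (inf_le_inf_left _ ?_)
  rintro y ⟨v, rfl⟩
  exact ⟨N v, by rw [pow_succ, Module.End.mul_apply]⟩

theorem E_eq_zero (h : Data N T ζ n L) {i : ℕ} (hi : L ≤ i) (j : ℕ) : E N T ζ i j = 0 := by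
  have h0 : N ^ i = 0 := pow_eq_zero_of_le hi h.nil
  unfold E
  rw [h0, LinearMap.range_zero, inf_bot_eq, finrank_bot]

theorem wt_mod (h : Data N T ζ n L) (j : ℕ) : wt T ζ (j % n) = wt T ζ j := by
  unfold wt
  rw [h.prim.pow_eq_one |> pow_eq_pow_mod j]

theorem E_mod (h : Data N T ζ n L) (i j : ℕ) : E N T ζ i (j % n) = E N T ζ i j := by
  unfold E
  rw [wt_mod h]

/-- The projection onto the weight `j` space. -/
noncomputable def proj (T : V →ₗ[K] V) (ζ : K) (n j : ℕ) : V →ₗ[K] V :=
  (n : K)⁻¹ • ∑ k ∈ range n, (((ζ ^ j)⁻¹) ^ k) • T ^ k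

theorem proj_apply (v : V) (j : ℕ) :
    proj T ζ n j v = (n : K)⁻¹ • ∑ k ∈ range n, (((ζ ^ j)⁻¹) ^ k) • (T ^ k) v := by
  simp [proj]

theorem proj_mem_wt (h : Data N T ζ n L) (j : ℕ) (v : V) : proj T ζ n j v ∈ wt T ζ j := by
  have hz : ζ ^ j ≠ 0 := pow_ne_zero _ (zeta_ne h)
  have hg : ∀ k, T ((((ζ ^ j)⁻¹) ^ k) • (T ^ k) v) =
      ζ ^ j • ((((ζ ^ j)⁻¹) ^ (k + 1)) • (T ^ (k + 1)) v) := fun k => by
    rw [map_smul, pow_succ' T k, Module.End.mul_apply, smul_smul]
    congr 1
    rw [pow_succ' ((ζ ^ j)⁻¹) k, ← mul_assoc, mul_inv_cancel₀ hz, one_mul]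
  rw [mem_wt, proj_apply, map_smul, map_sum, Finset.sum_congr rfl fun k _ => hg k,
    ← Finset.smul_sum, smul_comm]
  congr 2
  have h1 := Finset.sum_range_succ (fun k => (((ζ ^ j)⁻¹) ^ k) • (T ^ k) v) n
  rw [Finset.sum_range_succ'] at h1
  have h2 : (((ζ ^ j)⁻¹) ^ n) • (T ^ n) v = v := by
    rw [h.pow_eq, ← inv_pow, ← pow_mul, mul_comm, pow_mul, inv_pow, h.prim.pow_eq_one]
    simp
  rw [h2] at h1
  simpa using h1

theorem pow_apply_wt {j : ℕ} {v : V} (hv : v ∈ wt T ζ j) (k : ℕ) :
    (T ^ k) v = (ζ ^ j) ^ k • v := by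
  induction k with
  | zero => simp
  | succ k ih =>
    rw [pow_succ', Module.End.mul_apply, ih, map_smul, mem_wt.1 hv, smul_smul]
    ring_nf

theorem proj_wt (h : Data N T ζ n L) {i j : ℕ} (hi : i < n) (hj : j < n) {v : V}
    (hv : v ∈ wt T ζ i) : proj T ζ n j v = if i = j then v else 0 := by
  have hz : ζ ^ j ≠ 0 := pow_ne_zero _ (zeta_ne h)
  rw [proj_apply]
  simp only [pow_apply_wt hv, smul_smul, ← mul_pow, ← Finset.sum_smul]
  split_ifs with hij
  · subst hij
    simp [inv_mul_cancel₀ hz, h.cast_ne]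
  · have hx : (ζ ^ j)⁻¹ * ζ ^ i ≠ 1 := by
      rw [Ne, inv_mul_eq_one₀ hz]
      exact fun he => hij (h.prim.pow_inj hi hj he.symm)
    have hn : ((ζ ^ j)⁻¹ * ζ ^ i) ^ n = 1 := by
      rw [mul_pow, inv_pow, ← pow_mul, ← pow_mul, mul_comm j, mul_comm i, pow_mul, pow_mul,
        h.prim.pow_eq_one]
      simp
    rw [geom_sum_eq hx, hn]
    simp

theorem sum_proj (h : Data N T ζ n L) (v : V) : ∑ j ∈ range n, proj T ζ n j v = v := by
  simp only [proj_apply]
  rw [← Finset.smul_sum, Finset.sum_comm]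
  have hk : ∀ k ∈ range n, ∑ j ∈ range n, (((ζ ^ j)⁻¹) ^ k) • (T ^ k) v =
      if k = 0 then (n : K) • v else 0 := fun k hk => by
    rw [← Finset.sum_smul]
    split_ifs with hk0
    · subst hk0
      simp
    · have hx : (ζ ^ k)⁻¹ ≠ 1 := by
        rw [Ne, inv_eq_one]
        exact h.prim.pow_ne_one_of_pos_of_lt (by omega) (Finset.mem_range.1 hk)
      have h1 : ∀ j : ℕ, ((ζ ^ j)⁻¹) ^ k = ((ζ ^ k)⁻¹) ^ j := fun j => by
        rw [inv_pow, inv_pow, ← pow_mul, ← pow_mul, mul_comm]
      have hn : ((ζ ^ k)⁻¹) ^ n = 1 := by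
        rw [inv_pow, ← pow_mul, mul_comm, pow_mul, h.prim.pow_eq_one]
        simp
      simp only [h1]
      rw [geom_sum_eq hx, hn]
      simp
  rw [Finset.sum_congr rfl hk, Finset.sum_ite_eq', if_pos (Finset.mem_range.2 h.pos),
    smul_smul, inv_mul_cancel₀ h.cast_ne, one_smul]

theorem pow_stable {W : Submodule K V} (hW : ∀ v ∈ W, T v ∈ W) (k : ℕ) {v : V} (hv : v ∈ W) :
    (T ^ k) v ∈ W := by
  induction k with
  | zero => simpa using hv
  | succ k ih => rw [pow_succ', Module.End.mul_apply]; exact hW _ ih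

theorem proj_stable {W : Submodule K V} (hW : ∀ v ∈ W, T v ∈ W) (j : ℕ) {v : V} (hv : v ∈ W) :
    proj T ζ n j v ∈ W := by
  rw [proj_apply]
  exact W.smul_mem _ (W.sum_mem fun k _ => W.smul_mem _ (pow_stable hW k hv))

theorem finrank_stable (h : Data N T ζ n L) (W : Submodule K V) (hW : ∀ v ∈ W, T v ∈ W) :
    finrank K W = ∑ j ∈ range n, finrank K (wt T ζ j ⊓ W : Submodule K V) := by
  let f : W →ₗ[K] ((j : Fin n) → (wt T ζ j ⊓ W : Submodule K V)) :=
    LinearMap.pi fun j => ((proj T ζ n (j : ℕ)).comp W.subtype).codRestrict _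
      fun v => Submodule.mem_inf.2 ⟨proj_mem_wt h _ _, proj_stable hW _ v.2⟩
  have hinj : Function.Injective f := by
    intro v w hvw
    apply Subtype.ext
    rw [← sum_proj h (v : V), ← sum_proj h (w : V)]
    refine Finset.sum_congr rfl fun j hj => ?_
    exact congrArg Subtype.val (congrFun hvw ⟨j, Finset.mem_range.1 hj⟩)
  have hsurj : Function.Surjective f := by
    intro g
    refine ⟨⟨∑ j, (g j : V), W.sum_mem fun j _ => (Submodule.mem_inf.1 (g j).2).2⟩, ?_⟩
    funext i
    apply Subtype.ext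
    change proj T ζ n (i : ℕ) (∑ j, (g j : V)) = (g i : V)
    rw [map_sum, Finset.sum_eq_single i]
    · rw [proj_wt h i.2 i.2 (Submodule.mem_inf.1 (g i).2).1, if_pos rfl]
    · intro j _ hji
      rw [proj_wt h j.2 i.2 (Submodule.mem_inf.1 (g j).2).1,
        if_neg (fun he => hji (Fin.ext he))]
    · simp
  rw [(LinearEquiv.ofBijective f ⟨hinj, hsurj⟩).finrank_eq, Module.finrank_pi_fintype,
    Fin.sum_univ_eq_sum_range (fun j => finrank K (wt T ζ j ⊓ W : Submodule K V))]

theorem map_layer (h : Data N T ζ n L) (i j : ℕ) :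
    (wt T ζ j ⊓ LinearMap.ker (N ^ (i + 1))).map (N ^ i) =
      wt T ζ (j + 2 * i) ⊓ LinearMap.ker N ⊓ LinearMap.range (N ^ i) := by
  apply le_antisymm
  · rintro y ⟨v, hv, rfl⟩
    obtain ⟨hv1, hv2⟩ := Submodule.mem_inf.1 hv
    rw [LinearMap.mem_ker] at hv2
    refine Submodule.mem_inf.2 ⟨Submodule.mem_inf.2 ⟨?_, ?_⟩, ⟨v, rfl⟩⟩
    · rw [mem_wt, h.twist i v hv2, mem_wt.1 hv1, map_smul, smul_smul, ← pow_mul, ← pow_add,
        add_comm]
    · rw [LinearMap.mem_ker, ← Module.End.mul_apply, ← pow_succ']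
      exact hv2
  · intro y hy
    obtain ⟨hy', ⟨v, hv⟩⟩ := Submodule.mem_inf.1 hy
    obtain ⟨hy1, hy2⟩ := Submodule.mem_inf.1 hy'
    have hv2 : (N ^ (i + 1)) v = 0 := by
      rw [pow_succ', Module.End.mul_apply, hv]
      exact hy2
    have hst : ∀ w ∈ LinearMap.ker (N ^ (i + 1)), T w ∈ LinearMap.ker (N ^ (i + 1)) :=
      fun w hw => ker_pow_stable h _ hw
    refine ⟨proj T ζ n j v, Submodule.mem_inf.2 ⟨proj_mem_wt h j v,
      proj_stable hst j hv2⟩, ?_⟩
    have hk : ∀ k : ℕ, (N ^ i) ((T ^ k) v) = (ζ ^ j) ^ k • y := fun k => by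
      induction k with
      | zero => simpa using hv
      | succ k ih =>
        have h1 := h.twist i ((T ^ k) v) (pow_stable hst k hv2)
        rw [ih, map_smul, mem_wt.1 hy1, smul_smul, ← Module.End.mul_apply T, ← pow_succ'] at h1
        apply smul_right_injective V (pow_ne_zero i (pow_ne_zero 2 (zeta_ne h)))
        dsimp only
        rw [← h1, smul_smul, ← pow_mul, ← pow_add, ← pow_mul, ← pow_mul, ← pow_add]
        congr 2
        ring
    have hz : ζ ^ j ≠ 0 := pow_ne_zero _ (zeta_ne h)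
    rw [proj_apply, map_smul, map_sum]
    simp only [map_smul, hk, smul_smul, ← mul_pow, inv_mul_cancel₀ hz, one_pow, one_smul]
    rw [Finset.sum_const, Finset.card_range, ← Nat.cast_smul_eq_nsmul K, smul_smul,
      inv_mul_cancel₀ h.cast_ne, one_smul]

theorem finrank_wt_inf_ker_pow (h : Data N T ζ n L) (j m : ℕ) :
    finrank K (wt T ζ j ⊓ LinearMap.ker (N ^ m) : Submodule K V) =
      ∑ i ∈ range m, E N T ζ i (j + 2 * i) := by
  induction m with
  | zero =>
    have h0 : LinearMap.ker (N ^ 0) = ⊥ := by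
      ext x
      simp
    rw [h0, inf_bot_eq, finrank_bot, Finset.range_zero, Finset.sum_empty]
  | succ m ih =>
    rw [Finset.sum_range_succ, ← ih]
    have hle : wt T ζ j ⊓ LinearMap.ker (N ^ m) ≤ wt T ζ j ⊓ LinearMap.ker (N ^ (m + 1)) := by
      refine inf_le_inf_left _ fun x hx => ?_
      rw [LinearMap.mem_ker] at hx ⊢
      rw [pow_succ', Module.End.mul_apply, hx, map_zero]
    have h1 := LinearMap.finrank_range_add_finrank_ker
      ((N ^ m).comp (wt T ζ j ⊓ LinearMap.ker (N ^ (m + 1))).subtype)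
    rw [LinearMap.range_comp, Submodule.range_subtype, map_layer h, LinearMap.ker_comp] at h1
    have h2 : (LinearMap.ker (N ^ m)).comap (wt T ζ j ⊓ LinearMap.ker (N ^ (m + 1))).subtype =
        (wt T ζ j ⊓ LinearMap.ker (N ^ m)).comap
          (wt T ζ j ⊓ LinearMap.ker (N ^ (m + 1))).subtype := by
      ext x
      simp only [Submodule.mem_comap, Submodule.mem_inf, Submodule.coe_subtype]
      exact ⟨fun hx => ⟨x.2.1, hx⟩, fun hx => hx.2⟩
    rw [h2, (Submodule.comapSubtypeEquivOfLe hle).finrank_eq] at h1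
    unfold E
    omega

theorem finrank_wt (h : Data N T ζ n L) (j : ℕ) :
    finrank K (wt T ζ j) = ∑ i ∈ range L, E N T ζ i (j + 2 * i) := by
  have h1 := finrank_wt_inf_ker_pow h j L
  rwa [h.nil, LinearMap.ker_zero, inf_top_eq] at h1

theorem finrank_eq_sum_wt (h : Data N T ζ n L) :
    finrank K V = ∑ j ∈ range n, finrank K (wt T ζ j) := by
  have h1 := finrank_stable h ⊤ (fun _ _ => Submodule.mem_top)
  rw [finrank_top] at h1
  rw [h1]
  refine Finset.sum_congr rfl fun j _ => ?_
  rw [inf_top_eq]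

theorem sum_shift (g : ℕ → ℕ) (m : ℕ) (hg : ∀ j, g (j % m) = g j) (c : ℕ) :
    ∑ j ∈ range m, g (j + c) = ∑ j ∈ range m, g j := by
  induction c with
  | zero => simp
  | succ c ih =>
    rw [← ih]
    have h1 := Finset.sum_range_succ (fun j => g (j + c)) m
    rw [Finset.sum_range_succ'] at h1
    have h2 : g (m + c) = g (0 + c) := by
      rw [zero_add, ← hg (m + c), Nat.add_mod_left, hg]
    rw [h2] at h1
    simpa [add_assoc, add_comm, add_left_comm] using h1

theorem finrank_ker_pow (h : Data N T ζ n L) (m : ℕ) :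
    finrank K (LinearMap.ker (N ^ m)) = ∑ i ∈ range m, ∑ j ∈ range n, E N T ζ i j := by
  rw [finrank_stable h _ (fun v hv => ker_pow_stable h m hv)]
  simp only [finrank_wt_inf_ker_pow h]
  rw [Finset.sum_comm]
  exact Finset.sum_congr rfl fun i _ =>
    sum_shift (fun j => E N T ζ i j) n (fun j => E_mod h i j) (2 * i)

theorem finrank_ker (h : Data N T ζ n L) :
    finrank K (LinearMap.ker N) = ∑ j ∈ range n, E N T ζ 0 j := by
  have h1 := finrank_ker_pow h 1
  rwa [pow_one, Finset.sum_range_one] at h1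

theorem finrank_eq_sum_E (h : Data N T ζ n L) :
    finrank K V = ∑ i ∈ range L, ∑ j ∈ range n, E N T ζ i j := by
  rw [← finrank_ker_pow h L, h.nil, LinearMap.ker_zero, finrank_top]

/-- Summation by parts. -/
theorem sum_mul_le (e φ ψ : ℕ → ℕ) (he : Antitone e)
    (hle : ∀ l, ∑ i ∈ range l, φ i ≤ ∑ i ∈ range l, ψ i) (L : ℕ) :
    ∑ i ∈ range L, e i * φ i ≤ ∑ i ∈ range L, e i * ψ i := by
  suffices key : ∀ L, ∑ i ∈ range L, e i * φ i + e L * ∑ i ∈ range L, ψ i ≤
      ∑ i ∈ range L, e i * ψ i + e L * ∑ i ∈ range L, φ i by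
    have h1 := key L
    have h2 : e L * ∑ i ∈ range L, φ i ≤ e L * ∑ i ∈ range L, ψ i :=
      Nat.mul_le_mul_left _ (hle L)
    omega
  intro L
  induction L with
  | zero => simp
  | succ L ih =>
    have h1 := hle (L + 1)
    simp only [Finset.sum_range_succ] at h1 ⊢
    have h2 : e (L + 1) ≤ e L := he (Nat.le_succ L)
    nlinarith [mul_le_mul_of_nonneg_right h2 (Nat.zero_le (∑ i ∈ range L, ψ i))]

/-- How often a chain starting at `s` meets `S` in step `i`. -/
def hit (n : ℕ) (S : Finset ℕ) (s i : ℕ) : ℕ :=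
  (S.filter (fun a => (a + 2 * i) % n = s)).card

theorem sum_marked (h : Data N T ζ n L) (S : Finset ℕ) :
    ∑ a ∈ S, finrank K (wt T ζ a) =
      ∑ s ∈ range n, ∑ i ∈ range L, E N T ζ i s * hit n S s i := by
  simp only [finrank_wt h]
  rw [Finset.sum_comm, Finset.sum_comm (s := range n)]
  refine Finset.sum_congr rfl fun i _ => ?_
  rw [← Finset.sum_fiberwise_of_maps_to
    (g := fun a => (a + 2 * i) % n) (t := range n)
    (fun a _ => Finset.mem_range.2 (Nat.mod_lt _ h.pos))]
  refine Finset.sum_congr rfl fun s _ => ?_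
  rw [hit, Finset.card_eq_sum_ones, Finset.mul_sum]
  refine Finset.sum_congr rfl fun a ha => ?_
  rw [mul_one, ← (Finset.mem_filter.1 ha).2, E_mod h]

theorem hit_le_one {n : ℕ} {S : Finset ℕ} (hS : S ⊆ range n) (s i : ℕ) : hit n S s i ≤ 1 := by
  refine Finset.card_le_one.2 fun a ha b hb => ?_
  have ha' := Finset.mem_filter.1 ha
  have hb' := Finset.mem_filter.1 hb
  have h1 : a + 2 * i ≡ b + 2 * i [MOD n] := ha'.2.trans hb'.2.symm
  exact (Nat.ModEq.add_right_cancel' _ h1).eq_of_lt_of_lt (Finset.mem_range.1 (hS ha'.1))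
    (Finset.mem_range.1 (hS hb'.1))

theorem hit_add {n k : ℕ} (hn : n = 2 * k) (S : Finset ℕ) (s i : ℕ) :
    hit n S s (k + i) = hit n S s i := by
  unfold hit
  refine congrArg Finset.card (Finset.filter_congr fun a _ => ?_)
  rw [show a + 2 * (k + i) = (a + 2 * i) + n by omega, Nat.add_mod_right]

theorem sum_hit_period {n k : ℕ} (hn : n = 2 * k) {S : Finset ℕ} (hS : S ⊆ range n)
    (h2 : ∀ e < 2, (S.filter (fun a => a % 2 = e)).card ≤ 2) (s : ℕ) :
    ∑ i ∈ range k, hit n S s i ≤ 2 := by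
  refine le_trans ?_ (h2 (s % 2) (Nat.mod_lt _ (by norm_num)))
  simp only [hit, Finset.card_filter]
  rw [Finset.sum_comm]
  refine Finset.sum_le_sum fun a ha => ?_
  rw [← Finset.card_filter]
  have han := Finset.mem_range.1 (hS ha)
  have hpar : ∀ i, (a + 2 * i) % n = s → a % 2 = s % 2 := fun i hi => by
    rw [← hi, Nat.mod_mod_of_dvd _ (hn ▸ dvd_mul_right 2 k)]
    omega
  split_ifs with hp
  · refine Finset.card_le_one.2 fun i hi i' hi' => ?_
    rw [Finset.mem_filter, Finset.mem_range] at hi hi'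
    have hmod : ∀ x, x < 2 * n → x % n = if x < n then x else x - n := fun x hx => by
      split_ifs with hxn
      · exact Nat.mod_eq_of_lt hxn
      · rw [Nat.mod_eq_sub_mod (by omega), Nat.mod_eq_of_lt (by omega)]
    have e1 := hi.2
    have e2 := hi'.2
    rw [hmod _ (by omega)] at e1
    rw [hmod _ (by omega)] at e2
    split_ifs at e1 e2 <;> omega
  · rw [Nat.le_zero, Finset.card_eq_zero, Finset.filter_eq_empty_iff]
    exact fun i _ hi => hp (hpar i hi)

theorem sum_hit_le_self {n : ℕ} {S : Finset ℕ} (hS : S ⊆ range n) (s l : ℕ) :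
    ∑ i ∈ range l, hit n S s i ≤ l := by
  simpa using Finset.sum_le_card_nsmul (range l) _ 1 (fun i _ => hit_le_one hS s i)

/-- The marked count in a chain, by induction over whole cycles. -/
theorem sum_hit_le {n k : ℕ} (hn : n = 2 * k) {S : Finset ℕ} (hS : S ⊆ range n)
    (h2 : ∀ e < 2, (S.filter (fun a => a % 2 = e)).card ≤ 2) (c d b : ℕ) (hk : 2 * c ≤ d * k)
    (hb : ∀ l m, 1 ≤ l → m ≤ l → m ≤ 2 → c * m ≤ d * l + b) (s l : ℕ) (hl : 1 ≤ l) :
    c * ∑ i ∈ range l, hit n S s i ≤ d * l + b := by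
  induction l using Nat.strong_induction_on with
  | _ l ih =>
    by_cases hlk : l ≤ k
    · exact hb l _ hl (sum_hit_le_self hS s l)
        (le_trans (Finset.sum_le_sum_of_subset (Finset.range_mono hlk))
          (sum_hit_period hn hS h2 s))
    · obtain ⟨m, rfl⟩ : ∃ m, l = k + m := ⟨l - k, by omega⟩
      rw [Finset.sum_range_add]
      simp only [hit_add hn]
      have h1 : c * ∑ i ∈ range k, hit n S s i ≤ c * 2 :=
        Nat.mul_le_mul_left _ (sum_hit_period hn hS h2 s)
      rw [Nat.mul_add, Nat.mul_add]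
      rcases Nat.eq_zero_or_pos k with rfl | hkpos
      · have hc : c = 0 := by omega
        simp [hc]
      · have h3 := ih m (by omega) (by omega)
        omega

/-- At most two marked weights in each parity, cycles of length at least eight. -/
theorem marked_le_eight (h : Data N T ζ n L) {k : ℕ} (hn : n = 2 * k) (hk : 8 ≤ k) (S : Finset ℕ)
    (hS : S ⊆ range n) (h2 : ∀ e < 2, (S.filter (fun a => a % 2 = e)).card ≤ 2) :
    4 * ∑ a ∈ S, finrank K (wt T ζ a) ≤ finrank K V + 6 * finrank K (LinearMap.ker N) := by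
  rw [sum_marked h, finrank_eq_sum_E h, finrank_ker h, Finset.sum_comm (s := range L),
    Finset.mul_sum, Finset.mul_sum (a := 6), ← Finset.sum_add_distrib]
  refine Finset.sum_le_sum fun s _ => ?_
  rcases Nat.eq_zero_or_pos L with hL | hL
  · subst hL
    simp
  calc 4 * ∑ i ∈ range L, E N T ζ i s * hit n S s i
      = ∑ i ∈ range L, E N T ζ i s * (4 * hit n S s i) := by
        rw [Finset.mul_sum]
        exact Finset.sum_congr rfl fun i _ => by ring
    _ ≤ ∑ i ∈ range L, E N T ζ i s * (1 + if i = 0 then 6 else 0) := by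
        refine sum_mul_le _ _ _ (E_antitone h s) (fun l => ?_) L
        rw [← Finset.mul_sum, Finset.sum_add_distrib, Finset.sum_ite_eq']
        rcases Nat.eq_zero_or_pos l with hl | hl
        · subst hl
          simp
        · have h1 := sum_hit_le hn hS h2 4 1 6 (by omega) (fun l m h1 h2 h3 => by omega) s l hl
          simp [hl]
          omega
    _ = ∑ i ∈ range L, E N T ζ i s + 6 * E N T ζ 0 s := by
        simp only [Nat.mul_add, mul_one, mul_ite, mul_zero, Finset.sum_add_distrib,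
          Finset.sum_ite_eq']
        rw [if_pos (Finset.mem_range.2 hL), mul_comm (E N T ζ 0 s)]

/-- At most two marked weights in each parity, cycles of length five. -/
theorem marked_le_five' (h : Data N T ζ n L) (hn : n = 10) (S : Finset ℕ)
    (hS : S ⊆ range n) (h2 : ∀ e < 2, (S.filter (fun a => a % 2 = e)).card ≤ 2)
    (m : ℕ) (hm : 2 ≤ m) :
    5 * ∑ a ∈ S, finrank K (wt T ζ a) ≤
      2 * finrank K V + 3 * finrank K (LinearMap.ker (N ^ m)) := by
  have hker : finrank K (LinearMap.ker (N ^ m)) =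
      ∑ s ∈ range n, ∑ i ∈ range L, if i < m then E N T ζ i s else 0 := by
    rw [finrank_ker_pow h, Finset.sum_comm]
    refine Finset.sum_congr rfl fun s _ => ?_
    rw [← Finset.sum_filter]
    refine (Finset.sum_subset ?_ ?_).symm
    · intro i hi
      simp only [Finset.mem_filter, Finset.mem_range] at hi ⊢
      exact hi.2
    · intro i hi hi'
      simp only [Finset.mem_filter, Finset.mem_range] at hi hi'
      exact E_eq_zero h (by omega) s
  rw [sum_marked h, finrank_eq_sum_E h, hker, Finset.sum_comm (s := range L),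
    Finset.mul_sum, Finset.mul_sum (a := 2), Finset.mul_sum (a := 3), ← Finset.sum_add_distrib]
  refine Finset.sum_le_sum fun s _ => ?_
  calc 5 * ∑ i ∈ range L, E N T ζ i s * hit n S s i
      = ∑ i ∈ range L, E N T ζ i s * (5 * hit n S s i) := by
        rw [Finset.mul_sum]
        exact Finset.sum_congr rfl fun i _ => by ring
    _ ≤ ∑ i ∈ range L, E N T ζ i s * (2 + if i < m then 3 else 0) := by
        refine sum_mul_le _ _ _ (E_antitone h s) (fun l => ?_) L
        rw [← Finset.mul_sum, Finset.sum_add_distrib, ← Finset.sum_filter]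
        have h4 : ((range l).filter (fun i => i < m)) = range (min l m) := by
          ext i
          simp
        rw [h4]
        have h5 := sum_hit_le_self hS s l
        rcases Nat.eq_zero_or_pos l with hl | hl
        · subst hl
          simp
        · have h1 := sum_hit_le (hn.trans (by norm_num : 10 = 2 * 5)) hS h2 5 2 6 (by norm_num)
            (fun l m h1 h2 h3 => by omega) s l hl
          simp
          omega
    _ = _ := by
        rw [Finset.mul_sum, Finset.mul_sum, ← Finset.sum_add_distrib]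
        exact Finset.sum_congr rfl fun i _ => by split_ifs <;> ring

theorem marked_le_five (h : Data N T ζ n L) (hn : n = 10) (S : Finset ℕ)
    (hS : S ⊆ range n) (h2 : ∀ e < 2, (S.filter (fun a => a % 2 = e)).card ≤ 2) :
    5 * ∑ a ∈ S, finrank K (wt T ζ a) ≤
      2 * finrank K V + 3 * finrank K (LinearMap.ker (N ^ 11)) :=
  marked_le_five' h hn S hS h2 11 (by norm_num)

/-- The standing hypotheses from `T * U = U ^ k * T`. -/
theorem Data.of_conj {U : V →ₗ[K] V} {k : ℕ} (hn : 0 < n) (hc : (n : K) ≠ 0) (hT : T ^ n = 1)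
    (hζ : IsPrimitiveRoot ζ n) (hNU : N = U - 1) (hTU : T * U = U ^ k * T)
    (hk : (k : K) = ζ ^ 2) (hN : N ^ L = 0) : Data N T ζ n L := by
  refine ⟨hn, hc, hT, hζ, ?_, hN⟩
  have hk0 : (k : K) ≠ 0 := hk ▸ pow_ne_zero 2 (hζ.ne_zero hn.ne')
  set R : V →ₗ[K] V := ∑ i ∈ range k, U ^ i with hR
  set Q : V →ₗ[K] V := ∑ i ∈ range k, ∑ l ∈ range i, U ^ l with hQ
  have hU : U = N + 1 := by rw [hNU, sub_add_cancel]
  have hcU : Commute N U := by
    rw [hU]
    exact (Commute.refl N).add_right (Commute.one_right N)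
  have hcR : Commute N R := Commute.sum_right _ _ _ fun i _ => hcU.pow_right i
  have hcQ : Commute N Q :=
    Commute.sum_right _ _ _ fun i _ => Commute.sum_right _ _ _ fun l _ => hcU.pow_right l
  have hRN : R * N = U ^ k - 1 := by
    rw [hR, hNU]
    exact geom_sum_mul U k
  have hRQ : R = (k : V →ₗ[K] V) + Q * N := by
    have h1 : Q * N = ∑ i ∈ range k, (U ^ i - 1) := by
      rw [hQ, Finset.sum_mul, hNU]
      exact Finset.sum_congr rfl fun i _ => geom_sum_mul U i
    rw [h1, Finset.sum_sub_distrib, ← hR]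
    simp
  have hTN : T * N = R * N * T := by
    rw [hRN, hNU, mul_sub, mul_one, hTU, sub_mul, one_mul]
  have hTNi : ∀ i, T * N ^ i = R ^ i * N ^ i * T := fun i => by
    induction i with
    | zero => simp
    | succ i ih =>
      have hc' : N ^ i * R = R * N ^ i := (hcR.pow_left i).eq
      calc T * N ^ (i + 1) = T * N ^ i * N := by rw [pow_succ, mul_assoc]
        _ = R ^ i * N ^ i * (T * N) := by rw [ih, mul_assoc]
        _ = R ^ i * (N ^ i * R) * (N * T) := by rw [hTN]; simp only [mul_assoc]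
        _ = R ^ (i + 1) * N ^ (i + 1) * T := by
            rw [hc', pow_succ, pow_succ]; simp only [mul_assoc]
  have hinj : ∀ y, R y = 0 → y = 0 := by
    intro y hy
    rw [hRQ, LinearMap.add_apply, Module.End.natCast_apply, ← Nat.cast_smul_eq_nsmul K] at hy
    have h1 : ((-(k : K)⁻¹) • (Q * N)) y = y := by
      rw [LinearMap.smul_apply, eq_neg_of_add_eq_zero_right hy, smul_neg, neg_smul, neg_neg,
        smul_smul, inv_mul_cancel₀ hk0, one_smul]
    have h2 : ∀ j, (((-(k : K)⁻¹) • (Q * N)) ^ j) y = y := fun j => by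
      induction j with
      | zero => simp
      | succ j ih => rw [pow_succ, Module.End.mul_apply, h1, ih]
    have h3 := h2 L
    rw [smul_pow, hcQ.symm.mul_pow, hN] at h3
    simpa using h3.symm
  have hinji : ∀ i y, (R ^ i) y = 0 → y = 0 := fun i => by
    induction i with
    | zero => simp
    | succ i ih =>
      intro y hy
      rw [pow_succ, Module.End.mul_apply] at hy
      exact hinj y (ih _ hy)
  intro i v hv
  have h1 : N ((N ^ i) (T v)) = 0 := by
    rw [← Module.End.mul_apply N, ← pow_succ']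
    apply hinji (i + 1)
    rw [← Module.End.mul_apply, ← Module.End.mul_apply, ← hTNi, Module.End.mul_apply, hv,
      map_zero]
  have h2 : R ((N ^ i) (T v)) = (k : K) • (N ^ i) (T v) := by
    rw [hRQ, LinearMap.add_apply, Module.End.natCast_apply, Module.End.mul_apply, h1, map_zero,
      add_zero, Nat.cast_smul_eq_nsmul]
  have h3 : ∀ j, (R ^ j) ((N ^ i) (T v)) = (k : K) ^ j • (N ^ i) (T v) := fun j => by
    induction j with
    | zero => simp
    | succ j ih =>
      rw [pow_succ, Module.End.mul_apply, h2, map_smul, ih, smul_smul, pow_succ']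
  rw [← hk, ← h3, ← Module.End.mul_apply, ← Module.End.mul_apply, ← Module.End.mul_apply, hTNi]

end CfsgLib.FixSixth.Layers
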