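import Cfsg.Agent.Lib.FixSixth.PolyModel

/-!
# Simple `SL(2, p)`-modules in characteristic `p` (S5720, piece 5)

`simple_data`: dimension, torus weights and the fixed spaces of `xM` and `uM 1` of a simple module.
The module (or its dual) is embedded into homogeneous functions on the plane.
-/

set_option autoImplicit false
set_option maxHeartbeats 1000000

namespace CfsgLib.FixSixth

open scoped MatrixGroups
open Matrix Module Finset

variable {p : ℕ} [hp : Fact p.Prime] {K : Type*} [Field K]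

/-- The residue `c` as an element of `K`. -/
def cst (c : ZMod p) : K := ((c.val : K))

theorem cst_eq_cK [CharP K p] (c : ZMod p) : (cst c : K) = (cK c : K) := by
  rw [cst, ZMod.natCast_val, cK, ZMod.castHom_apply]

/-- The weight space of `tM theta` for the weight `j`. -/
def wspace {V : Type*} [AddCommGroup V] [Module K V] (ρ : Representation K SL(2, ZMod p) V)
    (θ : (ZMod p)ˣ) (j : ℕ) : Submodule K V :=
  LinearMap.ker (ρ (tM p θ) - (cst (θ : ZMod p) : K) ^ j • 1)

theorem tM_mul (l m : (ZMod p)ˣ) : tM p (l * m) = tM p l * tM p m := by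
  apply Subtype.ext
  rw [Matrix.SpecialLinearGroup.coe_mul, tM_val, tM_val, tM_val, Matrix.mul_fin_two, mul_inv,
    Units.val_mul, Units.val_mul]
  simp only [mul_zero, zero_mul, add_zero, zero_add]

theorem tM_one : tM p 1 = 1 := by
  apply Subtype.ext
  ext i j
  fin_cases i <;> fin_cases j <;> simp [tM_val]

theorem tM_pow (l : (ZMod p)ˣ) (n : ℕ) : tM p l ^ n = tM p (l ^ n) := by
  induction n with
  | zero => simp [tM_one]
  | succ n ih => rw [pow_succ, ih, ← tM_mul, pow_succ]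

theorem tM_inv (l : (ZMod p)ˣ) : (tM p l)⁻¹ = tM p l⁻¹ :=
  inv_eq_of_mul_eq_one_right (by rw [← tM_mul, mul_inv_cancel, tM_one])

theorem tM_mul_uM (l : (ZMod p)ˣ) (c : ZMod p) :
    tM p l * uM p c = uM p ((l : ZMod p) * l * c) * tM p l := by
  apply Subtype.ext
  rw [Matrix.SpecialLinearGroup.coe_mul, Matrix.SpecialLinearGroup.coe_mul, tM_val, uM_val, uM_val,
    Matrix.mul_fin_two, Matrix.mul_fin_two]
  simp only [mul_zero, zero_mul, add_zero, zero_add, mul_one, one_mul]
  rw [mul_assoc ((l : ZMod p) * l), mul_comm c, ← mul_assoc ((l : ZMod p) * l),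
    mul_assoc (l : ZMod p) l, l.mul_inv, mul_one]

theorem tM_mulVec_ptInf (l : (ZMod p)ˣ) : (tM p l).1 *ᵥ ptInf = (l : ZMod p) • ptInf := by
  funext k
  rw [tM_val]
  fin_cases k <;> simp only [ptInf, Matrix.mulVec, dotProduct, Fin.sum_univ_two, Matrix.of_apply,
    Matrix.cons_val', Matrix.cons_val_zero, Matrix.cons_val_one, Matrix.cons_val_fin_one,
    Matrix.head_cons, Pi.smul_apply, smul_eq_mul, Fin.mk_one, Fin.zero_eta, mul_one, mul_zero,
    add_zero, zero_mul]

theorem uM_mulVec_ptInf (c : ZMod p) : (uM p c).1 *ᵥ ptInf = ptInf := by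
  funext k
  fin_cases k <;> simp [uM_val, ptInf, Matrix.mulVec, dotProduct, Fin.sum_univ_two]

/-- Every nonzero point is the first column of some element. -/
theorem exists_mulVec_ptInf {P : Fin 2 → ZMod p} (hP : P ≠ 0) :
    ∃ g : SL(2, ZMod p), g.1 *ᵥ ptInf = P := by
  by_cases h0 : P 0 = 0
  · have h1 : P 1 ≠ 0 := fun h => hP (by funext k; fin_cases k <;> assumption)
    refine ⟨⟨!![0, -(P 1)⁻¹; P 1, 0], by simp [Matrix.det_fin_two_of, h1]⟩, ?_⟩
    funext k
    fin_cases k <;> simp [ptInf, Matrix.mulVec, dotProduct, Fin.sum_univ_two, h0]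
  · refine ⟨⟨!![P 0, 0; P 1, (P 0)⁻¹], by simp [Matrix.det_fin_two_of, h0]⟩, ?_⟩
    funext k
    fin_cases k <;> simp [ptInf, Matrix.mulVec, dotProduct, Fin.sum_univ_two]

theorem eq_uM_of_mulVec_ptInf {g : SL(2, ZMod p)} (h : g.1 *ᵥ ptInf = ptInf) :
    g = uM p (g.1 0 1) := by
  have h0 := congrFun h 0
  have h1 := congrFun h 1
  simp [ptInf, Matrix.mulVec, dotProduct, Fin.sum_univ_two] at h0 h1
  have hd := g.2
  rw [Matrix.det_fin_two, h0, h1] at hd
  apply Subtype.ext
  ext i j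
  fin_cases i <;> fin_cases j <;> simp_all [uM_val]

section Model

variable [CharP K p]

theorem theta_prim {θ : (ZMod p)ˣ} (hθ : ∀ l, l ∈ Subgroup.zpowers θ) :
    IsPrimitiveRoot (cK (θ : ZMod p) : K) (p - 1) := by
  refine IsPrimitiveRoot.map_of_injective ?_ cK_inj
  rw [IsPrimitiveRoot.coe_units_iff]
  have h : orderOf θ = p - 1 := by
    rw [orderOf_eq_card_of_forall_mem_zpowers hθ, Nat.card_eq_fintype_card, ZMod.card_units]
  exact h ▸ IsPrimitiveRoot.orderOf θ

theorem card_fin_filter {n : ℕ} (P : ℕ → Prop) [DecidablePred P] :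
    Nat.card {i : Fin n // P i} = ((range n).filter P).card := by
  rw [Nat.card_eq_fintype_card, Fintype.card_subtype]
  refine Finset.card_bij (fun i _ => (i : ℕ)) ?_ (fun a _ b _ e => Fin.ext e) ?_
  · intro i hi
    simpa [i.2] using hi
  · intro b hb
    simp only [mem_filter, mem_range] at hb
    exact ⟨⟨b, hb.1⟩, by simpa using hb.2, rfl⟩

theorem funRep_tM_pmon (l : (ZMod p)ˣ) (n i : ℕ) :
    funRep (tM p l) (pmon cX cY n i)
      = ((cK ((l⁻¹ : (ZMod p)ˣ) : ZMod p) : K) ^ i * cK (l : ZMod p) ^ (n - i))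
          • (pmon cX cY n i : (Fin 2 → ZMod p) → K) := by
  rw [funRep_pmon, cX_mulVec, cY_mulVec, tM_inv]
  funext P
  by_cases hP : P = 0
  · simp only [pmon, hP, if_true, Pi.smul_apply, smul_zero]
  · simp only [pmon, if_neg hP, tM_val, inv_inv, cX, cY, Pi.add_apply, Pi.smul_apply, smul_eq_mul,
      Matrix.of_apply, Matrix.cons_val', Matrix.cons_val_zero, Matrix.cons_val_one,
      Matrix.cons_val_fin_one, Matrix.head_cons, map_zero, zero_mul, add_zero, zero_add, mul_pow]
    ring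

theorem weight_eq_iff {c : K} {N : ℕ} (hc : IsPrimitiveRoot c N) (hc0 : c ≠ 0) {n i : ℕ}
    (hi : i ≤ n) (j : ℕ) :
    c⁻¹ ^ i * c ^ (n - i) = c ^ j ↔ ((n : ℤ) - 2 * (i : ℤ) - (j : ℤ)) % (N : ℤ) = 0 := by
  have e : c⁻¹ ^ i * c ^ (n - i) = c ^ ((n : ℤ) - 2 * i) := by
    rw [← zpow_natCast c⁻¹, ← zpow_natCast c, _root_.inv_zpow', ← zpow_add₀ hc0]
    congr 1
    push_cast [hi]
    ring
  rw [e, ← zpow_natCast c j, ← Int.dvd_iff_emod_eq_zero, ← hc.zpow_eq_one_iff_dvd,
    zpow_sub₀ hc0 ((n : ℤ) - 2 * i) (j : ℤ), div_eq_one_iff_eq (zpow_ne_zero _ hc0)]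

/-- Weights of `polyMod p K n`. -/
theorem finrank_poly_weight {n : ℕ} (hn : n < p) {θ : (ZMod p)ˣ}
    (hθ : ∀ l, l ∈ Subgroup.zpowers θ) (j : ℕ) :
    finrank K ↥(LinearMap.ker (funRep (tM p θ) - (cK (θ : ZMod p) : K) ^ j • 1) ⊓ polyMod p K n)
      = ((range (n + 1)).filter
          (fun i : ℕ => ((n : ℤ) - 2 * (i : ℤ) - (j : ℤ)) % ((p : ℤ) - 1) = 0)).card := by
  have h := finrank_eigen_span (funRep (tM p θ))
    (fun i : Fin (n + 1) => (pmon cX cY n i : (Fin 2 → ZMod p) → K)) (linearIndependent_pmon hn)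
    (fun i : Fin (n + 1) => (cK ((θ⁻¹ : (ZMod p)ˣ) : ZMod p) : K) ^ (i : ℕ)
      * cK (θ : ZMod p) ^ (n - (i : ℕ)))
    (fun i => funRep_tM_pmon θ n i) ((cK (θ : ZMod p) : K) ^ j)
  unfold polyMod pspan
  rw [h]
  have hcast : ((p - 1 : ℕ) : ℤ) = (p : ℤ) - 1 := by
    have := hp.out.one_lt; omega
  rw [← card_fin_filter (fun i : ℕ => ((n : ℤ) - 2 * (i : ℤ) - (j : ℤ)) % ((p : ℤ) - 1) = 0)]
  refine Nat.card_congr (Equiv.subtypeEquivRight fun i => ?_)
  rw [show (cK ((θ⁻¹ : (ZMod p)ˣ) : ZMod p) : K) = (cK (θ : ZMod p))⁻¹ by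
    rw [Units.val_inv_eq_inv_val, map_inv₀], ← hcast]
  exact weight_eq_iff (theta_prim hθ)
    (by simpa using (map_ne_zero_iff cK cK_inj).2 θ.ne_zero) (Nat.lt_succ_iff.1 i.2) j

/-- Weights of `polyMod p K n` for the inverse generator. -/
theorem finrank_poly_weight_inv {n : ℕ} (hn : n < p) {θ : (ZMod p)ˣ}
    (hθ : ∀ l, l ∈ Subgroup.zpowers θ) (j : ℕ) :
    finrank K ↥(LinearMap.ker (funRep ((tM p θ)⁻¹) - (cK (θ : ZMod p) : K) ^ j • 1) ⊓ polyMod p K n)
      = ((range (n + 1)).filter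
          (fun i : ℕ => ((n : ℤ) - 2 * (i : ℤ) - (j : ℤ)) % ((p : ℤ) - 1) = 0)).card := by
  have h := finrank_eigen_span (funRep (tM p θ⁻¹))
    (fun i : Fin (n + 1) => (pmon cX cY n i : (Fin 2 → ZMod p) → K)) (linearIndependent_pmon hn)
    (fun i : Fin (n + 1) => (cK (((θ⁻¹)⁻¹ : (ZMod p)ˣ) : ZMod p) : K) ^ (i : ℕ)
      * cK ((θ⁻¹ : (ZMod p)ˣ) : ZMod p) ^ (n - (i : ℕ)))
    (fun i => funRep_tM_pmon θ⁻¹ n i) ((cK (θ : ZMod p) : K) ^ j)
  rw [tM_inv]
  unfold polyMod pspan
  rw [h]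
  have hcast : ((p - 1 : ℕ) : ℤ) = (p : ℤ) - 1 := by
    have := hp.out.one_lt; omega
  rw [← card_fin_filter (fun i : ℕ => ((n : ℤ) - 2 * (i : ℤ) - (j : ℤ)) % ((p : ℤ) - 1) = 0)]
  refine Nat.card_congr (Equiv.subtypeEquiv Fin.revPerm fun i => ?_)
  have hi := Nat.lt_succ_iff.1 i.2
  rw [Fin.revPerm_apply, Fin.val_rev, show n + 1 - ((i : ℕ) + 1) = n - i by omega, inv_inv,
    Units.val_inv_eq_inv_val, map_inv₀, mul_comm, ← hcast]
  have := weight_eq_iff (theta_prim (K := K) hθ)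
    (by simpa using (map_ne_zero_iff cK cK_inj).2 θ.ne_zero) (Nat.sub_le n i) j
  rwa [show n - (n - (i : ℕ)) = i by omega] at this

theorem finrank_poly_uM {n : ℕ} (hn : n < p) :
    LinearMap.ker (funRep (uM p 1) - 1) ⊓ polyMod p K n
      = K ∙ (pmon cX cY n 0 : (Fin 2 → ZMod p) → K) := by
  refine le_antisymm ?_ ((Submodule.span_singleton_le_iff_mem _ _).2
    ⟨?_, pmon_mem_pspan _ _ (Nat.zero_le n)⟩)
  · rintro f ⟨hk, hf⟩
    obtain ⟨r, rfl⟩ := fixed_uM hn hf (mem_ker_sub_one.1 hk)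
    exact Submodule.smul_mem _ _ (Submodule.mem_span_singleton_self _)
  · exact mem_ker_sub_one.2 (funRep_uM_pmon_zero 1 n)

theorem finrank_poly_uM_one {n : ℕ} (hn : n < p) :
    finrank K ↥(LinearMap.ker (funRep (uM p 1) - 1) ⊓ polyMod p K n) = 1 := by
  rw [finrank_poly_uM hn, finrank_span_singleton]
  exact (linearIndependent_pmon (K := K) hn).ne_zero ⟨0, n.succ_pos⟩

/-- The fixed space of `xM` in `polyMod p K n`. -/
theorem finrank_poly_xM [IsAlgClosed K] (hp5 : 5 ≤ p) {n : ℕ} (hn : n < p) :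
    finrank K ↥(LinearMap.ker (funRep (xM p) - 1) ⊓ polyMod p K n)
      = ((range (n + 1)).filter (fun i : ℕ => ((n : ℤ) - 2 * (i : ℤ)) % 3 = 0)).card := by
  obtain ⟨w, hw⟩ : ∃ w : K, w * w + w + 1 = 0 := by
    have hd : (Polynomial.X ^ 2 + Polynomial.X + 1 : Polynomial K).degree ≠ 0 := by
      have : (Polynomial.X ^ 2 + Polynomial.X + 1 : Polynomial K).degree = 2 := by compute_degree!
      rw [this]; decide
    obtain ⟨w, hw⟩ := IsAlgClosed.exists_root _ hd
    exact ⟨w, by simpa [Polynomial.IsRoot, sq] using hw⟩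
  have h3 : (3 : K) ≠ 0 := fun e => three_zmod hp5 (cK_inj (K := K) (by
    rw [map_ofNat, map_zero, e]))
  have hw1 : w ≠ 1 := fun e => h3 (by subst e; linear_combination hw)
  have hw3 : w ^ 3 = 1 := by linear_combination (w - 1) * hw
  have hprim : IsPrimitiveRoot w 3 := by
    haveI : Fact (Nat.Prime 3) := ⟨Nat.prime_three⟩
    exact orderOf_eq_prime hw3 hw1 ▸ IsPrimitiveRoot.orderOf w
  have hw0 : w ≠ 0 := fun e => by simp [e] at hw3
  have hdiff : w - w ^ 2 ≠ 0 := fun e => hw1 (by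
    have : w * (1 - w) = 0 := by linear_combination e
    rcases mul_eq_zero.1 this with h | h
    · exact absurd h hw0
    · linear_combination -h)
  set A : (Fin 2 → ZMod p) → K := (1 : K) • cX + w • cY with hA
  set B : (Fin 2 → ZMod p) → K := (1 : K) • cX + (w ^ 2) • cY with hB
  have hinv : ((xM p)⁻¹).1 = !![0, -1; 1, -1] := by
    rw [Matrix.SpecialLinearGroup.coe_inv, xM_val, Matrix.adjugate_fin_two]
    simp
  have hT : ∀ i : Fin (n + 1), funRep (xM p) (pmon A B n i)
      = (w ^ (i : ℕ) * (w ^ 2) ^ (n - (i : ℕ))) • pmon A B n i := fun i => by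
    rw [funRep_pmon]
    funext P
    by_cases hP : P = 0
    · simp [pmon, hP]
    · have eA : A (((xM p)⁻¹).1 *ᵥ P) = w * A P := by
        simp [hA, cX, cY, hinv, Matrix.mulVec, dotProduct, Fin.sum_univ_two]
        linear_combination -(cK (P 1) : K) * hw
      have eB : B (((xM p)⁻¹).1 *ᵥ P) = w ^ 2 * B P := by
        simp [hB, cX, cY, hinv, Matrix.mulVec, dotProduct, Fin.sum_univ_two]
        linear_combination (-(cK (P 1) : K) * (w ^ 2 - w + 1)) * hw
      simp only [pmon, if_neg hP, eA, eB, Pi.smul_apply, smul_eq_mul]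
      ring
  have hX : cX = ((-(w ^ 2)) / (w - w ^ 2)) • A + (w / (w - w ^ 2)) • B := by
    funext P
    simp only [hA, hB, Pi.add_apply, Pi.smul_apply, smul_eq_mul]
    field_simp
    ring
  have hY : cY = ((1 : K) / (w - w ^ 2)) • A + ((-1 : K) / (w - w ^ 2)) • B := by
    funext P
    simp only [hA, hB, Pi.add_apply, Pi.smul_apply, smul_eq_mul]
    field_simp
    ring
  have hspan : polyMod p K n = pspan A B n :=
    le_antisymm (pspan_le hX hY n) (pspan_le hA hB n)
  have hli : LinearIndependent K (fun i : Fin (n + 1) => pmon A B n i) := by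
    rw [linearIndependent_iff_card_eq_finrank_span, Fintype.card_fin]
    exact ((congrArg (fun S : Submodule K _ => finrank K S) hspan).symm.trans
      (finrank_polyMod hn)).symm
  have h := finrank_eigen_span (funRep (xM p)) _ hli _ hT 1
  rw [one_smul] at h
  rw [hspan, pspan, h,
    ← card_fin_filter (fun i : ℕ => ((n : ℤ) - 2 * (i : ℤ)) % 3 = 0)]
  refine Nat.card_congr (Equiv.subtypeEquivRight fun i => ?_)
  have hi := Nat.lt_succ_iff.1 i.2
  rw [← pow_mul, ← pow_add, hprim.pow_eq_one_iff_dvd]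
  omega

end Model

section Embedding

variable [CharP K p] {V : Type*} [AddCommGroup V] [Module K V] [FiniteDimensional K V]
variable (ρ : Representation K SL(2, ZMod p) V)

/-- A highest weight functional. -/
theorem exists_functional [IsAlgClosed K] {θ : (ZMod p)ˣ} (hθ : ∀ l, l ∈ Subgroup.zpowers θ)
    (hV : ∃ v : V, v ≠ 0) :
    ∃ (a : ℕ) (φ : V →ₗ[K] K), a < p - 1 ∧ φ ≠ 0 ∧ (∀ c v, φ (ρ (uM p c) v) = φ v) ∧
      ∀ (l : (ZMod p)ˣ) v, φ (ρ ((tM p l)⁻¹) v) = cK (l : ZMod p) ^ a * φ v := by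
  classical
  obtain ⟨v0, hv0⟩ := hV
  set D : Submodule K (V →ₗ[K] K) := LinearMap.ker ((ρ (uM p 1)).dualMap - 1) with hD
  have hmemD : ∀ φ, φ ∈ D ↔ ∀ v, φ (ρ (uM p 1) v) = φ v := fun φ => by
    rw [hD, LinearMap.mem_ker, LinearMap.sub_apply, Module.End.one_apply, sub_eq_zero,
      LinearMap.ext_iff]
    rfl
  have hDne : D ≠ ⊥ := by
    haveI : Nontrivial V := ⟨⟨v0, 0, hv0⟩⟩
    have hne : (⊤ : Submodule K (Module.Dual K V)) ≠ ⊥ := top_ne_bot
    obtain ⟨φ, -, hφ0, hφ⟩ := exists_fixed_mem (p := p) ρ.dual ((uM p 1)⁻¹)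
      (by rw [inv_pow, uM_pow_p, inv_one]) ⊤ (fun _ _ => trivial) hne
    refine (Submodule.ne_bot_iff _).2 ⟨φ, (hmemD φ).2 fun v => ?_, hφ0⟩
    have := LinearMap.congr_fun hφ v
    simpa [Representation.dual_apply, Module.Dual.transpose_apply] using this
  have huall : ∀ φ ∈ D, ∀ (c : ZMod p) v, φ (ρ (uM p c) v) = φ v := by
    intro φ hφ c
    obtain ⟨k, rfl⟩ : ∃ k : ℕ, (k : ZMod p) = c := ⟨c.val, ZMod.natCast_zmod_val c⟩
    induction k with
    | zero => simp [uM_zero]
    | succ k ih =>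
      intro v
      rw [Nat.cast_succ, uM_add, map_mul, Module.End.mul_apply, ih, (hmemD φ).1 hφ]
  have hstab : ∀ φ ∈ D, (ρ ((tM p θ)⁻¹)).dualMap φ ∈ D := fun φ hφ => (hmemD _).2 fun v => by
    have e : (tM p θ)⁻¹ * uM p 1
        = uM p (((θ⁻¹ : (ZMod p)ˣ) : ZMod p) * (θ⁻¹ : (ZMod p)ˣ) * 1) * (tM p θ)⁻¹ := by
      rw [tM_inv, tM_mul_uM]
    show φ (ρ ((tM p θ)⁻¹) (ρ (uM p 1) v)) = φ (ρ ((tM p θ)⁻¹) v)
    rw [← Module.End.mul_apply, ← map_mul, e, map_mul, Module.End.mul_apply, huall φ hφ]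
  haveI : Nontrivial D := Submodule.nontrivial_iff_ne_bot.2 hDne
  set T : Module.End K D := (ρ ((tM p θ)⁻¹)).dualMap.restrict hstab with hTdef
  obtain ⟨μ, hμ⟩ := Module.End.exists_eigenvalue (K := K) (V := ↥D) T
  obtain ⟨⟨φ, hφD⟩, hφ, hφ0⟩ := hμ.exists_hasEigenvector
  rw [Module.End.mem_eigenspace_iff, hTdef] at hφ
  have hφ' : ∀ v, φ (ρ ((tM p θ)⁻¹) v) = μ * φ v := fun v =>
    LinearMap.congr_fun (congrArg Subtype.val hφ) v
  have hpow : ∀ k : ℕ, ∀ v, φ (ρ ((tM p (θ ^ k))⁻¹) v) = μ ^ k * φ v := by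
    intro k
    induction k with
    | zero => simp [tM_one]
    | succ k ih =>
      intro v
      rw [pow_succ', tM_mul, _root_.mul_inv_rev, map_mul, Module.End.mul_apply, ih, hφ']
      ring
  have hφne : φ ≠ 0 := fun e => hφ0 (Subtype.ext e)
  have hprim := theta_prim (K := K) hθ
  have hμ1 : μ ^ (p - 1) = 1 := by
    obtain ⟨v, hv⟩ : ∃ v, φ v ≠ 0 := by
      by_contra h; push Not at h; exact hφne (LinearMap.ext h)
    have := hpow (p - 1) v
    rw [ZMod.units_pow_card_sub_one_eq_one, tM_one, inv_one, map_one, Module.End.one_apply] at this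
    exact (mul_eq_right₀ hv).1 this.symm
  haveI : NeZero (p - 1) := ⟨by have := hp.out.one_lt; omega⟩
  obtain ⟨a, ha, hca⟩ := hprim.eq_pow_of_pow_eq_one hμ1
  refine ⟨a, φ, ha, hφne, huall φ hφD, fun l v => ?_⟩
  obtain ⟨k, hk⟩ := (mem_powers_iff_mem_zpowers (x := θ)).2 (hθ l)
  dsimp only at hk
  rw [← hk, hpow k v, ← hca, Units.val_pow_eq_pow_val, map_pow, ← pow_mul, ← pow_mul, mul_comm k a]

/-- Pushing an eigenspace along a map that is injective on a stable subspace. -/
theorem finrank_map_of_injOn {A B : Type*} [AddCommGroup A] [Module K A] [AddCommGroup B]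
    [Module K B] (Φ : A →ₗ[K] B) (S : Submodule K A) (h : ∀ x ∈ S, Φ x = 0 → x = 0) :
    finrank K (S.map Φ) = finrank K S := by
  rw [← LinearMap.range_domRestrict]
  refine LinearMap.finrank_range_of_inj ?_
  rw [← LinearMap.ker_eq_bot, LinearMap.ker_eq_bot']
  exact fun x hx => Subtype.ext (h x x.2 hx)

theorem finrank_ker_dualMap (f : Module.End K V) :
    finrank K (LinearMap.ker f.dualMap) = finrank K (LinearMap.ker f) := by
  have h1 := LinearMap.finrank_range_add_finrank_ker f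
  have h2 := LinearMap.finrank_range_add_finrank_ker f.dualMap
  rw [LinearMap.finrank_range_dualMap_eq_finrank_range, Subspace.dual_finrank_eq] at h2
  omega

end Embedding

/-- The data of a simple module in characteristic `p`. -/
theorem simple_data {V : Type*} [AddCommGroup V] [Module K V] [CharP K p] [IsAlgClosed K]
    [FiniteDimensional K V] (hp5 : 5 ≤ p) (θ : (ZMod p)ˣ) (hθ : ∀ l, l ∈ Subgroup.zpowers θ)
    (ρ : Representation K SL(2, ZMod p) V) (hs : IsSimpleRep ρ) :
    ∃ a < p, finrank K V = a + 1 ∧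
      (∀ j : ℕ, finrank K (wspace ρ θ j) = ((Finset.range (a + 1)).filter
        (fun i : ℕ => ((a : ℤ) - 2 * (i : ℤ) - (j : ℤ)) % ((p : ℤ) - 1) = 0)).card) ∧
      fixDim ρ (xM p) = ((Finset.range (a + 1)).filter
        (fun i : ℕ => ((a : ℤ) - 2 * (i : ℤ)) % 3 = 0)).card ∧
      fixDim ρ (uM p 1) = 1 ∧
      finrank K ((LinearMap.ker (ρ (uM p 1) - 1) ⊓ wspace ρ θ a : Submodule K V)) = 1 := by
  classical
  obtain ⟨⟨v0, hv0⟩, hsimp⟩ := hs
  obtain ⟨a, φ, ha, hφ, hφu, hφt⟩ := exists_functional ρ hθ ⟨v0, hv0⟩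
  set Φ : V →ₗ[K] ((Fin 2 → ZMod p) → K) := LinearMap.pi fun P =>
    if h : P = 0 then 0 else φ ∘ₗ ρ ((Classical.choose (exists_mulVec_ptInf h))⁻¹) with hΦ
  have hΦ0 : ∀ v, Φ v 0 = 0 := fun v => by simp [hΦ]
  have hΦg : ∀ (g : SL(2, ZMod p)) v, Φ v (g.1 *ᵥ ptInf) = φ (ρ g⁻¹ v) := fun g v => by
    have hne : g.1 *ᵥ ptInf ≠ 0 := fun e => ptInf_ne ((sl_mulVec_eq_zero g _).1 e)
    simp only [hΦ, LinearMap.pi_apply, dif_neg hne, LinearMap.comp_apply]
    set g' := Classical.choose (exists_mulVec_ptInf hne)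
    have hg' : g'.1 *ᵥ ptInf = g.1 *ᵥ ptInf := Classical.choose_spec (exists_mulVec_ptInf hne)
    have hfix : (g'⁻¹ * g).1 *ᵥ ptInf = ptInf := by
      rw [← sl_mulVec_mulVec, ← hg', sl_mulVec_mulVec, inv_mul_cancel,
        Matrix.SpecialLinearGroup.coe_one, Matrix.one_mulVec]
    have e : g'⁻¹ = uM p ((g'⁻¹ * g).1 0 1) * g⁻¹ :=
      eq_mul_inv_of_mul_eq (eq_uM_of_mulVec_ptInf hfix)
    rw [e, map_mul, Module.End.mul_apply, hφu]
  have hcases : ∀ P : Fin 2 → ZMod p, P = 0 ∨ ∃ g : SL(2, ZMod p), g.1 *ᵥ ptInf = P := fun P =>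
    (em (P = 0)).imp id exists_mulVec_ptInf
  have hequiv : ∀ h v, Φ (ρ h v) = funRep h (Φ v) := fun h v => by
    funext P
    rw [funRep_apply]
    rcases hcases P with rfl | ⟨g, rfl⟩
    · rw [Matrix.mulVec_zero, hΦ0, hΦ0]
    · rw [sl_mulVec_mulVec, hΦg, hΦg, ← Module.End.mul_apply, ← map_mul, _root_.mul_inv_rev,
        inv_inv]
  have hhom : ∀ v (l : ZMod p) (P : Fin 2 → ZMod p), l ≠ 0 →
      Φ v (l • P) = cK l ^ a * Φ v P := fun v l P hl => by
    rcases hcases P with rfl | ⟨g, rfl⟩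
    · rw [smul_zero, hΦ0, mul_zero]
    · have e : l • (g.1 *ᵥ ptInf) = (g * tM p (Units.mk0 l hl)).1 *ᵥ ptInf := by
        rw [← sl_mulVec_mulVec, tM_mulVec_ptInf, Matrix.mulVec_smul, Units.val_mk0]
      rw [e, hΦg, hΦg, _root_.mul_inv_rev, map_mul, Module.End.mul_apply, hφt, Units.val_mk0]
  have hinj : ∀ v, Φ v = 0 → v = 0 := by
    rcases hsimp (LinearMap.ker Φ) (fun h v hv => by
      rw [Submodule.mem_comap, LinearMap.mem_ker, hequiv, LinearMap.mem_ker.1 hv, map_zero])
      with h | h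
    · intro v hv
      have : v ∈ LinearMap.ker Φ := hv
      rwa [h, Submodule.mem_bot] at this
    · refine absurd (LinearMap.ext fun v => ?_) hφ
      have : v ∈ LinearMap.ker Φ := h ▸ Submodule.mem_top
      have h1 := congrFun (LinearMap.mem_ker.1 this) (((1 : SL(2, ZMod p))).1 *ᵥ ptInf)
      rwa [hΦg, inv_one, map_one, Module.End.one_apply, Pi.zero_apply] at h1
  obtain ⟨b, hab, hb1, hbp⟩ : ∃ b, a + b = p - 1 ∧ 1 ≤ b ∧ b < p :=
    ⟨p - 1 - a, by omega, by omega, by omega⟩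
  by_cases hcase : ∀ j ≤ b, ∀ v, ∑ P : Fin 2 → ZMod p, Φ v P * (pmon cX cY b j P : K) = 0
  · -- the module is `polyMod p K a`
    have hap : a < p := by omega
    have hrange : LinearMap.range Φ = polyMod p K a := by
      refine polyMod_irred hap _ ?_ ?_ ?_
      · rintro _ ⟨v, rfl⟩
        exact mem_polyMod_of_orth hab hb1 (hΦ0 v) (hhom v) (fun j hj => hcase j hj v)
      · rintro h _ ⟨v, rfl⟩
        exact ⟨ρ h v, hequiv h v⟩
      · intro e
        exact hv0 (hinj v0 (by
          have : Φ v0 ∈ LinearMap.range Φ := ⟨v0, rfl⟩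
          rwa [e, Submodule.mem_bot] at this))
    have hker : ∀ (g : SL(2, ZMod p)) (m : K), (LinearMap.ker (ρ g - m • 1)).map Φ
        = LinearMap.ker (funRep g - m • 1) ⊓ polyMod p K a := by
      intro g m
      ext f
      constructor
      · rintro ⟨v, hv, rfl⟩
        refine ⟨?_, hrange ▸ ⟨v, rfl⟩⟩
        simp only [SetLike.mem_coe, LinearMap.mem_ker, LinearMap.sub_apply, LinearMap.smul_apply,
          Module.End.one_apply] at hv ⊢
        rw [← hequiv, ← map_smul, ← map_sub, hv, map_zero]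
      · rintro ⟨hk, hf⟩
        rw [← hrange] at hf
        obtain ⟨v, rfl⟩ := hf
        refine ⟨v, ?_, rfl⟩
        simp only [SetLike.mem_coe, LinearMap.mem_ker, LinearMap.sub_apply, LinearMap.smul_apply,
          Module.End.one_apply] at hk ⊢
        exact hinj _ (by rw [map_sub, map_smul, hequiv, hk])
    have hdim : ∀ (g : SL(2, ZMod p)) (m : K), finrank K (LinearMap.ker (ρ g - m • 1))
        = finrank K ↥(LinearMap.ker (funRep g - m • 1) ⊓ polyMod p K a) := fun g m => by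
      rw [← hker, finrank_map_of_injOn Φ _ fun x _ => hinj x]
    refine ⟨a, hap, ?_, fun j => ?_, ?_, ?_, ?_⟩
    · rw [← finrank_polyMod (K := K) hap, ← hrange, LinearMap.finrank_range_of_inj]
      exact (injective_iff_map_eq_zero Φ).2 hinj
    · rw [wspace, cst_eq_cK, hdim, finrank_poly_weight hap hθ]
    · rw [fixDim, ← one_smul K (1 : Module.End K V), hdim, one_smul, finrank_poly_xM hp5 hap]
    · rw [fixDim, ← one_smul K (1 : Module.End K V), hdim, one_smul, finrank_poly_uM_one hap]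
    · have hk1 := hker (uM p 1) 1
      rw [one_smul, one_smul] at hk1
      rw [wspace, cst_eq_cK, ← finrank_map_of_injOn Φ _ (fun x _ => hinj x),
        Submodule.map_inf Φ ((injective_iff_map_eq_zero Φ).2 hinj), hk1, hker,
        inf_inf_inf_comm, inf_idem, inf_assoc, inf_comm (LinearMap.ker (funRep (tM p θ) - _)),
        ← inf_assoc]
      rw [finrank_poly_uM hap, inf_of_le_left, finrank_span_singleton
        ((linearIndependent_pmon (K := K) hap).ne_zero ⟨0, a.succ_pos⟩)]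
      refine (Submodule.span_singleton_le_iff_mem _ _).2 ?_
      rw [LinearMap.mem_ker, LinearMap.sub_apply, LinearMap.smul_apply, Module.End.one_apply,
        funRep_tM_pmon, pow_zero, one_mul, Nat.sub_zero, sub_self]
  · -- the dual module is `polyMod p K b`
    push Not at hcase
    obtain ⟨j0, hj0, v1, hv1⟩ := hcase
    set Ψ : ((Fin 2 → ZMod p) → K) →ₗ[K] (V →ₗ[K] K) :=
      LinearMap.mk₂ K (fun f v => ∑ P : Fin 2 → ZMod p, f P * Φ v P)
        (fun f g v => by simp [add_mul, Finset.sum_add_distrib])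
        (fun c f v => by simp [Finset.mul_sum, mul_assoc])
        (fun f v w => by simp [mul_add, Finset.sum_add_distrib])
        (fun c f v => by simp [Finset.mul_sum, mul_left_comm]) with hΨ
    have hΨeq : ∀ g f, Ψ (funRep g f) = (Ψ f).comp (ρ g⁻¹) := fun g f => by
      refine LinearMap.ext fun v => ?_
      simp only [hΨ, LinearMap.mk₂_apply, LinearMap.comp_apply, hequiv, funRep_apply, inv_inv]
      refine Fintype.sum_equiv
        ⟨fun P => (g⁻¹).1 *ᵥ P, fun P => g.1 *ᵥ P, fun P => ?_, fun P => ?_⟩ _ _ fun P => ?_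
      · show g.1 *ᵥ ((g⁻¹).1 *ᵥ P) = P
        rw [sl_mulVec_mulVec, mul_inv_cancel, Matrix.SpecialLinearGroup.coe_one, Matrix.one_mulVec]
      · show (g⁻¹).1 *ᵥ (g.1 *ᵥ P) = P
        rw [sl_mulVec_mulVec, inv_mul_cancel, Matrix.SpecialLinearGroup.coe_one, Matrix.one_mulVec]
      · simp only [Equiv.coe_fn_mk]
        rw [sl_mulVec_mulVec g g⁻¹, mul_inv_cancel, Matrix.SpecialLinearGroup.coe_one,
          Matrix.one_mulVec]
    have hΨinj : ∀ f ∈ polyMod p K b, Ψ f = 0 → f = 0 := by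
      intro f hf hf0
      by_contra hne
      have hW := polyMod_irred hbp (LinearMap.ker Ψ ⊓ polyMod p K b) inf_le_right
        (fun h x hx => ⟨LinearMap.mem_ker.2 (by
          rw [hΨeq, LinearMap.mem_ker.1 hx.1, LinearMap.zero_comp]), funRep_mem h hx.2⟩)
        ((Submodule.ne_bot_iff _).2 ⟨f, ⟨hf0, hf⟩, hne⟩)
      have hm : (pmon cX cY b j0 : (Fin 2 → ZMod p) → K) ∈ LinearMap.ker Ψ :=
        (hW.ge (pmon_mem_pspan _ _ hj0)).1
      refine hv1 ?_
      have := LinearMap.congr_fun (LinearMap.mem_ker.1 hm) v1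
      simp only [hΨ, LinearMap.mk₂_apply, LinearMap.zero_apply] at this
      rw [← this]
      exact Finset.sum_congr rfl fun P _ => mul_comm _ _
    set R : Submodule K (Module.Dual K V) := (polyMod p K b).map Ψ with hR
    have hRtop : R = ⊤ := by
      rcases hsimp R.dualCoannihilator (fun h v hv => by
        rw [Submodule.mem_comap, Submodule.mem_dualCoannihilator]
        rintro _ ⟨f, hf, rfl⟩
        rw [Submodule.mem_dualCoannihilator] at hv
        have := hv _ ⟨funRep h⁻¹ f, funRep_mem h⁻¹ hf, rfl⟩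
        rwa [hΨeq, inv_inv] at this) with h | h
      · rw [← Subspace.dualCoannihilator_dualAnnihilator_eq (W := R), h,
          Submodule.dualAnnihilator_bot]
      · exfalso
        refine hv1 ?_
        have hv : v1 ∈ R.dualCoannihilator := h ▸ Submodule.mem_top
        rw [Submodule.mem_dualCoannihilator] at hv
        have := hv _ ⟨_, pmon_mem_pspan cX cY hj0, rfl⟩
        simp only [hΨ, LinearMap.mk₂_apply] at this
        rw [← this]
        exact Finset.sum_congr rfl fun P _ => mul_comm _ _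
    have hdim : ∀ (g : SL(2, ZMod p)) (m : K), finrank K (LinearMap.ker (ρ g - m • 1))
        = finrank K ↥(LinearMap.ker (funRep g⁻¹ - m • 1) ⊓ polyMod p K b) := by
      intro g m
      rw [← finrank_ker_dualMap, ← finrank_map_of_injOn Ψ
        (LinearMap.ker (funRep g⁻¹ - m • 1) ⊓ polyMod p K b) fun f hf => hΨinj f hf.2]
      refine congrArg (fun S : Submodule K (Module.Dual K V) => finrank K S) ?_
      ext χ
      have hd : ∀ f : (Fin 2 → ZMod p) → K, (ρ g - m • (1 : Module.End K V)).dualMap (Ψ f)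
          = Ψ ((funRep (K := K) g⁻¹ - m • (1 : Module.End K ((Fin 2 → ZMod p) → K))) f) := fun f => by
        rw [LinearMap.sub_apply, map_sub, hΨeq, inv_inv, LinearMap.smul_apply, map_smul,
          Module.End.one_apply]
        refine LinearMap.ext fun v => ?_
        simp [LinearMap.dualMap_apply]
      constructor
      · intro hχ
        obtain ⟨f, hf, rfl⟩ := hRtop.ge (Submodule.mem_top : χ ∈ (⊤ : Submodule K (Module.Dual K V)))
        refine ⟨f, ⟨LinearMap.mem_ker.2 (hΨinj _ ?_ ?_), hf⟩, rfl⟩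
        · exact sub_mem (funRep_mem _ hf) (Submodule.smul_mem _ _ hf)
        · rw [← hd]; exact hχ
      · rintro ⟨f, hf, rfl⟩
        rw [LinearMap.mem_ker, hd, LinearMap.mem_ker.1 hf.1, map_zero]
    have hconj : ∀ g : SL(2, ZMod p), LinearMap.ker (funRep (K := K) g⁻¹ - 1)
        = LinearMap.ker (funRep g - 1) := fun g => by
      ext f
      rw [mem_ker_sub_one, mem_ker_sub_one]
      constructor <;> intro h
      · conv_lhs => rw [← h, ← Module.End.mul_apply, ← map_mul, mul_inv_cancel, map_one]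
        rfl
      · conv_lhs => rw [← h, ← Module.End.mul_apply, ← map_mul, inv_mul_cancel, map_one]
        rfl
    have hu : fixDim ρ (uM p 1) = 1 := by
      rw [fixDim, ← one_smul K (1 : Module.End K V), hdim, one_smul, hconj,
        finrank_poly_uM_one hbp]
    refine ⟨b, hbp, ?_, fun j => ?_, ?_, hu, ?_⟩
    · rw [← finrank_polyMod (K := K) hbp, ← finrank_map_of_injOn Ψ _ hΨinj, ← hR, hRtop, finrank_top,
        Subspace.dual_finrank_eq]
    · rw [wspace, cst_eq_cK, hdim, finrank_poly_weight_inv hbp hθ]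
    · rw [fixDim, ← one_smul K (1 : Module.End K V), hdim, one_smul, hconj,
        finrank_poly_xM hp5 hbp]
    · refine le_antisymm ((Submodule.finrank_mono inf_le_left).trans hu.le) ?_
      rw [Submodule.one_le_finrank_iff, Submodule.ne_bot_iff]
      let e : polyMod p K b ≃ₗ[K] Module.Dual K V :=
        LinearEquiv.ofBijective (Ψ.domRestrict (polyMod p K b))
          ⟨(injective_iff_map_eq_zero _).2 fun x hx => Subtype.ext (hΨinj x x.2 hx), fun χ => by
            obtain ⟨f, hf, hfe⟩ := hRtop.ge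
              (Submodule.mem_top : χ ∈ (⊤ : Submodule K (Module.Dual K V)))
            exact ⟨⟨f, hf⟩, hfe⟩⟩
      let ev : Module.Dual K (Module.Dual K V) :=
        (LinearMap.proj (R := K) (φ := fun _ : Fin 2 → ZMod p => K) ptInf).comp
          ((polyMod p K b).subtype.comp (e.symm : Module.Dual K V →ₗ[K] polyMod p K b))
      set v := (Module.evalEquiv K V).symm ev with hv
      have hev : ∀ f ∈ polyMod p K b, Ψ f v = f ptInf := fun f hf => by
        rw [hv, Module.apply_evalEquiv_symm_apply]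
        show (e.symm (e ⟨f, hf⟩)).1 ptInf = f ptInf
        rw [LinearEquiv.symm_apply_apply]
      have hact : ∀ g, ∀ f ∈ polyMod p K b, Ψ f (ρ g v) = f (g.1 *ᵥ ptInf) := fun g f hf => by
        have := hev _ (funRep_mem g⁻¹ hf)
        rwa [hΨeq, inv_inv, LinearMap.comp_apply, funRep_apply, inv_inv] at this
      have hall : ∀ w, (∀ f ∈ polyMod p K b, Ψ f w = 0) → w = 0 := fun w hw => by
        refine (Module.forall_dual_apply_eq_zero_iff K w).1 fun χ => ?_
        obtain ⟨f, hf, rfl⟩ := hRtop.ge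
          (Submodule.mem_top : χ ∈ (⊤ : Submodule K (Module.Dual K V)))
        exact hw f hf
      refine ⟨v, ⟨?_, ?_⟩, fun e0 => ?_⟩
      · refine LinearMap.mem_ker.2 (hall _ fun f hf => ?_)
        rw [LinearMap.sub_apply, Module.End.one_apply, map_sub, hact _ f hf, uM_mulVec_ptInf,
          hev f hf, sub_self]
      · refine LinearMap.mem_ker.2 (hall _ fun f hf => ?_)
        rw [LinearMap.sub_apply, LinearMap.smul_apply, Module.End.one_apply, map_sub, map_smul,
          hact _ f hf, tM_mulVec_ptInf, hev f hf, cst_eq_cK, smul_eq_mul]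
        obtain ⟨c, rfl⟩ := mem_polyMod hf
        simp only [Finset.sum_apply, Pi.smul_apply, smul_eq_mul, Finset.mul_sum,
          ← Finset.sum_sub_distrib]
        refine Finset.sum_eq_zero fun i hi => ?_
        rw [pmon_smul_point b (Nat.lt_succ_iff.1 (mem_range.1 hi)) _ θ.ne_zero]
        ring
      · have := hev _ (pmon_mem_pspan cX cY (le_refl b))
        rw [e0, map_zero, pmon_ptInf le_rfl, if_pos rfl] at this
        exact zero_ne_one this

end CfsgLib.FixSixth
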