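import Cfsg.Agent.Lib.FixSixth.CoprimeSplit
import Cfsg.Agent.Lib.FixSixth.Layers
import Cfsg.Agent.Lib.FixSixth.Poly

/-!
# The defect of the fixed space of an element of order three is covered by four torus weights
(S5720, piece 6)
-/

set_option autoImplicit false
set_option linter.style.haveILetI false

namespace CfsgLib.FixSixth

open Module Finset
open scoped MatrixGroups

universe v

variable {p : ℕ} [hp : Fact p.Prime] {G : Type*} [Group G] [Finite G]

omit hp in
/-- The arithmetic of a simple module of highest weight `a`. -/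
theorem weight_count (h11 : 11 ≤ p) {a : ℕ} (ha : a < p) :
    a + 1 ≤ 3 * ((Finset.range (a + 1)).filter
        (fun i : ℕ => ((a : ℤ) - 2 * (i : ℤ)) % 3 = 0)).card +
      ∑ s ∈ ({1, 2, p - 3, p - 2} : Finset ℕ), ((Finset.range (a + 1)).filter
        (fun i : ℕ => ((a : ℤ) - 2 * (i : ℤ) - (s : ℤ)) % ((p : ℤ) - 1) = 0)).card := by
  have hfix : ∀ r M, (∀ l < M, 3 * l + r ≤ a ∧ ((a : ℤ) - 2 * ((3 * l + r : ℕ) : ℤ)) % 3 = 0) →
      M ≤ ((Finset.range (a + 1)).filter
        (fun i : ℕ => ((a : ℤ) - 2 * (i : ℤ)) % 3 = 0)).card := fun r M h => by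
    calc M = (Finset.range M).card := (Finset.card_range M).symm
      _ ≤ _ := Finset.card_le_card_of_injOn (fun l => 3 * l + r)
          (fun l hl => by
            simp only [Finset.coe_range, Set.mem_Iio] at hl
            simp only [Finset.coe_filter, Set.mem_ofPred_eq, Finset.mem_range]
            exact ⟨by have := (h l hl).1; omega, (h l hl).2⟩)
          (fun x _ y _ e => by simp only at e; omega)
  have hsum : ∀ s1 s2 : ℕ, s1 ≠ s2 → s1 ∈ ({1, 2, p - 3, p - 2} : Finset ℕ) →
      s2 ∈ ({1, 2, p - 3, p - 2} : Finset ℕ) → ∀ i1 i2 : ℕ, i1 ≤ a → i2 ≤ a →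
      ((a : ℤ) - 2 * (i1 : ℤ) - (s1 : ℤ)) % ((p : ℤ) - 1) = 0 →
      ((a : ℤ) - 2 * (i2 : ℤ) - (s2 : ℤ)) % ((p : ℤ) - 1) = 0 →
      2 ≤ ∑ s ∈ ({1, 2, p - 3, p - 2} : Finset ℕ), ((Finset.range (a + 1)).filter
        (fun i : ℕ => ((a : ℤ) - 2 * (i : ℤ) - (s : ℤ)) % ((p : ℤ) - 1) = 0)).card := by
    intro s1 s2 hne m1 m2 i1 i2 hi1 hi2 e1 e2
    have hpos : ∀ (s i : ℕ), i ≤ a → ((a : ℤ) - 2 * (i : ℤ) - (s : ℤ)) % ((p : ℤ) - 1) = 0 →
        1 ≤ ((Finset.range (a + 1)).filter
          (fun i : ℕ => ((a : ℤ) - 2 * (i : ℤ) - (s : ℤ)) % ((p : ℤ) - 1) = 0)).card :=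
      fun s i hi e => Finset.card_pos.2
        ⟨i, Finset.mem_filter.2 ⟨Finset.mem_range.2 (by omega), e⟩⟩
    refine le_trans ?_ (Finset.sum_le_sum_of_subset
      (show ({s1, s2} : Finset ℕ) ⊆ _ from Finset.insert_subset m1 (Finset.singleton_subset_iff.2 m2)))
    rw [Finset.sum_pair hne]
    have := hpos s1 i1 hi1 e1
    have := hpos s2 i2 hi2 e2
    omega
  have hdvd : ∀ z : ℤ, z = 0 ∨ z = -((p : ℤ) - 1) → z % ((p : ℤ) - 1) = 0 := by
    rintro z (rfl | rfl)
    · exact Int.zero_emod _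
    · exact Int.emod_eq_zero_of_dvd (dvd_neg.2 dvd_rfl)
  rcases (show a % 3 = 0 ∨ a % 3 = 1 ∨ a % 3 = 2 by omega) with h | h | h
  · have := hfix 0 (a / 3 + 1) (fun l hl => ⟨by omega, by omega⟩)
    omega
  · have h1 := hfix 2 (a / 3) (fun l hl => ⟨by omega, by omega⟩)
    suffices h2 : 2 ≤ ∑ s ∈ ({1, 2, p - 3, p - 2} : Finset ℕ), ((Finset.range (a + 1)).filter
        (fun i : ℕ => ((a : ℤ) - 2 * (i : ℤ) - (s : ℤ)) % ((p : ℤ) - 1) = 0)).card by omega
    rcases Nat.even_or_odd' a with ⟨b, rfl | rfl⟩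
    · refine hsum 2 (p - 3) (by omega) (by simp) (by simp) (b - 1) (b + 1) (by omega) (by omega)
        (hdvd _ (Or.inl ?_)) (hdvd _ (Or.inr ?_))
      · omega
      · omega
    · refine hsum 1 (p - 2) (by omega) (by simp) (by simp) b (b + 1) (by omega) (by omega)
        (hdvd _ (Or.inl ?_)) (hdvd _ (Or.inr ?_))
      · omega
      · omega
  · have := hfix 1 (a / 3 + 1) (fun l hl => ⟨by omega, by omega⟩)
    omega

variable {K : Type*} [Field K] {V : Type v} [AddCommGroup V] [Module K V]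

omit [Finite G] in
/-- Weight spaces of an operator of finite order are super-additive along invariant subspaces. -/
theorem weight_add_le [FiniteDimensional K V] {n : ℕ} (hn : 0 < n) (hnK : (n : K) ≠ 0) {ζ : K}
    (hζ : IsPrimitiveRoot ζ n) (σ : Representation K G V) {t : G} (ht : σ t ^ n = 1)
    (U : Submodule K V) (hU : Stable σ U) (j : ℕ) :
    finrank K (LinearMap.ker (σ.subrepresentation U hU t - ζ ^ j • 1)) +
      finrank K (LinearMap.ker (σ.quotient U hU t - ζ ^ j • 1)) ≤
      finrank K (LinearMap.ker (σ t - ζ ^ j • 1)) := by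
  have D : Layers.Data (0 : V →ₗ[K] V) (σ t) ζ n 1 :=
    ⟨hn, hnK, ht, hζ, fun i v _ => by cases i with
      | zero => simp
      | succ i => simp [pow_succ], pow_one _⟩
  set F := LinearMap.ker (σ t - ζ ^ j • 1) with hF
  set q := U.mkQ.domRestrict F with hq
  have h1 : LinearMap.ker (σ.quotient U hU t - ζ ^ j • 1) ≤ LinearMap.range q := by
    intro y hy
    obtain ⟨x, rfl⟩ := Submodule.Quotient.mk_surjective U y
    rw [LinearMap.mem_ker, LinearMap.sub_apply, LinearMap.smul_apply, Module.End.one_apply,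
      sub_eq_zero] at hy
    change U.mkQ (σ t x) = ζ ^ j • U.mkQ x at hy
    have hk : ∀ k : ℕ, U.mkQ ((σ t ^ k) x) = (ζ ^ j) ^ k • U.mkQ x := fun k => by
      induction k with
      | zero => simp
      | succ k ih =>
        rw [pow_succ', Module.End.mul_apply]
        have h : σ t ((σ t ^ k) x) - σ t ((ζ ^ j) ^ k • x) ∈ U := by
          rw [← map_sub]
          exact hU _ ((Submodule.Quotient.eq U).1 (by rw [Submodule.Quotient.mk_smul]; exact ih))
        refine ((Submodule.Quotient.eq U).2 h).trans ?_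
        show U.mkQ (σ t ((ζ ^ j) ^ k • x)) = (ζ ^ j) ^ (k + 1) • U.mkQ x
        rw [map_smul, map_smul, hy, smul_smul, pow_succ]
    refine ⟨⟨Layers.proj (σ t) ζ n j x, Layers.proj_mem_wt D j x⟩, ?_⟩
    show U.mkQ (Layers.proj (σ t) ζ n j x) = U.mkQ x
    rw [Layers.proj_apply, map_smul, map_sum]
    simp only [map_smul, hk, smul_smul, ← mul_pow,
      inv_mul_cancel₀ (pow_ne_zero j (Layers.zeta_ne D)), one_pow, one_smul]
    rw [Finset.sum_const, Finset.card_range, ← Nat.cast_smul_eq_nsmul K, smul_smul,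
      inv_mul_cancel₀ hnK, one_smul]
  have h2 : (LinearMap.ker (σ.subrepresentation U hU t - ζ ^ j • 1)).map U.subtype ≤
      (LinearMap.ker q).map F.subtype := by
    rintro _ ⟨⟨y, hy⟩, hy', rfl⟩
    rw [SetLike.mem_coe, LinearMap.mem_ker, LinearMap.sub_apply, LinearMap.smul_apply,
      Module.End.one_apply, sub_eq_zero] at hy'
    refine ⟨⟨y, ?_⟩, (Submodule.Quotient.mk_eq_zero U).2 hy, rfl⟩
    rw [hF, LinearMap.mem_ker, LinearMap.sub_apply, LinearMap.smul_apply, Module.End.one_apply,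
      sub_eq_zero]
    exact congrArg Subtype.val hy'
  have e1 := Submodule.finrank_mono h1
  have e2 := Submodule.finrank_mono h2
  rw [Submodule.finrank_map_subtype_eq, Submodule.finrank_map_subtype_eq] at e2
  have e3 := LinearMap.finrank_range_add_finrank_ker q
  omega

/-- The defect `dim - 3 fix x` is covered by the weights `±1, ±2` of a torus generator. -/
theorem le_three_fix_add_marked (C : Cover p G) [CharP K p] [IsAlgClosed K]
    [FiniteDimensional K V] (h11 : 11 ≤ p) (θ : (ZMod p)ˣ) (hθ : ∀ l, l ∈ Subgroup.zpowers θ)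
    (ρ : Representation K G V) (hO : coprimePart p C.π.ker ≤ MonoidHom.ker ρ) {t x : G}
    (ht : C.π t = tM p θ) (htn : ρ t ^ (p - 1) = 1) (hx : orderOf x = 3) :
    finrank K V ≤ 3 * fixDim ρ x + ∑ s ∈ ({1, 2, p - 3, p - 2} : Finset ℕ),
      finrank K (LinearMap.ker (ρ t - (cst (θ : ZMod p) : K) ^ s • 1)) := by
  have hnK : ((p - 1 : ℕ) : K) ≠ 0 := by
    rw [Ne, CharP.cast_eq_zero_iff K p]
    intro h
    have := Nat.le_of_dvd (by omega) h
    omega
  have hxK : (orderOf x : K) ≠ 0 := by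
    rw [Ne, CharP.cast_eq_zero_iff K p, hx]
    intro h
    have := Nat.le_of_dvd (by omega) h
    omega
  have hζ : IsPrimitiveRoot (cst (θ : ZMod p) : K) (p - 1) := by
    rw [cst_eq_cK]
    exact theta_prim hθ
  suffices key : ∀ (m : ℕ) (W : Type v) [AddCommGroup W] [Module K W] [FiniteDimensional K W]
      (σ : Representation K G W), finrank K W ≤ m → ρ.ker ≤ σ.ker → σ t ^ (p - 1) = 1 →
      finrank K W ≤ 3 * fixDim σ x + ∑ s ∈ ({1, 2, p - 3, p - 2} : Finset ℕ),
        finrank K (LinearMap.ker (σ t - (cst (θ : ZMod p) : K) ^ s • 1)) from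
    key _ V ρ le_rfl le_rfl htn
  intro m
  induction m with
  | zero => intro W _ _ _ σ hW _ _; omega
  | succ m ih =>
    intro W _ _ _ σ hW hk htW
    by_cases hs : IsSimpleRep σ
    · have hker : C.π.ker ≤ MonoidHom.ker σ :=
        le_ker_of_coprimePart p σ hs C.π.ker C.nil (hO.trans hk)
      have hwd : ∀ g g' : G, C.π g = C.π g' → σ g = σ g' := fun g g' e => by
        have h : g * g'⁻¹ ∈ C.π.ker := by
          rw [MonoidHom.mem_ker, map_mul, map_inv, e, mul_inv_cancel]
        calc σ g = σ (g * g'⁻¹) * σ g' := by rw [← map_mul, inv_mul_cancel_right]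
          _ = σ g' := by rw [MonoidHom.mem_ker.1 (hker h), one_mul]
      have hsi := Function.surjInv_eq C.surj
      let τ : Representation K SL(2, ZMod p) W :=
        { toFun := fun s => σ (Function.surjInv C.surj s)
          map_one' := (hwd _ 1 (by rw [hsi, map_one])).trans (map_one σ)
          map_mul' := fun s s' =>
            (hwd _ (Function.surjInv C.surj s * Function.surjInv C.surj s')
              (by rw [map_mul, hsi, hsi, hsi])).trans (map_mul σ _ _) }
      have hτ : ∀ g, τ (C.π g) = σ g := fun g => hwd _ _ (hsi _)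
      have hτs : IsSimpleRep τ :=
        ⟨hs.1, fun U hU => hs.2 U fun g => hτ g ▸ hU (C.π g)⟩
      obtain ⟨a, ha, hdim, hwt, hfix, -, -⟩ := simple_data (by omega) θ hθ τ hτs
      obtain ⟨x0, hx0, hπx0⟩ := C.three_exists
      have hxτ : fixDim σ x = fixDim τ (xM p) := by
        rw [fixDim_conj σ (C.three_conj x x0 hx hx0), ← hπx0]
        unfold fixDim
        rw [hτ]
      rw [hdim, hxτ, hfix]
      refine (weight_count h11 ha).trans (Nat.add_le_add_left (Finset.sum_le_sum fun s _ => ?_) _)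
      rw [← hwt s]
      unfold wspace
      rw [← ht, hτ]
    by_cases hne : ∃ y : W, y ≠ 0
    swap
    · push Not at hne
      have : Subsingleton W := ⟨fun a b => by rw [hne a, hne b]⟩
      rw [Module.finrank_zero_of_subsingleton]
      exact Nat.zero_le _
    simp only [IsSimpleRep, hne, true_and, not_forall, not_or] at hs
    obtain ⟨U, hU, hU0, hU1⟩ := hs
    have e1 := Submodule.finrank_quotient_add_finrank U
    have e2 : 0 < finrank K U := by
      rcases Nat.eq_zero_or_pos (finrank K U) with e | e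
      · exact absurd (Submodule.finrank_eq_zero.1 e) hU0
      · exact e
    have e3 : finrank K U < finrank K W := Submodule.finrank_lt hU1
    have k1 : σ.ker ≤ MonoidHom.ker (σ.subrepresentation U hU) := fun g hg => by
      refine MonoidHom.mem_ker.2 (LinearMap.ext fun y => Subtype.ext ?_)
      show σ g (y : W) = (y : W)
      rw [MonoidHom.mem_ker.1 hg]
      rfl
    have k2 : σ.ker ≤ MonoidHom.ker (σ.quotient U hU) := fun g hg => by
      refine MonoidHom.mem_ker.2 (LinearMap.ext fun y => ?_)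
      obtain ⟨u, rfl⟩ := Submodule.Quotient.mk_surjective U y
      show U.mkQ (σ g u) = U.mkQ u
      rw [MonoidHom.mem_ker.1 hg]
      rfl
    have htk : t ^ (p - 1) ∈ MonoidHom.ker σ := by
      rw [MonoidHom.mem_ker, map_pow]
      exact htW
    have b1 := ih U (σ.subrepresentation U hU) (by omega) (hk.trans k1)
      (by rw [← map_pow]; exact MonoidHom.mem_ker.1 (k1 htk))
    have b2 := ih (W ⧸ U) (σ.quotient U hU) (by omega) (hk.trans k2)
      (by rw [← map_pow]; exact MonoidHom.mem_ker.1 (k2 htk))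
    have b3 := Finset.sum_le_sum (s := ({1, 2, p - 3, p - 2} : Finset ℕ)) fun s _ =>
      weight_add_le (by omega) hnK hζ σ htW U hU s
    rw [Finset.sum_add_distrib] at b3
    rw [fixDim_add σ hxK U hU, Nat.mul_add]
    omega

end CfsgLib.FixSixth
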