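import Cfsg.Agent.Lib.FixSixth.ChainOne
import Cfsg.Agent.Lib.FixSixth.CoprimeSplit
import Cfsg.Agent.Lib.FixSixth.Lift
import Cfsg.Agent.Lib.FixSixth.KernelPerm
import Cfsg.Agent.Lib.FixSixth.Poly
import Cfsg.Agent.Lib.FixSixth.Marked

/-!
# Chains of marked weights (S5720, piece 6)

`chain_two` for `p ≡ 2 (mod 3)`, `p ≥ 17`, and `chain_eleven_long` for `p = 11` when no lift of
`uM 1` has order `p`.
-/

set_option autoImplicit false
set_option linter.style.haveILetI false

namespace CfsgLib.FixSixth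

open Module Finset
open scoped MatrixGroups

universe u v w

variable {p : ℕ} [hp : Fact p.Prime] {G : Type u} [Group G] [Finite G]
variable {K : Type v} {V : Type w} [Field K] [AddCommGroup V] [Module K V]

/-- The elements of order prime to `p` of a nilpotent subgroup lie in its coprime part. -/
theorem mem_coprimePart {N : Subgroup G} [N.Normal] (hnil : Group.IsNilpotent N) {g : G}
    (hg : g ∈ N) (hgo : ¬ p ∣ orderOf g) : g ∈ coprimePart p N := by
  haveI := hnil
  haveI := Solvable.pPrimeCore_characteristic p N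
  refine ⟨⟨g, hg⟩, ?_, rfl⟩
  obtain ⟨k, hk⟩ : ∃ k, (Cfsg.pPrimeCore p N).index = p ^ k := by
    refine ⟨_, Nat.eq_prime_pow_of_unique_prime_dvd Subgroup.FiniteIndex.index_ne_zero
      fun {t} ht hdvd => ?_⟩
    by_contra hne
    haveI := Fact.mk ht
    let P : Sylow t N := default
    have hn : (P : Subgroup N).Normal := inferInstance
    obtain ⟨i, hi⟩ := IsPGroup.iff_card.mp P.2
    have hle : (P : Subgroup N) ≤ Cfsg.pPrimeCore p N := Solvable.le_pPrimeCore hn (by
      rw [hi]
      exact ((Nat.coprime_primes ht hp.out).mpr hne).pow_left _)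
    exact P.not_dvd_index (hdvd.trans (Subgroup.index_dvd_of_le hle))
  let q := QuotientGroup.mk' (Cfsg.pPrimeCore p N)
  have h1 : orderOf (q ⟨g, hg⟩) ∣ p ^ k := by
    rw [← hk, Subgroup.index_eq_card]
    exact orderOf_dvd_natCard _
  have h2 : orderOf (q ⟨g, hg⟩) ∣ orderOf g := by
    have h := orderOf_map_dvd q (⟨g, hg⟩ : N)
    rwa [← Subgroup.orderOf_coe] at h
  have h3 : orderOf (q ⟨g, hg⟩) = 1 :=
    Nat.eq_one_of_dvd_coprimes ((hp.out.coprime_iff_not_dvd.2 hgo).pow_left k) h1 h2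
  exact (QuotientGroup.eq_one_iff _).1 (orderOf_eq_one_iff.1 h3)

/-- A torus generator and a lift of `uM 1` normalised by it. -/
theorem exists_gen_twist (C : Cover p G) :
    ∃ (θ : (ZMod p)ˣ) (t u : G) (e j : ℕ), (∀ l, l ∈ Subgroup.zpowers θ) ∧ C.π t = tM p θ ∧
      C.π u = uM p 1 ∧ t ^ (p - 1) ∈ coprimePart p C.π.ker ∧ u ^ p ^ e = 1 ∧
      t * u * t⁻¹ = u ^ j ∧ (j : ZMod p) = (θ : ZMod p) ^ 2 := by
  obtain ⟨θ, hθ⟩ := IsCyclic.exists_generator (α := (ZMod p)ˣ)
  obtain ⟨t, u, ht, hu, hto, ⟨e, he⟩, j, hj, hjl⟩ := exists_torus C θ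
  refine ⟨θ, t, u, e, j, hθ, ht, hu, mem_coprimePart C.nil ?_ ?_, he, hj, hjl⟩
  · rw [MonoidHom.mem_ker, map_pow, ht, show tM p θ = tHom p θ from rfl, ← map_pow,
      ZMod.units_pow_card_sub_one_eq_one, map_one]
  · exact fun h => hto (h.trans (orderOf_pow_dvd (p - 1)))

variable [FiniteDimensional K V]

/-- The four marked weights. -/
theorem marked_set (h11 : 11 ≤ p) :
    ({1, 2, p - 3, p - 2} : Finset ℕ) ⊆ range (p - 1) ∧
      ∀ e < 2, (({1, 2, p - 3, p - 2} : Finset ℕ).filter (fun a => a % 2 = e)).card ≤ 2 := by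
  obtain ⟨q, hq⟩ := hp.out.odd_of_ne_two (by omega)
  constructor
  · intro a ha
    simp only [Finset.mem_insert, Finset.mem_singleton] at ha
    rw [Finset.mem_range]
    omega
  · intro e he
    interval_cases e
    · refine le_trans (Finset.card_le_card (t := {2, p - 3}) fun a ha => ?_) Finset.card_le_two
      simp only [Finset.mem_filter, Finset.mem_insert, Finset.mem_singleton] at ha ⊢
      omega
    · refine le_trans (Finset.card_le_card (t := {1, p - 2}) fun a ha => ?_) Finset.card_le_two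
      simp only [Finset.mem_filter, Finset.mem_insert, Finset.mem_singleton] at ha ⊢
      omega

omit [Finite G] in
/-- The standing data of the layers for a torus generator. -/
theorem torus_data [CharP K p] [Nontrivial V] (h11 : 11 ≤ p) (ρ : Representation K G V)
    {θ : (ZMod p)ˣ} (hθ : ∀ l, l ∈ Subgroup.zpowers θ) {t u : G} {e j : ℕ}
    (htn : ρ t ^ (p - 1) = 1) (he : u ^ p ^ e = 1) (hj : t * u * t⁻¹ = u ^ j)
    (hjl : (j : ZMod p) = (θ : ZMod p) ^ 2) :
    Layers.Data (ρ u - 1) (ρ t) (cst (θ : ZMod p) : K) (p - 1) (p ^ e) := by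
  refine Layers.Data.of_conj (k := j) (by omega) ?_ htn ?_ rfl ?_ ?_ (sub_one_pow_eq_zero ρ he)
  · rw [Ne, CharP.cast_eq_zero_iff K p]
    intro h
    have := Nat.le_of_dvd (by omega) h
    omega
  · rw [cst_eq_cK]
    exact theta_prim hθ
  · rw [← map_mul, ← map_pow, ← map_mul, ← hj, inv_mul_cancel_right]
  · rw [cst_eq_cK, ← map_pow, ← hjl, map_natCast]

/-- `p ≡ 2 (mod 3)`, `p ≥ 17`. -/
theorem chain_two [CharP K p] [IsAlgClosed K] (hmod : p % 3 = 2) (h17 : 17 ≤ p)
    (ρ : Representation K G V) (C : Cover p G) : HasFix ρ := by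
  obtain ⟨θ, t, u, e, j, hθ, ht, hu, htO, he, hj, hjl⟩ := exists_gen_twist C
  obtain ⟨x, hx, -⟩ := C.three_exists
  set N := coprimePart p C.π.ker with hNdef
  haveI : N.Normal := coprimePart_normal p C.π.ker
  have hN : (Nat.card N : K) ≠ 0 := card_coprimePart_ne_zero p C.π.ker
  have hcast : ∀ a : ℕ, 0 < a → a < p → (a : K) ≠ 0 := fun a h1 h2 e' => by
    rw [CharP.cast_eq_zero_iff K p] at e'
    exact absurd (Nat.le_of_dvd h1 e') (by omega)
  have hxK : (orderOf x : K) ≠ 0 := hx ▸ hcast 3 (by omega) (by omega)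
  have hD := finrank_fixN_add_movedN ρ N hN
  have hFx := fixDim_split ρ N hN x
  have hfu := fixDim_split ρ N hN u
  set ρ0 := ρ.subrepresentation (fixN ρ N) (fixN_stable ρ N) with hρ0
  set ρ1 := ρ.subrepresentation (movedN ρ N) (movedN_stable ρ N) with hρ1
  have h1 : finrank K (movedN ρ N) ≤ 4 * fixDim ρ1 x :=
    le_mul_fix_of_moved ρ N hN hxK 4 fun W _ _ _ σ hs _ ⟨o, ho, ho1⟩ =>
      kernel_four C (by exact_mod_cast hcast 2 (by omega) (by omega))
        (by exact_mod_cast hcast 3 (by omega) (by omega)) σ hs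
        ⟨o, coprimePart_le p _ ho, ho1⟩ hx (CharP.cast_eq_zero K p) hmod (by omega)
  have h0 : finrank K (fixN ρ N) ≤ 4 * fixDim ρ0 x + 2 * fixDim ρ0 u := by
    rcases subsingleton_or_nontrivial (fixN ρ N) with hV | hV
    · rw [Module.finrank_zero_of_subsingleton]
      exact Nat.zero_le _
    have htn : ρ0 t ^ (p - 1) = 1 := by
      rw [← map_pow]
      exact MonoidHom.mem_ker.1 (le_ker_fixN ρ N htO)
    have hT := torus_data (by omega) ρ0 hθ htn he hj hjl
    obtain ⟨hS, hS2⟩ := marked_set (p := p) (by omega)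
    obtain ⟨q, hq⟩ := hp.out.odd_of_ne_two (by omega)
    have hm := Layers.marked_le_eight hT (k := q) (by omega) (by omega) _ hS hS2
    have hw := le_three_fix_add_marked C (by omega) θ hθ ρ0 (le_ker_fixN ρ N) ht htn hx
    unfold Layers.wt at hm
    change _ ≤ _ + 6 * fixDim ρ0 u at hm
    omega
  by_cases hle : fixDim ρ x ≤ fixDim ρ u
  · exact ⟨u, ne_one_of_map_uM C hu, by omega⟩
  · exact ⟨x, fun h => by simp [h] at hx, by omega⟩

/-- `p = 11` when no lift of `uM 1` has order `p`. -/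
theorem chain_eleven_long (C : Cover p G) [CharP K p] [IsAlgClosed K] (hp11 : p = 11)
    (hno : ∀ g, C.π g = uM p 1 → orderOf g ≠ p) (ρ : Representation K G V) : HasFix ρ := by
  obtain ⟨θ, t, u, e, j, hθ, ht, hu, htO, he, hj, hjl⟩ := exists_gen_twist C
  obtain ⟨x, hx, -⟩ := C.three_exists
  have hN : coprimePart p C.π.ker = ⊥ := by
    obtain ⟨k, hk⟩ := (IsPGroup.iff_card (p := p)).1 (show IsPGroup p C.π.ker by subst hp11; exact C.isPGroup_eleven rfl)
    refine Subgroup.eq_bot_of_card_eq _ ?_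
    have h := Subgroup.card_dvd_of_le (coprimePart_le p C.π.ker)
    rw [hk] at h
    exact Nat.eq_one_of_dvd_coprimes
      ((card_coprimePart_coprime p C.π.ker).pow_right k) dvd_rfl h
  have hu1 : u ^ p ≠ 1 := fun h =>
    hno u hu (orderOf_eq_prime h (ne_one_of_map_uM C hu))
  rcases subsingleton_or_nontrivial V with hV | hV
  · refine ⟨x, fun h => by simp [h] at hx, ?_⟩
    rw [Module.finrank_zero_of_subsingleton]
    exact Nat.zero_le _
  have htn : ρ t ^ (p - 1) = 1 := by
    rw [hN, Subgroup.mem_bot] at htO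
    rw [← map_pow, htO, map_one]
  have hT := torus_data (by omega) ρ hθ htn he hj hjl
  obtain ⟨hS, hS2⟩ := marked_set (p := p) (by omega)
  have hm := Layers.marked_le_five hT (by omega) _ hS hS2
  have hw := le_three_fix_add_marked C (by omega) θ hθ ρ (hN ▸ bot_le) ht htn hx
  have ha : LinearMap.ker ((ρ u - 1) ^ 11) = LinearMap.ker (ρ (u ^ p) - 1) := by
    haveI : CharP (Module.End K V) p :=
      charP_of_injective_algebraMap (algebraMap K _).injective p
    rw [← hp11, sub_pow_char_of_commute p (Commute.one_right (ρ u)), one_pow, map_pow]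
  rw [ha] at hm
  unfold Layers.wt at hm
  change _ ≤ _ + 3 * fixDim ρ (u ^ p) at hm
  by_cases hle : fixDim ρ x ≤ fixDim ρ (u ^ p)
  · exact ⟨u ^ p, hu1, by omega⟩
  · exact ⟨x, fun h => by simp [h] at hx, by omega⟩

end CfsgLib.FixSixth
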