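import Cfsg.Agent.Lib.FixSixth.TorusLift
import Cfsg.Agent.Lib.FixSixth.Averaging
import Cfsg.Agent.Lib.FixSixth.Layers

/-!
# A torus element of order three against a `p`-element, `p ≡ 1 (mod 3)` (S5720, piece 6)
-/

set_option autoImplicit false
set_option linter.style.haveILetI false

namespace CfsgLib.FixSixth

open Module Finset
open scoped MatrixGroups

universe u v w

variable {p : ℕ} [hp : Fact p.Prime] {G : Type u} [Group G] [Finite G]
variable {K : Type v} {V : Type w} [Field K] [AddCommGroup V] [Module K V]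

/-- A lift of a non-trivial element of `SL(2, p)` is not the identity. -/
theorem ne_one_of_map_uM (C : Cover p G) {u : G} (hu : C.π u = uM p 1) : u ≠ 1 := fun e => by
  rw [e, map_one] at hu
  have h := orderOf_uM_one (p := p)
  rw [← hu, orderOf_one] at h
  exact hp.out.one_lt.ne h

/-- Images of natural numbers in `ZMod p` and in a field of characteristic `p` agree. -/
theorem castHom_natCast_pow [CharP K p] (a : ℕ) (n : ℕ) :
    ((a ^ n : ℕ) : K) = ZMod.castHom (dvd_refl p) K ((a : ZMod p) ^ n) := by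
  rw [map_pow, map_natCast, Nat.cast_pow]

omit [Finite G] in
/-- In characteristic `p` a `p`-element acts unipotently. -/
theorem sub_one_pow_eq_zero [CharP K p] [Nontrivial V] (ρ : Representation K G V) {u : G} {e : ℕ}
    (he : u ^ p ^ e = 1) : (ρ u - 1) ^ p ^ e = 0 := by
  haveI : CharP (Module.End K V) p :=
    charP_of_injective_algebraMap (algebraMap K _).injective p
  rw [sub_pow_char_pow_of_commute p e (Commute.one_right (ρ u)), one_pow, ← map_pow, he, map_one,
    sub_self]

omit [Finite G] in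
/-- The conjugation rule passed to powers. -/
theorem conj_pow_of_conj {t u : G} {j : ℕ} (h : t * u * t⁻¹ = u ^ j) (m : ℕ) :
    t ^ m * u * (t ^ m)⁻¹ = u ^ (j ^ m) := by
  induction m with
  | zero => simp
  | succ m ih =>
    calc t ^ (m + 1) * u * (t ^ (m + 1))⁻¹ = t * (t ^ m * u * (t ^ m)⁻¹) * t⁻¹ := by
          rw [pow_succ']; group
      _ = (t * u * t⁻¹) ^ (j ^ m) := by rw [ih, conj_pow]
      _ = u ^ (j ^ (m + 1)) := by rw [h, ← pow_mul, pow_succ']

/-- An element of order three twisting a cyclic lift of `uM 1` by a primitive cube root. -/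
theorem exists_three_twist (C : Cover p G) (hmod : p % 3 = 1) :
    ∃ (x u : G) (e k : ℕ), orderOf x = 3 ∧ C.π u = uM p 1 ∧ u ^ p ^ e = 1 ∧
      x * u * x⁻¹ = u ^ k ∧ (k : ZMod p) ≠ 1 ∧ (k : ZMod p) ^ 3 = 1 := by
  haveI : Fact (Nat.Prime 3) := ⟨Nat.prime_three⟩
  obtain ⟨ω, hω⟩ : ∃ ω : (ZMod p)ˣ, orderOf ω = 3 := by
    refine exists_prime_orderOf_dvd_card' 3 ?_
    rw [Nat.card_eq_fintype_card, ZMod.card_units p]
    omega
  obtain ⟨t, u, ht, hu, -, ⟨e, he⟩, j, hj, hjl⟩ := exists_torus C ω
  have hinj : Function.Injective (tHom p) := fun a b h => by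
    have h' : tM p a = tM p b := h
    exact Units.ext (congrArg (fun M : SL(2, ZMod p) => M.1 0 0) h')
  have h3t : 3 ∣ orderOf t := by
    have h := orderOf_map_dvd C.π t
    rw [ht, show tM p ω = tHom p ω from rfl, orderOf_injective _ hinj, hω] at h
    exact h
  obtain ⟨m, hm⟩ := h3t
  have hn := orderOf_pos t
  have hxo : orderOf (t ^ m) = 3 := by
    rw [orderOf_pow' _ (by omega), hm, Nat.gcd_mul_left_left,
      Nat.mul_div_cancel _ (by omega)]
  have hm3 : ¬ 3 ∣ m := by
    rintro ⟨l, rfl⟩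
    have hker : t ^ (3 * l) ∈ C.π.ker := by
      rw [MonoidHom.mem_ker, map_pow, ht, show tM p ω = tHom p ω from rfl, ← map_pow, pow_mul,
        ← hω, pow_orderOf_eq_one, one_pow, map_one]
    have h1 : orderOf (⟨_, hker⟩ : C.π.ker) ∣ Nat.card C.π.ker := orderOf_dvd_natCard _
    rw [← Subgroup.orderOf_coe, hxo] at h1
    have h2 := Nat.dvd_gcd h1 (show 3 ∣ 15 by norm_num)
    rw [C.coprime_fifteen] at h2
    norm_num at h2
  refine ⟨t ^ m, u, e, j ^ m, hxo, hu, he, conj_pow_of_conj hj m, ?_, ?_⟩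
  · intro h
    push_cast at h
    rw [hjl, ← pow_mul, ← Units.val_pow_eq_pow_val, Units.val_eq_one,
      ← orderOf_dvd_iff_pow_eq_one, hω] at h
    rcases Nat.prime_three.dvd_mul.1 h with h' | h'
    · norm_num at h'
    · exact hm3 h'
  · push_cast
    rw [hjl, ← pow_mul, ← pow_mul, ← Units.val_pow_eq_pow_val, Units.val_eq_one,
      ← orderOf_dvd_iff_pow_eq_one, hω]
    exact dvd_mul_of_dvd_right (dvd_mul_left 3 m) 2

/-- Every residue class meets `range l` about a third of the time. -/
theorem count_class_three (j : ℕ) (hj : j < 3) (l : ℕ) :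
    3 * ∑ i ∈ range l, (if 2 * i % 3 = j then 1 else 0) + (2 * j) % 3 ≥ l := by
  induction l using Nat.strong_induction_on with
  | _ l ih =>
    by_cases hl : l < 3
    · interval_cases l <;> interval_cases j <;> decide
    · obtain ⟨m, rfl⟩ : ∃ m, l = m + 3 := ⟨l - 3, by omega⟩
      have h := ih m (by omega)
      have key : (if 2 * m % 3 = j then 1 else 0) + (if 2 * (m + 1) % 3 = j then 1 else 0) +
          (if 2 * (m + 2) % 3 = j then 1 else 0) = 1 := by
        simp only [Nat.mul_mod 2 m, Nat.mul_mod 2 (m + 1), Nat.mul_mod 2 (m + 2), Nat.add_mod m]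
        have hr : m % 3 < 3 := Nat.mod_lt _ (by norm_num)
        generalize m % 3 = r at hr ⊢
        interval_cases r <;> interval_cases j <;> decide
      simp only [Finset.sum_range_succ]
      omega

variable [FiniteDimensional K V]

omit [Finite G] in
/-- The chain bound. -/
theorem finrank_le_three_fix_add [CharP K p] (hmod : p % 3 = 1) (ρ : Representation K G V)
    {x u : G} {e k : ℕ} (hx : orderOf x = 3) (he : u ^ p ^ e = 1)
    (hxu : x * u * x⁻¹ = u ^ k) (hk1 : (k : ZMod p) ≠ 1) (hk3 : (k : ZMod p) ^ 3 = 1) :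
    finrank K V ≤ 3 * fixDim ρ x + 2 * fixDim ρ u := by
  rcases subsingleton_or_nontrivial V with hV | hV
  · rw [Module.finrank_zero_of_subsingleton]
    exact Nat.zero_le _
  let φ := ZMod.castHom (dvd_refl p) K
  have hkK : (k : K) = φ (k : ZMod p) := (map_natCast φ k).symm
  have hc3 : (k : K) ^ 3 = 1 := by rw [hkK, ← map_pow, hk3, map_one]
  have hc1 : (k : K) ≠ 1 := by
    rw [hkK, ← map_one φ]
    exact fun h => hk1 (φ.injective h)
  have hζ : IsPrimitiveRoot ((k : K) ^ 2) 3 := by
    rw [IsPrimitiveRoot.iff_orderOf]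
    refine orderOf_eq_prime (by rw [← pow_mul, pow_mul', hc3, one_pow]) fun h => hc1 ?_
    calc (k : K) = (k : K) * (k : K) ^ 2 := by rw [h, mul_one]
      _ = 1 := by rw [← pow_succ', hc3]
  have h3K : ((3 : ℕ) : K) ≠ 0 := by
    rw [Ne, CharP.cast_eq_zero_iff K p]
    intro h
    have := (Nat.prime_dvd_prime_iff_eq hp.out Nat.prime_three).1 h
    omega
  have D : Layers.Data (ρ u - 1) (ρ x) ((k : K) ^ 2) 3 (p ^ e) := by
    refine Layers.Data.of_conj (k := k) (by norm_num) h3K ?_ hζ rfl ?_ ?_ (sub_one_pow_eq_zero ρ he)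
    · rw [← map_pow, ← hx, pow_orderOf_eq_one, map_one]
    · rw [← map_mul, ← map_pow, ← map_mul, ← hxu, inv_mul_cancel_right]
    · calc (k : K) = (k : K) ^ 3 * (k : K) := by rw [hc3, one_mul]
        _ = ((k : K) ^ 2) ^ 2 := by ring
  have hF : fixDim ρ x = finrank K (Layers.wt (ρ x) ((k : K) ^ 2) 0) := by
    unfold fixDim Layers.wt
    rw [pow_zero, one_smul]
  have hf : fixDim ρ u = finrank K (LinearMap.ker (ρ u - 1)) := rfl
  rw [hF, hf, Layers.finrank_wt D, Layers.finrank_ker D, Layers.finrank_eq_sum_E D,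
    Finset.sum_comm]
  have hsel : ∀ i, Layers.E (ρ u - 1) (ρ x) ((k : K) ^ 2) i (0 + 2 * i) =
      ∑ j ∈ range 3, Layers.E (ρ u - 1) (ρ x) ((k : K) ^ 2) i j *
        (if 2 * i % 3 = j then 1 else 0) := fun i => by
    simp only [mul_ite, mul_one, mul_zero, Finset.sum_ite_eq, zero_add]
    rw [if_pos (Finset.mem_range.2 (Nat.mod_lt _ (by norm_num))), Layers.E_mod D]
  simp only [hsel]
  rw [Finset.sum_comm (s := range (p ^ e)) (t := range 3), Finset.mul_sum, Finset.mul_sum,
    ← Finset.sum_add_distrib]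
  refine Finset.sum_le_sum fun j hj => ?_
  set a := fun i => Layers.E (ρ u - 1) (ρ x) ((k : K) ^ 2) i j with ha
  have hL : 0 < p ^ e := pow_pos hp.out.pos e
  calc ∑ i ∈ range (p ^ e), a i = ∑ i ∈ range (p ^ e), a i * 1 := by simp
    _ ≤ ∑ i ∈ range (p ^ e), a i *
          (3 * (if 2 * i % 3 = j then 1 else 0) + if i = 0 then 2 else 0) := by
        refine Layers.sum_mul_le _ _ _ (Layers.E_antitone D j) (fun l => ?_) _
        rw [Finset.sum_add_distrib, ← Finset.mul_sum, Finset.sum_ite_eq', Finset.sum_const,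
          Finset.card_range, smul_eq_mul, mul_one]
        rcases Nat.eq_zero_or_pos l with hl | hl
        · subst hl; simp
        · have h := count_class_three j (Finset.mem_range.1 hj) l
          rw [if_pos (Finset.mem_range.2 hl)]
          omega
    _ = _ := by
        simp only [Nat.mul_add, Finset.sum_add_distrib, mul_ite, mul_zero, Finset.sum_ite_eq']
        rw [if_pos (Finset.mem_range.2 hL)]
        simp [a, Finset.mul_sum, mul_comm]

/-- `p ≡ 1 (mod 3)`. -/
theorem chain_one [CharP K p] [IsAlgClosed K] (hmod : p % 3 = 1) (ρ : Representation K G V)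
    (C : Cover p G) : HasFix ρ := by
  obtain ⟨x, u, e, k, hx, hu, he, hxu, hk1, hk3⟩ := exists_three_twist C hmod
  have h := finrank_le_three_fix_add hmod ρ hx he hxu hk1 hk3
  by_cases hle : fixDim ρ x ≤ fixDim ρ u
  · exact ⟨u, ne_one_of_map_uM C hu, by omega⟩
  · exact ⟨x, fun h1 => by simp [h1] at hx, by omega⟩

end CfsgLib.FixSixth
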