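import Cfsg.Agent.Lib.FixSixth.SL2Elem

/-!
# Representations of `SL(2, 11)` in characteristic 11: natural vectors (S5720)

A vector of weight one fixed by the upper unitriangular group spans a natural submodule exactly when
its trace `∑ c, u^c w v` vanishes; the trace lands in weight nine.  This gives
`X_one_le : dim X₁ ≤ s + dim X₉`, the splitting of a paired natural vector, and the comparison of
coinvariants with fixed functionals.
-/

set_option autoImplicit false
set_option linter.unusedSectionVars false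

namespace CfsgLib.FixSixth.ElevenHom

open scoped MatrixGroups
open Module

instance fact_eleven : Fact (Nat.Prime 11) := ⟨by norm_num⟩

variable {K : Type*} [Field K] [CharP K 11]
variable {V : Type*} [AddCommGroup V] [Module K V]

/-- Scalars of the prime field. -/
def ev : ZMod 11 →+* K := ZMod.castHom (dvd_refl 11) K

/-- Weight space. -/
def wsp (θ : (ZMod 11)ˣ) (ρ : Representation K SL(2, ZMod 11) V) (j : ℕ) : Submodule K V :=
  LinearMap.ker (ρ (tM 11 θ) - ((ev θ : K) ^ j) • (1 : V →ₗ[K] V))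

/-- Fixed vectors of weight `j`. -/
def fixW (θ : (ZMod 11)ˣ) (ρ : Representation K SL(2, ZMod 11) V) (j : ℕ) : Submodule K V :=
  LinearMap.ker (ρ (uM 11 1) - 1) ⊓ wsp θ ρ j

/-- The trace `∑ c, u^c w`. -/
noncomputable def traceU (ρ : Representation K SL(2, ZMod 11) V) : V →ₗ[K] V :=
  ∑ c : ZMod 11, ρ (uM 11 c * wM 11)

/-- Natural vectors: the fixed vectors of weight one killed by the trace. -/
noncomputable def natVec (θ : (ZMod 11)ˣ) (ρ : Representation K SL(2, ZMod 11) V) : Submodule K V :=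
  fixW θ ρ 1 ⊓ LinearMap.ker (traceU ρ)

/-- The submodule generated by a natural vector. -/
def natW (ρ : Representation K SL(2, ZMod 11) V) (v : V) : Submodule K V :=
  Submodule.span K {v, ρ (wM 11) v}

section Matrices

theorem tM_mul {p : ℕ} (a b : (ZMod p)ˣ) : tM p (a * b) = tM p a * tM p b := by
  apply Subtype.ext
  ext i j
  fin_cases i <;> fin_cases j <;> simp [tM_val, Matrix.mul_fin_two, mul_comm]

theorem tM_one {p : ℕ} : tM p 1 = 1 := by
  apply Subtype.ext
  ext i j
  fin_cases i <;> fin_cases j <;> simp [tM_val]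

theorem tM_pow {p : ℕ} (a : (ZMod p)ˣ) (n : ℕ) : tM p (a ^ n) = tM p a ^ n := by
  induction n with
  | zero => simp [tM_one]
  | succ n ih => rw [pow_succ, pow_succ, tM_mul, ih]

theorem tM_neg_one : tM 11 (-1) = wM 11 * wM 11 := by decide +kernel

theorem tM_inv_mul_wM {p : ℕ} (a : (ZMod p)ˣ) : tM p a * wM p = wM p * tM p a⁻¹ := by
  apply Subtype.ext
  ext i j
  fin_cases i <;> fin_cases j <;> simp [tM_val, wM_val, Matrix.mul_fin_two]

theorem tM_mul_uM {p : ℕ} (a : (ZMod p)ˣ) (c : ZMod p) :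
    tM p a * uM p c = uM p ((a : ZMod p) * a * c) * tM p a := by
  apply Subtype.ext
  ext i j
  fin_cases i <;> fin_cases j <;> simp [tM_val, uM_val, Matrix.mul_fin_two]
  linear_combination -(c * (a : ZMod p)) * a.mul_inv

theorem wM_uM_wM {p : ℕ} (c : (ZMod p)ˣ) :
    wM p * (uM p c * wM p) = uM p (-((c⁻¹ : (ZMod p)ˣ) : ZMod p)) * wM p * tM p c *
      uM p (-((c⁻¹ : (ZMod p)ˣ) : ZMod p)) := by
  apply Subtype.ext
  ext i j
  fin_cases i <;> fin_cases j <;> simp [tM_val, uM_val, wM_val, Matrix.mul_fin_two]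

/-- Coefficients writing `δ_e - δ_0` through the translates of `d ↦ d⁻¹`. -/
def coefC (e a : ZMod 11) : ZMod 11 :=
  -∑ m ∈ Finset.range 10, e ^ (10 - m) * a ^ (m + 1) * ((m + 1 : ℕ) : ZMod 11) ^ 9

theorem coefC_spec : ∀ e d : ZMod 11, (∑ a, coefC e a * (d - a) ^ 9) =
    (if d = e then 1 else 0) - (if d = 0 then 1 else 0) := by decide +kernel

theorem coefC_sum : ∀ e : ZMod 11, (∑ a, coefC e a) = -e := by decide +kernel

theorem inv_eq_pow : ∀ d : ZMod 11, d⁻¹ = d ^ 9 := by decide +kernel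

theorem sq_ne_one_of_gen (θ : (ZMod 11)ˣ) (hθ : ∀ c, c ∈ Subgroup.zpowers θ) :
    (θ : ZMod 11) ^ 2 ≠ 1 := by
  intro h
  have h2 : θ ^ 2 = 1 := Units.ext (by simpa using h)
  have hc : orderOf θ = Nat.card (ZMod 11)ˣ := by
    rw [← Nat.card_zpowers, (Subgroup.eq_top_iff' _).2 hθ, Subgroup.card_top]
  rw [Nat.card_units, Nat.card_zmod] at hc
  have := Nat.le_of_dvd (by norm_num) (orderOf_dvd_of_pow_eq_one h2)
  omega

end Matrices

section Weights

variable {θ : (ZMod 11)ˣ} {ρ : Representation K SL(2, ZMod 11) V}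

theorem mem_wsp {j : ℕ} {v : V} :
    v ∈ wsp θ ρ j ↔ ρ (tM 11 θ) v = ((ev θ : K) ^ j) • v := by
  simp [wsp, sub_eq_zero]

theorem mem_fixW {j : ℕ} {v : V} :
    v ∈ fixW θ ρ j ↔ ρ (uM 11 1) v = v ∧ ρ (tM 11 θ) v = ((ev θ : K) ^ j) • v := by
  simp [fixW, mem_wsp, sub_eq_zero]

theorem mul_apply' (g h : SL(2, ZMod 11)) (v : V) : ρ (g * h) v = ρ g (ρ h v) := by
  rw [map_mul]; rfl

theorem uM_fix {v : V} (h : ρ (uM 11 1) v = v) (c : ZMod 11) : ρ (uM 11 c) v = v := by
  have hc : uM 11 c = uM 11 1 ^ c.val := by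
    rw [uM_pow, ZMod.natCast_zmod_val, mul_one]
  rw [hc]
  induction c.val with
  | zero => simp
  | succ n ih => rw [pow_succ, mul_apply', h, ih]

theorem tM_apply (hθ : ∀ c, c ∈ Subgroup.zpowers θ) {v : V} {j : ℕ}
    (h : ρ (tM 11 θ) v = ((ev θ : K) ^ j) • v) (c : (ZMod 11)ˣ) :
    ρ (tM 11 c) v = ((ev c : K) ^ j) • v := by
  obtain ⟨n, rfl⟩ := mem_powers_iff_mem_zpowers.2 (hθ c)
  simp only
  rw [tM_pow, Units.val_pow_eq_pow_val, map_pow (ev (K := K)), ← pow_mul]
  induction n with
  | zero => simp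
  | succ n ih => rw [pow_succ, mul_apply', h, map_smul, ih, smul_smul, ← pow_add]; congr 2; ring

theorem ev_pow_ten (c : (ZMod 11)ˣ) : (ev (c : ZMod 11) : K) ^ 10 = 1 := by
  rw [← map_pow, ← Units.val_pow_eq_pow_val, ZMod.units_pow_card_sub_one_eq_one, Units.val_one,
    map_one]

theorem ev_inv (c : (ZMod 11)ˣ) :
    (ev ((c⁻¹ : (ZMod 11)ˣ) : ZMod 11) : K) = (ev (c : ZMod 11) : K) ^ 9 := by
  rw [← map_pow]
  congr 1
  rw [Units.val_inv_eq_inv_val, inv_eq_pow]

/-- The trace of a weight one fixed vector is a weight nine fixed vector. -/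
theorem traceU_mem (hθ : ∀ c, c ∈ Subgroup.zpowers θ) {v : V} (hv : v ∈ fixW θ ρ 1) :
    traceU ρ v ∈ fixW θ ρ 9 := by
  obtain ⟨hu, ht⟩ := mem_fixW.1 hv
  refine mem_fixW.2 ⟨?_, ?_⟩
  · simp only [traceU, LinearMap.sum_apply, map_sum]
    refine Fintype.sum_equiv (Equiv.addLeft (1 : ZMod 11)) _ _ fun c => ?_
    rw [← mul_apply', ← mul_assoc, ← uM_add]
    rfl
  · simp only [traceU, LinearMap.sum_apply, map_sum, Finset.smul_sum]
    refine Fintype.sum_equiv (Equiv.mulLeft₀ ((θ : ZMod 11) * θ)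
      (mul_ne_zero θ.ne_zero θ.ne_zero)) _ _ fun c => ?_
    rw [← mul_apply', ← mul_assoc, tM_mul_uM, mul_assoc, tM_inv_mul_wM, ← mul_assoc,
      mul_apply', tM_apply hθ ht θ⁻¹, map_smul, pow_one, ev_inv]
    rfl

variable (hθ : ∀ c, c ∈ Subgroup.zpowers θ)
include hθ

theorem wM_wM_apply {v : V} (hv : v ∈ fixW θ ρ 1) : ρ (wM 11) (ρ (wM 11) v) = -v := by
  rw [← mul_apply', ← tM_neg_one, tM_apply hθ (mem_fixW.1 hv).2]
  simp

theorem wM_inv_apply {v : V} (hv : v ∈ fixW θ ρ 1) : ρ (wM 11)⁻¹ v = -ρ (wM 11) v := by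
  have : ρ (wM 11)⁻¹ (ρ (wM 11) (ρ (wM 11) v)) = ρ (wM 11) v := by
    rw [← mul_apply', inv_mul_cancel, map_one]; rfl
  rw [wM_wM_apply hθ hv, map_neg] at this
  rw [← this, neg_neg]

/-- The translates of `w v` of a natural vector are affine in the parameter. -/
theorem nat_line {v : V} (hv : v ∈ natVec θ ρ) (e : ZMod 11) :
    ρ (uM 11 e) (ρ (wM 11) v) = ρ (wM 11) v + (ev e : K) • v := by
  obtain ⟨hvX, hvT⟩ := Submodule.mem_inf.1 hv
  have hu := uM_fix (mem_fixW.1 hvX).1
  set y : ZMod 11 → V := fun c => ρ (uM 11 c) (ρ (wM 11) v) with hy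
  have hy0 : y 0 = ρ (wM 11) v := by simp [hy, uM_zero]
  have h0 : ∑ c, y c = 0 := by
    rw [LinearMap.mem_ker] at hvT
    simpa [traceU, mul_apply', hy] using hvT
  -- apply `w`
  have h1 : ∑ d : ZMod 11, (ev (d ^ 9) : K) • y d = -v := by
    have hw : ∀ c : ZMod 11, ρ (wM 11) (y c) =
        (if c = 0 then -v else 0) + (ev c : K) • y (-c⁻¹) := by
      intro c
      by_cases hc : c = 0
      · subst hc
        simp [hy, uM_zero, wM_wM_apply hθ hvX]
      · have := wM_uM_wM (Units.mk0 c hc)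
        simp only [Units.val_mk0, Units.val_inv_eq_inv_val] at this
        simp only [hy, hc, if_false, zero_add]
        rw [← mul_apply', ← mul_apply', mul_assoc (wM 11), this, mul_apply', hu, mul_apply',
          tM_apply hθ (mem_fixW.1 hvX).2, map_smul, mul_apply', pow_one]
        rfl
    have h2 : ∑ c, ρ (wM 11) (y c) = 0 := by rw [← map_sum, h0, map_zero]
    simp only [hw, Finset.sum_add_distrib, Finset.sum_ite_eq', Finset.mem_univ, if_true] at h2
    have h3 : ∑ c : ZMod 11, (ev c : K) • y (-c⁻¹) = v := by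
      rwa [neg_add_eq_zero, eq_comm] at h2
    have hinv : Function.Involutive (fun c : ZMod 11 => -c⁻¹) := fun c => by simp [inv_neg]
    rw [← h3, ← Finset.sum_neg_distrib]
    refine Fintype.sum_equiv hinv.toPerm _ _ fun d => ?_
    have e1 : -(-d⁻¹)⁻¹ = d := hinv d
    simp only [Function.Involutive.coe_toPerm, e1]
    rw [map_neg, neg_smul, neg_neg, inv_eq_pow]
  have h2 : ∀ a : ZMod 11, ∑ d : ZMod 11, (ev ((d - a) ^ 9) : K) • y d = -v := by
    intro a
    have := congrArg (ρ (uM 11 a)) h1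
    rw [map_neg, hu, map_sum] at this
    refine Eq.trans ?_ this
    refine (Fintype.sum_equiv (Equiv.addLeft a) _ _ fun d => ?_).symm
    simp only [Equiv.coe_addLeft, map_smul, hy, ← mul_apply', add_sub_cancel_left, ← mul_assoc,
      ← uM_add]
  have h3 : ∑ a, (ev (coefC e a) : K) • (∑ d : ZMod 11, (ev ((d - a) ^ 9) : K) • y d) =
      (ev e : K) • v := by
    simp only [h2, smul_neg, Finset.sum_neg_distrib]
    rw [← Finset.sum_smul, ← map_sum, coefC_sum, map_neg, neg_smul, neg_neg]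
  simp only [Finset.smul_sum, smul_smul] at h3
  rw [Finset.sum_comm] at h3
  simp only [← map_mul, ← Finset.sum_smul, ← map_sum, coefC_spec, map_sub, sub_smul,
    Finset.sum_sub_distrib] at h3
  simp only [apply_ite (ev : ZMod 11 →+* K), map_one, map_zero, ite_smul, one_smul, zero_smul,
    Finset.sum_ite_eq', Finset.mem_univ, if_true, hy0] at h3
  rw [← h3]
  simp [hy]

theorem natW_stable {v : V} (hv : v ∈ natVec θ ρ) : Stable ρ (natW ρ v) := by
  have hvX := (Submodule.mem_inf.1 hv).1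
  let H : Subgroup SL(2, ZMod 11) :=
    { carrier := {g | natW ρ v ≤ (natW ρ v).comap (ρ g)}
      one_mem' := fun x hx => by simpa using hx
      mul_mem' := fun {a b} ha hb x hx => by
        rw [Submodule.mem_comap, mul_apply']; exact ha (hb hx)
      inv_mem' := fun {g} hg => by
        have hp : ∀ n : ℕ, natW ρ v ≤ (natW ρ v).comap (ρ (g ^ n)) := by
          intro n
          induction n with
          | zero => intro x hx; simpa using hx
          | succ n ih =>
            intro x hx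
            rw [Submodule.mem_comap, pow_succ, mul_apply']
            exact ih (hg hx)
        have := hp (orderOf g - 1)
        rwa [show g ^ (orderOf g - 1) = g⁻¹ from eq_inv_of_mul_eq_one_left (by
          rw [← pow_succ, Nat.sub_add_cancel (orderOf_pos g), pow_orderOf_eq_one])] at this }
  have hw : wM 11 ∈ H := by
    refine Submodule.span_le.2 ?_
    rintro x (rfl | rfl)
    · exact Submodule.subset_span (Or.inr rfl)
    · change ρ (wM 11) (ρ (wM 11) v) ∈ natW ρ v
      rw [wM_wM_apply hθ hvX]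
      exact Submodule.neg_mem _ (Submodule.subset_span (Or.inl rfl))
  have hu : ∀ c, uM 11 c ∈ H := fun c => by
    refine Submodule.span_le.2 ?_
    rintro x (rfl | rfl)
    · change ρ (uM 11 c) x ∈ natW ρ x
      rw [uM_fix (mem_fixW.1 hvX).1]
      exact Submodule.subset_span (Or.inl rfl)
    · change ρ (uM 11 c) (ρ (wM 11) v) ∈ natW ρ v
      rw [nat_line hθ hv]
      exact Submodule.add_mem _ (Submodule.subset_span (Or.inr rfl))
        (Submodule.smul_mem _ _ (Submodule.subset_span (Or.inl rfl)))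
  intro g
  have := eq_top_of_uM_wM H hu hw
  exact (this ▸ Subgroup.mem_top g : g ∈ H)

theorem natW_indep {v : V} (hv : v ∈ natVec θ ρ) (hv0 : v ≠ 0) (a b : K)
    (h : a • v + b • ρ (wM 11) v = 0) : a = 0 ∧ b = 0 := by
  have h' := congrArg (ρ (uM 11 1)) h
  rw [map_add, map_smul, map_smul, nat_line hθ hv, uM_fix (mem_fixW.1 hv.1).1, map_one, one_smul,
    map_zero, smul_add, ← add_assoc, h, zero_add, smul_eq_zero] at h'
  have hb := h'.resolve_right hv0
  rw [hb, zero_smul, add_zero, smul_eq_zero] at h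
  exact ⟨h.resolve_right hv0, hb⟩

theorem finrank_natW {v : V} (hv : v ∈ natVec θ ρ) (hv0 : v ≠ 0) :
    finrank K (natW ρ v) = 2 := by
  have hli : LinearIndependent K ![v, ρ (wM 11) v] :=
    LinearIndependent.pair_iff.2 (natW_indep hθ hv hv0)
  have := finrank_span_eq_card hli
  rw [Matrix.range_cons, Matrix.range_cons, Matrix.range_empty, Set.union_empty,
    Set.singleton_union] at this
  exact this

/-- A fixed vector of `natW v` is a multiple of `v`. -/
theorem natW_fix {v : V} (hv : v ∈ natVec θ ρ) {x : V} (hx : x ∈ natW ρ v)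
    (hxu : ρ (uM 11 1) x = x) : ∃ a : K, x = a • v := by
  obtain ⟨a, b, rfl⟩ := Submodule.mem_span_pair.1 hx
  rw [map_add, map_smul, map_smul, nat_line hθ hv, uM_fix (mem_fixW.1 hv.1).1, map_one, one_smul,
    smul_add, ← add_assoc, add_eq_left] at hxu
  exact ⟨a, by
    rcases smul_eq_zero.1 hxu with h | h
    · simp [h]
    · simp [h]⟩

theorem natW_simple {v : V} (hv : v ∈ natVec θ ρ) (hv0 : v ≠ 0) (U : Submodule K V)
    (hU : U ≤ natW ρ v) (hst : Stable ρ U) : U = ⊥ ∨ U = natW ρ v := by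
  rcases eq_or_ne U ⊥ with h | h
  · exact Or.inl h
  obtain ⟨x, hx, hx0⟩ := U.exists_mem_ne_zero_of_ne_bot h
  obtain ⟨a, b, rfl⟩ := Submodule.mem_span_pair.1 (hU hx)
  have hvU : v ∈ U := by
    by_cases hb : b = 0
    · subst hb
      have ha : a ≠ 0 := fun ha => hx0 (by simp [ha])
      simpa [smul_smul, inv_mul_cancel₀ ha] using U.smul_mem a⁻¹ hx
    · have := U.sub_mem (hst (uM 11 1) hx) hx
      rw [map_add, map_smul, map_smul, nat_line hθ hv, uM_fix (mem_fixW.1 hv.1).1, map_one,
        one_smul, smul_add, ← add_assoc, add_sub_cancel_left] at this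
      simpa [smul_smul, inv_mul_cancel₀ hb] using U.smul_mem b⁻¹ this
  refine Or.inr (le_antisymm hU (Submodule.span_le.2 ?_))
  rintro y (rfl | rfl)
  · exact hvU
  · exact hst (wM 11) hvU

/-- **Weight one fixed vectors.** -/
theorem fixW_one_le [FiniteDimensional K V] :
    finrank K (fixW θ ρ 1) ≤ finrank K (natVec θ ρ) + finrank K (fixW θ ρ 9) := by
  let f : fixW θ ρ 1 →ₗ[K] fixW θ ρ 9 :=
    (traceU ρ).restrict (fun v hv => traceU_mem hθ hv)
  have hk : finrank K (LinearMap.ker f) ≤ finrank K (natVec θ ρ) := by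
    let g : LinearMap.ker f →ₗ[K] natVec θ ρ :=
      ((fixW θ ρ 1).subtype ∘ₗ (LinearMap.ker f).subtype).codRestrict _ fun x =>
        Submodule.mem_inf.2 ⟨x.1.2, congrArg Subtype.val (LinearMap.mem_ker.1 x.2)⟩
    exact LinearMap.finrank_le_finrank_of_injective (f := g) fun x y h =>
      Subtype.ext (Subtype.ext (congrArg (fun z : natVec θ ρ => (z : V)) h))
  have := f.finrank_range_add_finrank_ker
  have := Submodule.finrank_le (LinearMap.range f)
  omega

/-- A natural vector paired with a natural functional spans a direct summand. -/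
theorem exists_natural_summand {v : V} (hv : v ∈ natVec θ ρ) {f : Module.Dual K V}
    (hf : f ∈ natVec θ ρ.dual) (hfv : f (ρ (wM 11) v) ≠ 0) :
    ∃ W C : Submodule K V, Stable ρ W ∧ Stable ρ C ∧ IsCompl W C ∧ finrank K W = 2 ∧
      v ∈ W ∧ v ≠ 0 ∧ ρ (uM 11 1) v = v := by
  have hv0 : v ≠ 0 := fun h => hfv (by simp [h])
  have hvt := tM_apply hθ (mem_fixW.1 hv.1).2 θ⁻¹
  have hf0 : f v = 0 := by
    have h1 := LinearMap.congr_fun (mem_fixW.1 hf.1).2 v
    rw [Representation.dual_apply, Module.Dual.transpose_apply, LinearMap.smul_apply,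
      LinearMap.comp_apply] at h1
    have hinv : (tM 11 θ)⁻¹ = tM 11 θ⁻¹ :=
      inv_eq_of_mul_eq_one_right (by rw [← tM_mul, mul_inv_cancel, tM_one])
    rw [hinv, hvt, map_smul, smul_eq_mul, smul_eq_mul, pow_one, pow_one, ev_inv] at h1
    by_contra hne
    have h2 := mul_right_cancel₀ hne h1
    refine sq_ne_one_of_gen θ hθ (ev (K := K) |>.injective ?_)
    rw [map_pow, map_one, pow_two]
    nth_rewrite 1 [← h2]
    rw [← pow_succ, ev_pow_ten]
  set f' := ρ.dual (wM 11) f with hf'
  have hf'v : f' v = -f (ρ (wM 11) v) := by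
    rw [hf', Representation.dual_apply, Module.Dual.transpose_apply, LinearMap.comp_apply,
      wM_inv_apply hθ hv.1, map_neg]
  have hf'w : f' (ρ (wM 11) v) = 0 := by
    rw [hf', Representation.dual_apply, Module.Dual.transpose_apply, LinearMap.comp_apply,
      ← mul_apply', inv_mul_cancel, map_one]
    exact hf0
  refine ⟨natW ρ v, LinearMap.ker f ⊓ LinearMap.ker f', natW_stable hθ hv, fun g x hx => ?_,
    ⟨?_, ?_⟩, finrank_natW hθ hv hv0, Submodule.subset_span (Or.inl rfl), hv0,
    (mem_fixW.1 hv.1).1⟩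
  · obtain ⟨h1, h2⟩ := Submodule.mem_inf.1 hx
    rw [LinearMap.mem_ker] at h1 h2
    have key : ∀ φ ∈ natW ρ.dual f, φ (ρ g x) = 0 := fun φ hφ => by
      have := natW_stable hθ hf g⁻¹ hφ
      rw [Submodule.mem_comap] at this
      obtain ⟨a, b, hab⟩ := Submodule.mem_span_pair.1 this
      have := LinearMap.congr_fun hab x
      simp only [LinearMap.add_apply, LinearMap.smul_apply, h1,
        show (ρ.dual (wM 11) f) x = 0 from h2, smul_zero, add_zero] at this
      rw [Representation.dual_apply, inv_inv] at this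
      exact this.symm
    exact Submodule.mem_inf.2 ⟨key f (Submodule.subset_span (Or.inl rfl)),
      key f' (Submodule.subset_span (Or.inr rfl))⟩
  · rw [Submodule.disjoint_def]
    intro x hxW hxC
    obtain ⟨a, b, rfl⟩ := Submodule.mem_span_pair.1 hxW
    simp only [Submodule.mem_inf, LinearMap.mem_ker, map_add, map_smul, hf0, hf'v, hf'w,
      smul_eq_mul, mul_zero, zero_add, add_zero, mul_neg, neg_eq_zero, mul_eq_zero, hfv,
      or_false] at hxC
    simp [hxC.1, hxC.2]
  · rw [codisjoint_iff, Submodule.eq_top_iff']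
    intro x
    set c := f (ρ (wM 11) v)
    refine Submodule.mem_sup.2 ⟨(-(f' x / c)) • v + (f x / c) • ρ (wM 11) v,
      Submodule.mem_span_pair.2 ⟨_, _, rfl⟩, x - ((-(f' x / c)) • v + (f x / c) • ρ (wM 11) v),
      Submodule.mem_inf.2 ⟨?_, ?_⟩, add_sub_cancel _ _⟩
    · simp [hf0, c, hfv]
    · simp [hf'v, hf'w, c, hfv]

end Weights

end CfsgLib.FixSixth.ElevenHom

namespace CfsgLib.FixSixth

open scoped MatrixGroups
open ElevenHom

/-- A fixed vector of weight one with vanishing trace generates a natural submodule: the action on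
it is given by the matrix entries. -/
theorem natural_of_fixed {K V : Type*} [Field K] [CharP K 11] [AddCommGroup V] [Module K V]
    (ρ : Representation K SL(2, ZMod 11) V) (v : V) (hu : ρ (uM 11 1) v = v)
    (ht : ∀ l : (ZMod 11)ˣ, ρ (tM 11 l) v = (((l : ZMod 11).val : ℕ) : K) • v)
    (hs : ∑ c : ZMod 11, ρ (uM 11 c) (ρ (wM 11) v) = 0) :
    ∀ g : SL(2, ZMod 11),
      ρ g v = (((g 0 0).val : ℕ) : K) • v + (((g 1 0).val : ℕ) : K) • ρ (wM 11) v := by
  have hcast : ∀ x : ZMod 11, ((x.val : ℕ) : K) = ev x := fun x => by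
    rw [← map_natCast (ev (K := K)) x.val, ZMod.natCast_zmod_val]
  let θ : (ZMod 11)ˣ := Units.mk0 2 (by decide)
  have hθ : ∀ c, c ∈ Subgroup.zpowers θ := by
    have h : ∀ c : (ZMod 11)ˣ, ∃ n : Fin 10, (c : ZMod 11) = 2 ^ (n : ℕ) := by decide +kernel
    intro c
    obtain ⟨n, hn⟩ := h c
    exact ⟨(n : ℕ), Units.ext (by simp [θ, hn])⟩
  have hX : v ∈ fixW θ ρ 1 := mem_fixW.2 ⟨hu, by rw [ht θ, pow_one, hcast]⟩
  have hv : v ∈ natVec θ ρ :=
    Submodule.mem_inf.2 ⟨hX, by simpa [traceU, mul_apply'] using hs⟩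
  set y := ρ (wM 11) v with hy
  let P : SL(2, ZMod 11) → Prop := fun g =>
    ρ g v = (ev (g.1 0 0) : K) • v + (ev (g.1 1 0) : K) • y ∧
      ρ g y = (ev (g.1 0 1) : K) • v + (ev (g.1 1 1) : K) • y
  have hone : P 1 := by constructor <;> simp
  have hmul : ∀ a b, P a → P b → P (a * b) := by
    intro a b ha hb
    constructor
    · rw [mul_apply', hb.1, map_add, map_smul, map_smul, ha.1, ha.2]
      simp [Matrix.mul_apply, Fin.sum_univ_two, smul_add, smul_smul, add_smul, mul_comm]
      abel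
    · rw [mul_apply', hb.2, map_add, map_smul, map_smul, ha.1, ha.2]
      simp [Matrix.mul_apply, Fin.sum_univ_two, smul_add, smul_smul, add_smul, mul_comm]
      abel
  let H : Subgroup SL(2, ZMod 11) :=
    { carrier := {g | P g}
      one_mem' := hone
      mul_mem' := fun {a b} ha hb => hmul a b ha hb
      inv_mem' := fun {g} hg => by
        have hp : ∀ n : ℕ, P (g ^ n) := by
          intro n
          induction n with
          | zero => simpa using hone
          | succ n ih => rw [pow_succ]; exact hmul _ _ ih hg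
        have := hp (orderOf g - 1)
        rwa [show g ^ (orderOf g - 1) = g⁻¹ from eq_inv_of_mul_eq_one_left (by
          rw [← pow_succ, Nat.sub_add_cancel (orderOf_pos g), pow_orderOf_eq_one])] at this }
  have hw : wM 11 ∈ H := by
    constructor
    · simp [wM_val, hy]
    · simp [wM_val, hy, wM_wM_apply hθ hX]
  have huc : ∀ c, uM 11 c ∈ H := fun c => by
    constructor
    · simp [uM_val, uM_fix hu]
    · simp [uM_val, hy, nat_line hθ hv, add_comm]
  intro g
  rw [hcast, hcast]
  exact ((eq_top_of_uM_wM H huc hw) ▸ Subgroup.mem_top g : g ∈ H).1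

end CfsgLib.FixSixth
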