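import Cfsg.Agent.Lib.FixSixth.Averaging
import Cfsg.Agent.Lib.FixSixth.SL2Elem
import Cfsg.Agent.Lib.FixSixth.Layers
import Cfsg.Agent.Lib.FixSixth.Poly
import Cfsg.Agent.Lib.FixSixth.ElevenHom
import Mathlib.RepresentationTheory.Basic
import Mathlib.LinearAlgebra.Dual.Lemmas
import Mathlib.RingTheory.RootsOfUnity.PrimitiveRoots

/-!
# `SL(2, 11)` in characteristic `11`: a sixth is fixed (S5720, piece 7)

`finrank V ≤ 4 * fix (xM) + 2 * fix (uM 1)`.  The proof uses only the composition multiplicities,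
the weight layers of `uM 1 - 1`, and the splitting off of natural summands.
-/

set_option autoImplicit false
set_option linter.unusedSectionVars false

namespace CfsgLib.FixSixth

open Module
open scoped MatrixGroups

namespace Eleven

theorem fact_eleven : Fact (Nat.Prime 11) := ⟨by decide⟩

attribute [local instance] fact_eleven

/-- The chosen diagonal element, of weight `2`. -/
def tg : SL(2, ZMod 11) := tM 11 (ZMod.unitOfCoprime 2 (by decide))

theorem tg_pow : tg ^ 10 = 1 := by decide +kernel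

theorem tg_inv : tg ^ 9 = tg⁻¹ := eq_inv_of_mul_eq_one_left (by rw [← pow_succ, tg_pow])

theorem tg_mul_uM (c : ZMod 11) : tg * uM 11 c = uM 11 (4 * c) * tg := by
  revert c
  decide +kernel

theorem tg_mul_wM : tg * wM 11 = wM 11 * tg⁻¹ := by decide +kernel

theorem uM_four : uM 11 4 = uM 11 1 ^ 4 := by decide +kernel

theorem tM_eq_pow : ∀ l : (ZMod 11)ˣ, ∃ n : Fin 10, tM 11 l = tg ^ (n : ℕ) ∧
    (l : ZMod 11) = 2 ^ (n : ℕ) := by decide +kernel

theorem xM_ne_one : xM 11 ≠ 1 := by decide +kernel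

theorem uM_ne_one : uM 11 1 ≠ 1 := by decide +kernel

section Defs

universe u v

variable {K : Type u} [Field K] {V : Type v} [AddCommGroup V] [Module K V]

/-- Weight spaces of `tg`. -/
def wsp (ρ : Representation K SL(2, ZMod 11) V) (j : ℕ) : Submodule K V :=
  LinearMap.ker (ρ tg - (2 : K) ^ j • 1)

/-- Fixed space of `uM 1`. -/
def fixU (ρ : Representation K SL(2, ZMod 11) V) : Submodule K V :=
  LinearMap.ker (ρ (uM 11 1) - 1)

/-- The sum over the unitriangular group. -/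
noncomputable def sumU (ρ : Representation K SL(2, ZMod 11) V) : V →ₗ[K] V :=
  ∑ c : ZMod 11, ρ (uM 11 c)

/-- Fixed vectors of weight one generating a natural submodule. -/
noncomputable def natW (ρ : Representation K SL(2, ZMod 11) V) : Submodule K V :=
  wsp ρ 1 ⊓ fixU ρ ⊓ LinearMap.ker (sumU ρ * ρ (wM 11))

/-- Dimension of the fixed weight space. -/
noncomputable def e0 (ρ : Representation K SL(2, ZMod 11) V) (j : ℕ) : ℕ :=
  finrank K ↥(wsp ρ j ⊓ fixU ρ)

theorem mem_wsp {ρ : Representation K SL(2, ZMod 11) V} {j : ℕ} {x : V} :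
    x ∈ wsp ρ j ↔ ρ tg x = (2 : K) ^ j • x := by
  rw [wsp, LinearMap.mem_ker, LinearMap.sub_apply, LinearMap.smul_apply, Module.End.one_apply,
    sub_eq_zero]

theorem mem_fixU {ρ : Representation K SL(2, ZMod 11) V} {x : V} :
    x ∈ fixU ρ ↔ ρ (uM 11 1) x = x := mem_ker_sub_one

variable [CharP K 11]

theorem cast_eleven : (11 : K) = 0 := by exact_mod_cast CharP.cast_eq_zero K 11

theorem two_ne : (2 : K) ≠ 0 := by
  intro h
  have h1 : (1 : K) = 0 := by linear_combination cast_eleven (K := K) - 5 * h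
  exact one_ne_zero h1

theorem two_pow_ten : (2 : K) ^ 10 = 1 := by linear_combination 93 * cast_eleven (K := K)

theorem two_prim : IsPrimitiveRoot (2 : K) 10 := by
  have h : IsPrimitiveRoot (2 : ZMod 11) 10 := by
    refine (IsPrimitiveRoot.iff (by norm_num)).2 ⟨by decide, fun l hl0 hl => ?_⟩
    revert hl0
    interval_cases l <;> decide
  have := h.map_of_injective (f := ZMod.castHom (dvd_refl 11) K) (RingHom.injective _)
  rwa [map_ofNat] at this

theorem two_pow_inj {i j : ℕ} (hi : i < 10) (hj : j < 10) (h : (2 : K) ^ i = 2 ^ j) : i = j :=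
  two_prim.pow_inj hi hj h

theorem two_pow_mod (j : ℕ) : (2 : K) ^ (j % 10) = 2 ^ j := by
  conv_rhs => rw [← Nat.mod_add_div j 10, pow_add, pow_mul, two_pow_ten, one_pow, mul_one]

theorem val_cast_pow (n : ℕ) : ((((2 : ZMod 11) ^ n).val : ℕ) : K) = 2 ^ n := by
  have h := map_pow (ZMod.castHom (dvd_refl 11) K) 2 n
  rw [map_ofNat] at h
  rw [← h, ZMod.natCast_val]
  rfl

theorem wsp_mod (ρ : Representation K SL(2, ZMod 11) V) (j : ℕ) :
    wsp ρ (j % 10) = wsp ρ j := by
  rw [wsp, wsp, two_pow_mod]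

theorem inv_wsp {ρ : Representation K SL(2, ZMod 11) V} {j : ℕ} {x : V} (hx : x ∈ wsp ρ j) :
    ρ tg⁻¹ x = ((2 : K) ^ j)⁻¹ • x := by
  have h := congrArg (ρ tg⁻¹) (mem_wsp.1 hx)
  rw [← Module.End.mul_apply, ← map_mul, inv_mul_cancel, map_one, Module.End.one_apply,
    map_smul] at h
  conv_rhs => rw [h, smul_smul, inv_mul_cancel₀ (pow_ne_zero _ two_ne), one_smul]

theorem wsp_disjoint (ρ : Representation K SL(2, ZMod 11) V) {i j : ℕ} (h : i % 10 ≠ j % 10) :
    wsp ρ i ⊓ wsp ρ j = ⊥ := by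
  rw [eq_bot_iff]
  rintro x ⟨h1, h2⟩
  rw [Submodule.mem_bot]
  have h3 : ((2 : K) ^ i - 2 ^ j) • x = 0 := by
    rw [sub_smul, ← mem_wsp.1 h1, ← mem_wsp.1 h2, sub_self]
  refine (smul_eq_zero.1 h3).resolve_left fun e => h ?_
  refine two_pow_inj (K := K) (Nat.mod_lt _ (by norm_num)) (Nat.mod_lt _ (by norm_num)) ?_
  rw [two_pow_mod, two_pow_mod]
  exact sub_eq_zero.1 e

theorem rho_mul (ρ : Representation K SL(2, ZMod 11) V) (g h : SL(2, ZMod 11)) (x : V) :
    ρ g (ρ h x) = ρ (g * h) x := by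
  rw [map_mul, Module.End.mul_apply]

theorem w_mem_wsp (ρ : Representation K SL(2, ZMod 11) V) {x : V} (hx : x ∈ wsp ρ 1) :
    ρ (wM 11) x ∈ wsp ρ 9 := by
  rw [mem_wsp, rho_mul, tg_mul_wM, ← rho_mul, inv_wsp hx, map_smul]
  congr 1
  rw [pow_one]
  refine inv_eq_of_mul_eq_one_right ?_
  rw [← pow_succ', two_pow_ten]

theorem sumU_apply (ρ : Representation K SL(2, ZMod 11) V) (x : V) :
    sumU ρ x = ∑ c : ZMod 11, ρ (uM 11 c) x := by
  simp [sumU]

theorem sumU_mem (ρ : Representation K SL(2, ZMod 11) V) {j : ℕ} {x : V} (hx : x ∈ wsp ρ j) :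
    sumU ρ x ∈ wsp ρ j ⊓ fixU ρ := by
  refine ⟨mem_wsp.2 ?_, mem_fixU.2 ?_⟩
  · rw [sumU_apply, map_sum, Finset.smul_sum]
    refine Fintype.sum_equiv (Equiv.mulLeft₀ (4 : ZMod 11) (by decide)) _ _ fun c => ?_
    rw [rho_mul, tg_mul_uM, ← rho_mul, mem_wsp.1 hx, map_smul]
    rfl
  · rw [sumU_apply, map_sum]
    refine Fintype.sum_equiv (Equiv.addLeft (1 : ZMod 11)) _ _ fun c => ?_
    rw [rho_mul, ← uM_add]
    rfl

theorem natW_apply (ρ : Representation K SL(2, ZMod 11) V) {x : V} (hx : x ∈ natW ρ)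
    (g : SL(2, ZMod 11)) :
    ρ g x = (((g 0 0).val : ℕ) : K) • x + (((g 1 0).val : ℕ) : K) • ρ (wM 11) x := by
  obtain ⟨⟨h1, h2⟩, h3⟩ := hx
  refine natural_of_fixed ρ x (mem_fixU.1 h2) (fun l => ?_) ?_ g
  · obtain ⟨n, hn, hl⟩ := tM_eq_pow l
    rw [hn, hl, val_cast_pow]
    induction (n : ℕ) with
    | zero => rw [pow_zero, pow_zero, map_one, one_smul]; rfl
    | succ m ih =>
      rw [pow_succ', ← rho_mul, ih, map_smul, mem_wsp.1 h1, pow_one, smul_smul, pow_succ]
  · rw [← sumU_apply]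
    exact h3

theorem e0_one_le [FiniteDimensional K V] (ρ : Representation K SL(2, ZMod 11) V) :
    e0 ρ 1 ≤ finrank K (natW ρ) + e0 ρ 9 := by
  set A := wsp ρ 1 ⊓ fixU ρ with hA
  set q := (sumU ρ * ρ (wM 11)).domRestrict A with hq
  have h1 : LinearMap.range q ≤ wsp ρ 9 ⊓ fixU ρ := by
    rintro _ ⟨⟨x, hx⟩, rfl⟩
    exact sumU_mem ρ (w_mem_wsp ρ hx.1)
  have h2 : (LinearMap.ker q).map A.subtype ≤ natW ρ := by
    rintro _ ⟨⟨x, hx⟩, hx', rfl⟩
    exact ⟨hx, hx'⟩
  have h3 := Submodule.finrank_mono h1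
  have h4 := Submodule.finrank_mono h2
  rw [Submodule.finrank_map_subtype_eq] at h4
  have h5 := LinearMap.finrank_range_add_finrank_ker q
  rw [e0, e0, ← hA]
  omega

/-- The submodule spanned by the natural vectors. -/
noncomputable def natS (ρ : Representation K SL(2, ZMod 11) V) : Submodule K V :=
  natW ρ ⊔ (natW ρ).map (ρ (wM 11))

theorem natS_stable (ρ : Representation K SL(2, ZMod 11) V) : Stable ρ (natS ρ) := by
  have key : ∀ (g : SL(2, ZMod 11)) (a : V), a ∈ natW ρ → ρ g a ∈ natS ρ := fun g a ha => by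
    rw [natW_apply ρ ha g]
    exact add_mem (Submodule.smul_mem _ _ (Submodule.mem_sup_left ha))
      (Submodule.smul_mem _ _ (Submodule.mem_sup_right ⟨a, ha, rfl⟩))
  intro g x hx
  obtain ⟨a, ha, _, ⟨b, hb, rfl⟩, rfl⟩ := Submodule.mem_sup.1 hx
  show ρ g (a + ρ (wM 11) b) ∈ natS ρ
  rw [map_add, rho_mul]
  exact add_mem (key _ _ ha) (key _ _ hb)

theorem finrank_natS [FiniteDimensional K V] (ρ : Representation K SL(2, ZMod 11) V) :
    finrank K (natS ρ) = 2 * finrank K (natW ρ) := by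
  have h1 := Submodule.finrank_sup_add_finrank_inf_eq (natW ρ) ((natW ρ).map (ρ (wM 11)))
  have h2 : natW ρ ⊓ (natW ρ).map (ρ (wM 11)) = ⊥ := by
    rw [eq_bot_iff]
    rintro x ⟨hx, a, ha, rfl⟩
    rw [← wsp_disjoint ρ (i := 1) (j := 9) (by norm_num)]
    exact ⟨hx.1.1, w_mem_wsp ρ ha.1.1⟩
  have h3 : finrank K ((natW ρ).map (ρ (wM 11))) = finrank K (natW ρ) := by
    refine (Submodule.equivMapOfInjective _ (fun a b hab => ?_) _).finrank_eq.symm
    have := congrArg (ρ (wM 11)⁻¹) hab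
    simpa [rho_mul] using this
  rw [h2, finrank_bot, h3] at h1
  rw [natS]
  omega

theorem natS_inf_wsp (ρ : Representation K SL(2, ZMod 11) V) {j : ℕ} (h1 : j % 10 ≠ 1)
    (h9 : j % 10 ≠ 9) : natS ρ ⊓ wsp ρ j = ⊥ := by
  rw [eq_bot_iff]
  rintro x ⟨hx, hxj⟩
  obtain ⟨a, ha, b', ⟨b, hb, rfl⟩, rfl⟩ := Submodule.mem_sup.1 hx
  have hA := mem_wsp.1 ha.1.1
  have hB := mem_wsp.1 (w_mem_wsp ρ hb.1.1)
  have hX := mem_wsp.1 hxj
  rw [map_add, hA, hB, smul_add] at hX
  have hd : ((2 : K) ^ 1 - 2 ^ j) • a = ((2 : K) ^ j - 2 ^ 9) • ρ (wM 11) b := by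
    rw [sub_smul, sub_smul, sub_eq_sub_iff_add_eq_add, hX, add_comm]
  have hne : ∀ i, i < 10 → j % 10 ≠ i → (2 : K) ^ i ≠ 2 ^ j := fun i hi hij e =>
    hij (two_pow_inj (K := K) (Nat.mod_lt _ (by norm_num)) hi (by rw [two_pow_mod, e]))
  have hd0 : ((2 : K) ^ 1 - 2 ^ j) • a = 0 := by
    have h' : ((2 : K) ^ 1 - 2 ^ j) • a ∈ wsp ρ 1 ⊓ wsp ρ 9 :=
      ⟨Submodule.smul_mem _ _ ha.1.1, hd ▸ Submodule.smul_mem _ _ (w_mem_wsp ρ hb.1.1)⟩
    rwa [wsp_disjoint ρ (i := 1) (j := 9) (by norm_num), Submodule.mem_bot] at h'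
  have ha0 : a = 0 :=
    (smul_eq_zero.1 hd0).resolve_left (sub_ne_zero.2 (hne 1 (by norm_num) h1))
  have hb0 : ρ (wM 11) b = 0 :=
    (smul_eq_zero.1 (hd ▸ hd0)).resolve_left (sub_ne_zero.2 (hne 9 (by norm_num) h9).symm)
  rw [Submodule.mem_bot, ha0, hb0, add_zero]

/-- Multiplicity of the weight `j` in the simple module of dimension `a + 1`. -/
def cnt (a j : ℕ) : ℕ :=
  ((Finset.range (a + 1)).filter fun i : ℕ => ((a : ℤ) - 2 * (i : ℤ)) % 10 = (j : ℤ) % 10).card

/-- Fixed points of an element of order three in the simple module. -/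
def fx (a : ℕ) : ℕ := ((Finset.range (a + 1)).filter fun i : ℕ => ((a : ℤ) - 2 * (i : ℤ)) % 3 = 0).card

/-- The weight of the fixed vector of `uM 1`. -/
def top (a j : ℕ) : ℕ := if a % 10 = j % 10 then 1 else 0

/-- A possible vector of composition multiplicities. -/
structure Comp (ρ : Representation K SL(2, ZMod 11) V) (k : ℕ → ℕ) : Prop where
  dim : finrank K V = ∑ a ∈ Finset.range 11, k a * (a + 1)
  fix3 : fixDim ρ (xM 11) = ∑ a ∈ Finset.range 11, k a * fx a
  wts : ∀ j < 10, finrank K (wsp ρ j) = ∑ a ∈ Finset.range 11, k a * cnt a j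
  soc : ∀ j < 10, e0 ρ j ≤ ∑ a ∈ Finset.range 11, k a * top a j
  soc' : ∀ j < 10, e0 ρ.dual j ≤ ∑ a ∈ Finset.range 11, k a * top a j

/-- The layer data of `uM 1 - 1` and `tg`. -/
theorem layers [FiniteDimensional K V] (ρ : Representation K SL(2, ZMod 11) V) :
    Layers.Data (ρ (uM 11 1) - 1) (ρ tg) (2 : K) 10 11 := by
  refine Layers.Data.of_conj (U := ρ (uM 11 1)) (k := 4) (by norm_num) ?_ ?_ two_prim rfl ?_
    (by norm_num) ?_
  · intro h
    have h1 : (1 : K) = 0 := by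
      push_cast at h
      linear_combination cast_eleven (K := K) - h
    exact one_ne_zero h1
  · rw [← map_pow, tg_pow, map_one]
  · rw [← map_pow, ← map_mul, ← map_mul, ← uM_four, tg_mul_uM, mul_one]
  · rcases subsingleton_or_nontrivial V with hV | hV
    · exact LinearMap.ext fun x => Subsingleton.elim _ _
    have : CharP (Module.End K V) 11 :=
      charP_of_injective_algebraMap (algebraMap K _).injective 11
    rw [sub_pow_char_of_commute _ (Commute.one_right _), one_pow, ← map_pow, uM_pow,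
      show ((11 : ℕ) : ZMod 11) * 1 = 0 by decide, uM_zero, map_one, sub_self]

theorem wt_eq (ρ : Representation K SL(2, ZMod 11) V) (j : ℕ) :
    Layers.wt (ρ tg) (2 : K) j = wsp ρ j := rfl

theorem sum_wsp [FiniteDimensional K V] (ρ : Representation K SL(2, ZMod 11) V) :
    finrank K V = ∑ j ∈ Finset.range 10, finrank K (wsp ρ j) :=
  Layers.finrank_eq_sum_wt (layers ρ)

theorem finrank_le_add {W U Q : Type*} [AddCommGroup W] [Module K W] [FiniteDimensional K W]
    [AddCommGroup U] [Module K U] [AddCommGroup Q] [Module K Q] [FiniteDimensional K U]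
    [FiniteDimensional K Q] (A : Submodule K W) (ι : U →ₗ[K] W) (f : W →ₗ[K] Q)
    (C : Submodule K U) (B : Submodule K Q) (hB : ∀ x ∈ A, f x ∈ B)
    (hC : ∀ x ∈ A, f x = 0 → ∃ c ∈ C, ι c = x) :
    finrank K A ≤ finrank K C + finrank K B := by
  set q := f.domRestrict A with hq
  have h1 : LinearMap.range q ≤ B := by
    rintro _ ⟨⟨x, hx⟩, rfl⟩
    exact hB x hx
  have h2 : (LinearMap.ker q).map A.subtype ≤ C.map ι := by
    rintro _ ⟨⟨x, hx⟩, hx', rfl⟩
    exact hC x hx hx'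
  have h3 := Submodule.finrank_mono h1
  have h4 := Submodule.finrank_mono h2
  rw [Submodule.finrank_map_subtype_eq] at h4
  have h4' := Submodule.finrank_map_le ι C
  have h5 := LinearMap.finrank_range_add_finrank_ker q
  omega

variable {U : Submodule K V}

theorem wsp_le [FiniteDimensional K V] (ρ : Representation K SL(2, ZMod 11) V) (hU : Stable ρ U)
    (j : ℕ) : finrank K (wsp ρ j) ≤
      finrank K (wsp (ρ.subrepresentation U hU) j) + finrank K (wsp (ρ.quotient U hU) j) := by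
  refine finrank_le_add (wsp ρ j) U.subtype U.mkQ _ _ (fun x hx => mem_wsp.2 ?_)
    fun x hx h0 => ⟨⟨x, (Submodule.Quotient.mk_eq_zero U).1 h0⟩,
      mem_wsp.2 (Subtype.ext (mem_wsp.1 hx)), rfl⟩
  show U.mkQ (ρ tg x) = _
  rw [mem_wsp.1 hx, map_smul]

theorem e0_le [FiniteDimensional K V] (ρ : Representation K SL(2, ZMod 11) V) (hU : Stable ρ U)
    (j : ℕ) : e0 ρ j ≤ e0 (ρ.subrepresentation U hU) j + e0 (ρ.quotient U hU) j := by
  refine finrank_le_add (wsp ρ j ⊓ fixU ρ) U.subtype U.mkQ _ _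
    (fun x hx => ⟨mem_wsp.2 ?_, mem_fixU.2 ?_⟩)
    fun x hx h0 => ⟨⟨x, (Submodule.Quotient.mk_eq_zero U).1 h0⟩,
      ⟨mem_wsp.2 (Subtype.ext (mem_wsp.1 hx.1)), mem_fixU.2 (Subtype.ext (mem_fixU.1 hx.2))⟩, rfl⟩
  · show U.mkQ (ρ tg x) = _
    rw [mem_wsp.1 hx.1, map_smul]
  · show U.mkQ (ρ (uM 11 1) x) = _
    rw [mem_fixU.1 hx.2]

theorem e0_dual_le [FiniteDimensional K V] (ρ : Representation K SL(2, ZMod 11) V)
    (hU : Stable ρ U) (j : ℕ) :
    e0 ρ.dual j ≤ e0 (ρ.subrepresentation U hU).dual j + e0 (ρ.quotient U hU).dual j := by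
  rw [add_comm]
  refine finrank_le_add (wsp ρ.dual j ⊓ fixU ρ.dual) U.mkQ.dualMap U.subtype.dualMap _ _
    (fun φ hφ => ⟨mem_wsp.2 ?_, mem_fixU.2 ?_⟩) fun φ hφ h0 => ?_
  · refine LinearMap.ext fun x => ?_
    exact LinearMap.congr_fun (mem_wsp.1 hφ.1) (x : V)
  · refine LinearMap.ext fun x => ?_
    exact LinearMap.congr_fun (mem_fixU.1 hφ.2) (x : V)
  · have hk : U ≤ LinearMap.ker φ := fun x hx => LinearMap.congr_fun h0 ⟨x, hx⟩
    refine ⟨U.liftQ φ hk, ⟨mem_wsp.2 (LinearMap.ext fun y => ?_),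
      mem_fixU.2 (LinearMap.ext fun y => ?_)⟩, LinearMap.ext fun x => rfl⟩
    · obtain ⟨x, rfl⟩ := Submodule.Quotient.mk_surjective U y
      exact LinearMap.congr_fun (mem_wsp.1 hφ.1) x
    · obtain ⟨x, rfl⟩ := Submodule.Quotient.mk_surjective U y
      exact LinearMap.congr_fun (mem_fixU.1 hφ.2) x

theorem orderOf_xM_ne : (orderOf (xM 11) : K) ≠ 0 := by
  rw [orderOf_xM (by norm_num)]
  intro h
  have h' : (3 : K) = 0 := by exact_mod_cast h
  have h1 : (1 : K) = 0 := by linear_combination 4 * h' - cast_eleven (K := K)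
  exact one_ne_zero h1

theorem Comp.add [FiniteDimensional K V] (ρ : Representation K SL(2, ZMod 11) V) (hU : Stable ρ U)
    {k l : ℕ → ℕ} (hk : Comp (ρ.subrepresentation U hU) k) (hl : Comp (ρ.quotient U hU) l) :
    Comp ρ (k + l) := by
  have hD : finrank K V = finrank K U + finrank K (V ⧸ U) := by
    rw [← Submodule.finrank_quotient_add_finrank U]
    omega
  have hs : ∀ f : ℕ → ℕ, ∑ a ∈ Finset.range 11, (k + l) a * f a =
      (∑ a ∈ Finset.range 11, k a * f a) + ∑ a ∈ Finset.range 11, l a * f a := fun f => by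
    simp only [Pi.add_apply, add_mul, Finset.sum_add_distrib]
  refine ⟨?_, ?_, fun j hj => ?_, fun j hj => ?_, fun j hj => ?_⟩
  · rw [hs, hD, hk.dim, hl.dim]
  · rw [hs, fixDim_add ρ orderOf_xM_ne U hU, hk.fix3, hl.fix3]
  · rw [hs, ← hk.wts j hj, ← hl.wts j hj]
    have hle : ∀ i ∈ Finset.range 10, finrank K (wsp ρ i) ≤
        finrank K (wsp (ρ.subrepresentation U hU) i) + finrank K (wsp (ρ.quotient U hU) i) :=
      fun i _ => wsp_le ρ hU i
    refine (Finset.sum_eq_sum_iff_of_le hle).1 ?_ j (Finset.mem_range.2 hj)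
    rw [Finset.sum_add_distrib, ← sum_wsp, ← sum_wsp, ← sum_wsp, hD]
  · rw [hs]
    exact (e0_le ρ hU j).trans (add_le_add (hk.soc j hj) (hl.soc j hj))
  · rw [hs]
    exact (e0_dual_le ρ hU j).trans (add_le_add (hk.soc' j hj) (hl.soc' j hj))

theorem dual_simple [FiniteDimensional K V] (ρ : Representation K SL(2, ZMod 11) V)
    (hs : IsSimpleRep ρ) : IsSimpleRep ρ.dual := by
  obtain ⟨⟨x, hx⟩, h⟩ := hs
  refine ⟨?_, fun W hW => ?_⟩
  · by_contra h0
    push Not at h0
    exact hx ((Module.forall_dual_apply_eq_zero_iff K x).1 fun φ => by rw [h0 φ]; rfl)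
  have hA : Stable ρ W.dualCoannihilator := by
    intro g y hy
    rw [Submodule.mem_comap, Submodule.mem_dualCoannihilator]
    intro φ hφ
    have h1 : φ (ρ g⁻¹⁻¹ y) = 0 := (Submodule.mem_dualCoannihilator _).1 hy _ (hW g⁻¹ hφ)
    rwa [inv_inv] at h1
  have e := Subspace.finrank_add_finrank_dualCoannihilator_eq W
  rcases h _ hA with hA' | hA'
  · right
    rw [hA', finrank_bot, add_zero] at e
    exact Submodule.eq_top_of_finrank_eq (by rw [e, Subspace.dual_finrank_eq])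
  · left
    rw [hA', finrank_top] at e
    exact Submodule.finrank_eq_zero.1 (by omega)

variable [IsAlgClosed K]

theorem e0_simple [FiniteDimensional K V] (ρ : Representation K SL(2, ZMod 11) V) {a : ℕ}
    (hu : fixDim ρ (uM 11 1) = 1)
    (htop : finrank K ↥(fixU ρ ⊓ wsp ρ a) = 1) (j : ℕ) : e0 ρ j ≤ top a j := by
  rw [top]
  split
  · exact (Submodule.finrank_mono inf_le_right).trans hu.le
  · next hne =>
    have he : fixU ρ ⊓ wsp ρ a = fixU ρ :=
      Submodule.eq_of_le_of_finrank_eq inf_le_left (by rw [htop]; exact hu.symm)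
    have hbot : wsp ρ j ⊓ fixU ρ = ⊥ := by
      rw [eq_bot_iff, ← wsp_disjoint ρ (Ne.symm hne)]
      exact fun x hx => ⟨hx.1, (he.symm.le hx.2).2⟩
    rw [e0, hbot, finrank_bot]

theorem simple_eleven [FiniteDimensional K V] (ρ : Representation K SL(2, ZMod 11) V)
    (hs : IsSimpleRep ρ) : ∃ a < 11, finrank K V = a + 1 ∧
      (∀ j, finrank K (wsp ρ j) = cnt a j) ∧ fixDim ρ (xM 11) = fx a ∧
      fixDim ρ (uM 11 1) = 1 ∧ finrank K ↥(fixU ρ ⊓ wsp ρ a) = 1 := by
  have hθ : ∀ l : (ZMod 11)ˣ, l ∈ Subgroup.zpowers (ZMod.unitOfCoprime 2 (by decide)) := fun l => by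
    obtain ⟨n, -, hl⟩ := tM_eq_pow l
    refine ⟨((n : ℕ) : ℤ), Units.ext ?_⟩
    show ((ZMod.unitOfCoprime 2 (by decide) ^ ((n : ℕ) : ℤ) : (ZMod 11)ˣ) : ZMod 11) = _
    rw [zpow_natCast, Units.val_pow_eq_pow_val, hl]
    rfl
  obtain ⟨a, ha, hD, hw, hx, hu, htop⟩ := simple_data (by norm_num) _ hθ ρ hs
  have hws : ∀ j, wspace ρ (ZMod.unitOfCoprime 2 (by decide)) j = wsp ρ j := fun j => by
    have h2 : cst ((ZMod.unitOfCoprime 2 (by decide) : (ZMod 11)ˣ) : ZMod 11) = (2 : K) := by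
      have := val_cast_pow (K := K) 1
      rwa [pow_one, pow_one] at this
    rw [wspace, h2]
    rfl
  refine ⟨a, ha, hD, fun j => ?_, hx, hu, by rw [← hws]; exact htop⟩
  rw [← hws, hw, cnt]
  refine congrArg Finset.card (Finset.filter_congr fun i _ => ?_)
  push_cast
  omega

theorem comp_simple [FiniteDimensional K V] (ρ : Representation K SL(2, ZMod 11) V)
    (hs : IsSimpleRep ρ) : ∃ k, Comp ρ k := by
  obtain ⟨a, ha, hD, hw, hx, hu, htop⟩ := simple_eleven ρ hs
  obtain ⟨b, hb, hD', -, -, hu', htop'⟩ := simple_eleven ρ.dual (dual_simple ρ hs)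
  have hba : b = a := by rw [Subspace.dual_finrank_eq] at hD'; omega
  subst hba
  have hs : ∀ f : ℕ → ℕ,
      ∑ c ∈ Finset.range 11, (if c = b then 1 else 0) * f c = f b := fun f => by
    simp [ha]
  refine ⟨fun c => if c = b then 1 else 0, ?_, ?_, fun j _ => ?_, fun j _ => ?_, fun j _ => ?_⟩
  · rw [hs fun c => c + 1, hD]
  · rw [hs fx, hx]
  · rw [hs fun c => cnt c j]; exact hw j
  · rw [hs fun c => top c j]; exact e0_simple ρ hu htop j
  · rw [hs fun c => top c j]; exact e0_simple ρ.dual hu' htop' j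

theorem exists_comp [FiniteDimensional K V] (ρ : Representation K SL(2, ZMod 11) V) :
    ∃ k, Comp ρ k := by
  suffices key : ∀ (n : ℕ) (W : Type v) [AddCommGroup W] [Module K W] [FiniteDimensional K W]
      (σ : Representation K SL(2, ZMod 11) W), finrank K W ≤ n → ∃ k, Comp σ k from
    key _ V ρ le_rfl
  intro n
  induction n with
  | zero =>
    intro W _ _ _ σ hW
    have hW0 : finrank K W = 0 := by omega
    have hz : ∀ A : Submodule K W, finrank K A = 0 := fun A =>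
      Nat.le_zero.1 (hW0 ▸ Submodule.finrank_le A)
    have hz' : ∀ A : Submodule K (Module.Dual K W), finrank K A = 0 := fun A =>
      Nat.le_zero.1 ((Subspace.dual_finrank_eq (K := K) (V := W)).trans hW0 ▸ Submodule.finrank_le A)
    exact ⟨0, by simp [hW0], by simp [fixDim, hz], fun j _ => by simp [hz],
      fun j _ => by simp [e0, hz], fun j _ => by simp [e0, hz']⟩
  | succ n ih =>
    intro W _ _ _ σ hW
    by_cases hs : IsSimpleRep σ
    · exact comp_simple σ hs
    by_cases hne : ∃ x : W, x ≠ 0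
    swap
    · push Not at hne
      have : Subsingleton W := ⟨fun a b => by rw [hne a, hne b]⟩
      exact ih W σ (by rw [Module.finrank_zero_of_subsingleton]; omega)
    simp only [IsSimpleRep, hne, true_and, not_forall, not_or] at hs
    obtain ⟨U, hU, hU0, hU1⟩ := hs
    have e1 := Submodule.finrank_quotient_add_finrank U
    have e2 : finrank K U ≠ 0 := fun e => hU0 (Submodule.finrank_eq_zero.1 e)
    have e3 : finrank K U < finrank K W := Submodule.finrank_lt hU1
    obtain ⟨k, hk⟩ := ih U (σ.subrepresentation U hU) (by omega)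
    obtain ⟨l, hl⟩ := ih (W ⧸ U) (σ.quotient U hU) (by omega)
    exact ⟨k + l, Comp.add σ hU hk hl⟩

theorem Comp.natural [FiniteDimensional K V] {ρ : Representation K SL(2, ZMod 11) V} {k : ℕ → ℕ}
    (h : Comp ρ k) (hw : ∀ j < 10, j ≠ 1 → j ≠ 9 → wsp ρ j = ⊥) :
    finrank K V = 2 * k 1 := by
  have hz : ∀ j, j < 10 → j ≠ 1 → j ≠ 9 → ∀ a < 11, 0 < cnt a j → k a = 0 := by
    intro j hj h1 h9 a ha hc
    have := h.wts j hj
    rw [hw j hj h1 h9, finrank_bot] at this
    have := Finset.sum_eq_zero_iff.1 this.symm a (Finset.mem_range.2 ha)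
    exact (mul_eq_zero.1 this).resolve_right hc.ne'
  rw [h.dim]
  have z0 : ∀ a ∈ ({0, 2, 4, 6, 8, 10} : Finset ℕ), k a = 0 := by
    intro a ha
    simp only [Finset.mem_insert, Finset.mem_singleton] at ha
    refine hz 0 (by norm_num) (by norm_num) (by norm_num) a ?_ ?_ <;>
      rcases ha with rfl | rfl | rfl | rfl | rfl | rfl <;> decide +kernel
  have z3 : ∀ a ∈ ({3, 5, 7, 9} : Finset ℕ), k a = 0 := by
    intro a ha
    simp only [Finset.mem_insert, Finset.mem_singleton] at ha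
    refine hz 3 (by norm_num) (by norm_num) (by norm_num) a ?_ ?_ <;>
      rcases ha with rfl | rfl | rfl | rfl <;> decide +kernel
  simp [Finset.sum_range_succ, z0, z3]
  ring

variable [FiniteDimensional K V]

theorem finrank_range_wsp_le (ρ : Representation K SL(2, ZMod 11) V) (m : ℕ) :
    finrank K ↥(wsp ρ 9 ⊓ LinearMap.range (ρ (uM 11 1) - 1) ⊓
        LinearMap.ker ((ρ (uM 11 1) - 1) ^ m)) ≤
      ∑ i ∈ Finset.range m, Layers.E (ρ (uM 11 1) - 1) (ρ tg) (2 : K) (i + 1) (9 + 2 * i) := by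
  set N := ρ (uM 11 1) - 1 with hN
  induction m with
  | zero =>
    have h0 : LinearMap.ker (N ^ 0) = ⊥ := by
      ext x
      simp
    rw [h0, inf_bot_eq, finrank_bot]
    exact Nat.zero_le _
  | succ m ih =>
    rw [Finset.sum_range_succ]
    refine le_trans (finrank_le_add _ LinearMap.id (N ^ m)
      (wsp ρ 9 ⊓ LinearMap.range N ⊓ LinearMap.ker (N ^ m))
      (wsp ρ (9 + 2 * m) ⊓ LinearMap.ker N ⊓ LinearMap.range (N ^ (m + 1))) ?_ ?_)
      (Nat.add_le_add_right ih _)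
    · rintro x ⟨⟨hx9, y, rfl⟩, hx⟩
      have h := (Layers.map_layer (layers ρ) m 9).le ⟨N y, ⟨hx9, hx⟩, rfl⟩
      exact ⟨h.1, y, by rw [pow_succ, Module.End.mul_apply]⟩
    · intro x hx h0
      exact ⟨x, ⟨hx.1, h0⟩, rfl⟩

theorem start_nine (ρ : Representation K SL(2, ZMod 11) V) :
    finrank K (wsp ρ 9) ≤ e0 ρ.dual 1 + ∑ i ∈ Finset.range 10,
      Layers.E (ρ (uM 11 1) - 1) (ρ tg) (2 : K) (i + 1) (9 + 2 * i) := by
  set N := ρ (uM 11 1) - 1 with hN
  have hl := layers ρ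
  set A := wsp ρ 9 with hA
  have hB := finrank_range_wsp_le ρ 11
  rw [← hN, hl.nil, LinearMap.ker_zero, inf_top_eq, Finset.sum_range_succ,
    Layers.E_eq_zero hl (le_refl 11), add_zero, ← hA] at hB
  set B := (LinearMap.range N).comap A.subtype with hBdef
  have hBeq : finrank K B = finrank K ↥(A ⊓ LinearMap.range N) := by
    rw [← Submodule.finrank_map_subtype_eq A B, hBdef, Submodule.map_comap_subtype]
  have hst : ∀ y ∈ LinearMap.range N, ρ tg y ∈ LinearMap.range N := by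
    rintro _ ⟨z, rfl⟩
    refine ⟨(∑ i ∈ Finset.range 4, ρ (uM 11 1) ^ i) (ρ tg z), ?_⟩
    rw [← Module.End.mul_apply N, hN, mul_geom_sum, ← map_pow, ← uM_four, LinearMap.sub_apply,
      Module.End.one_apply, rho_mul, show uM 11 4 = uM 11 (4 * 1) by rw [mul_one], ← tg_mul_uM,
      ← rho_mul, LinearMap.sub_apply, Module.End.one_apply, map_sub]
  let π : V →ₗ[K] A := (Layers.proj (ρ tg) (2 : K) 10 9).codRestrict A fun v =>
    Layers.proj_mem_wt hl 9 v
  have hπid : ∀ a : A, π a = a := fun a => Subtype.ext (by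
    show Layers.proj (ρ tg) (2 : K) 10 9 (a : V) = a
    rw [Layers.proj_wt hl (by norm_num) (by norm_num) a.2, if_pos rfl])
  have hle : finrank K B.dualAnnihilator ≤ e0 ρ.dual 1 := by
    have hinj : Function.Injective π.dualMap :=
      LinearMap.dualMap_injective_of_surjective fun a => ⟨a, hπid a⟩
    refine le_trans (Submodule.equivMapOfInjective _ hinj _).finrank_eq.le
      (Submodule.finrank_mono ?_)
    rintro _ ⟨ψ, hψ, rfl⟩
    rw [SetLike.mem_coe, Submodule.mem_dualAnnihilator] at hψ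
    refine ⟨mem_wsp.2 (LinearMap.ext fun x => ?_), mem_fixU.2 (LinearMap.ext fun x => ?_)⟩
    · have hc : π (ρ tg⁻¹ x) = (2 : K) • π x := Subtype.ext (by
        show Layers.proj (ρ tg) (2 : K) 10 9 (ρ tg⁻¹ x) =
          (2 : K) • Layers.proj (ρ tg) (2 : K) 10 9 x
        have hcm : Commute (ρ tg⁻¹) (Layers.proj (ρ tg) (2 : K) 10 9) := by
          unfold Layers.proj
          refine (Commute.sum_right _ _ _ fun k _ => Commute.smul_right ?_ _).smul_right _
          rw [← map_pow]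
          exact (((Commute.refl tg).inv_left).pow_right k).map ρ
        rw [← Module.End.mul_apply, ← hcm.eq, Module.End.mul_apply,
          inv_wsp (Layers.proj_mem_wt hl 9 x)]
        congr 1
        refine inv_eq_of_mul_eq_one_right ?_
        rw [← pow_succ, two_pow_ten])
      show ψ (π (ρ tg⁻¹ x)) = ((2 : K) ^ 1 • π.dualMap ψ) x
      rw [hc, map_smul, pow_one]
      rfl
    · show ψ (π (ρ (uM 11 1)⁻¹ x)) = ψ (π x)
      rw [← sub_eq_zero, ← map_sub, ← map_sub]
      refine hψ _ ?_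
      show Layers.proj (ρ tg) (2 : K) 10 9 _ ∈ LinearMap.range N
      refine Layers.proj_stable hst 9 ⟨-ρ (uM 11 1)⁻¹ x, ?_⟩
      rw [hN, LinearMap.sub_apply, Module.End.one_apply, map_neg, rho_mul, mul_inv_cancel,
        map_one, Module.End.one_apply]
      abel
  have hdim := Subspace.finrank_add_finrank_dualAnnihilator_eq B
  omega

set_option maxRecDepth 8000 in
theorem inequality (e : ℕ → ℕ → ℤ) (k : ℕ → ℤ) (s t : ℤ) (hk : ∀ a, 0 ≤ k a)
    (hst : s + t ≤ k 1) (hmono : ∀ i j, e (i + 1) j ≤ e i j)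
    (hn : ∀ j < 10, ∑ a ∈ Finset.range 11, k a * cnt a j =
      ∑ i ∈ Finset.range 11, e i ((j + 2 * i) % 10))
    (hsoc : ∀ j < 10, j ≠ 1 → e 0 j ≤ ∑ a ∈ Finset.range 11, k a * top a j)
    (h1 : e 0 1 ≤ s + k 9)
    (h9 : ∑ a ∈ Finset.range 11, k a * cnt a 9 ≤
      t + k 9 + ∑ i ∈ Finset.range 10, e (i + 1) ((9 + 2 * i) % 10)) :
    ∑ a ∈ Finset.range 11, k a * ((a : ℤ) + 1) ≤
      4 * (∑ a ∈ Finset.range 11, k a * (fx a : ℤ)) + 2 * ∑ j ∈ Finset.range 10, e 0 j := by
  have n0 := hn 0 (by norm_num)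
  have n1 := hn 1 (by norm_num)
  have n2 := hn 2 (by norm_num)
  have n3 := hn 3 (by norm_num)
  have n4 := hn 4 (by norm_num)
  have n5 := hn 5 (by norm_num)
  have n6 := hn 6 (by norm_num)
  have n7 := hn 7 (by norm_num)
  have n8 := hn 8 (by norm_num)
  have n9 := hn 9 (by norm_num)
  have s0 := hsoc 0 (by norm_num) (by norm_num)
  have s2 := hsoc 2 (by norm_num) (by norm_num)
  have s3 := hsoc 3 (by norm_num) (by norm_num)
  have s4 := hsoc 4 (by norm_num) (by norm_num)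
  have s5 := hsoc 5 (by norm_num) (by norm_num)
  have s6 := hsoc 6 (by norm_num) (by norm_num)
  have s7 := hsoc 7 (by norm_num) (by norm_num)
  have s8 := hsoc 8 (by norm_num) (by norm_num)
  have s9 := hsoc 9 (by norm_num) (by norm_num)
  have hc : ∀ a < 11, ∀ j < 10, (cnt a j : ℤ) =
      ([[1,0,0,0,0,0,0,0,0,0], [0,1,0,0,0,0,0,0,0,1], [1,0,1,0,0,0,0,0,1,0],
        [0,1,0,1,0,0,0,1,0,1], [1,0,1,0,1,0,1,0,1,0], [0,1,0,1,0,2,0,1,0,1],
        [1,0,1,0,2,0,2,0,1,0], [0,1,0,2,0,2,0,2,0,1], [1,0,2,0,2,0,2,0,2,0],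
        [0,2,0,2,0,2,0,2,0,2], [3,0,2,0,2,0,2,0,2,0]][a]!)[j]! := by decide +kernel
  have hf : ∀ a < 11, (fx a : ℤ) = [1,0,1,2,1,2,3,2,3,4,3][a]! := by decide +kernel
  simp [Finset.sum_range_succ, top, hc, hf] at n0 n1 n2 n3 n4 n5 n6 n7 n8 n9 s0 s2 s3 s4 s5 s6 s7 s8 s9 h9 ⊢
  linarith [hk 0, hk 1, hk 2, hk 3, hk 4, hk 5, hk 6, hk 7, hk 8, hk 9, hk 10, hst, h1,
    hmono 0 0, hmono 0 1, hmono 0 2, hmono 0 3, hmono 0 4, hmono 0 5, hmono 0 6, hmono 0 7, hmono 0 8, hmono 0 9,
    hmono 1 0, hmono 1 1, hmono 1 2, hmono 1 3, hmono 1 4, hmono 1 5, hmono 1 6, hmono 1 7, hmono 1 8, hmono 1 9,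
    hmono 2 0, hmono 2 1, hmono 2 2, hmono 2 3, hmono 2 4, hmono 2 5, hmono 2 6, hmono 2 7, hmono 2 8, hmono 2 9,
    hmono 3 0, hmono 3 1, hmono 3 2, hmono 3 3, hmono 3 4, hmono 3 5, hmono 3 6, hmono 3 7, hmono 3 8, hmono 3 9,
    hmono 4 0, hmono 4 1, hmono 4 2, hmono 4 3, hmono 4 4, hmono 4 5, hmono 4 6, hmono 4 7, hmono 4 8, hmono 4 9,
    hmono 5 0, hmono 5 1, hmono 5 2, hmono 5 3, hmono 5 4, hmono 5 5, hmono 5 6, hmono 5 7, hmono 5 8, hmono 5 9,
    hmono 6 0, hmono 6 1, hmono 6 2, hmono 6 3, hmono 6 4, hmono 6 5, hmono 6 6, hmono 6 7, hmono 6 8, hmono 6 9,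
    hmono 7 0, hmono 7 1, hmono 7 2, hmono 7 3, hmono 7 4, hmono 7 5, hmono 7 6, hmono 7 7, hmono 7 8, hmono 7 9,
    hmono 8 0, hmono 8 1, hmono 8 2, hmono 8 3, hmono 8 4, hmono 8 5, hmono 8 6, hmono 8 7, hmono 8 8, hmono 8 9,
    hmono 9 0, hmono 9 1, hmono 9 2, hmono 9 3, hmono 9 4, hmono 9 5, hmono 9 6, hmono 9 7, hmono 9 8, hmono 9 9]

theorem dual_eval (ρ : Representation K SL(2, ZMod 11) V) (g : SL(2, ZMod 11))
    (φ : Module.Dual K V) (x : V) : ρ.dual g φ x = φ (ρ g⁻¹ x) := rfl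

theorem dual_natW_apply (ρ : Representation K SL(2, ZMod 11) V) {φ : Module.Dual K V}
    {v : V} (hv : v ∈ natW ρ) (hφ : φ ∈ natW ρ.dual) :
    φ v = 0 ∧ ρ.dual (wM 11) φ v = -φ (ρ (wM 11) v) ∧
      ρ.dual (wM 11) φ (ρ (wM 11) v) = φ v := by
  refine ⟨?_, ?_, ?_⟩
  · have h := LinearMap.congr_fun (mem_wsp.1 hφ.1.1) v
    rw [dual_eval, inv_wsp hv.1.1, map_smul, LinearMap.smul_apply] at h
    have h' : (((2 : K) ^ 1)⁻¹ - 2 ^ 1) • φ v = 0 := by rw [sub_smul, h, sub_self]
    refine (smul_eq_zero.1 h').resolve_left (sub_ne_zero.2 fun e => ?_)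
    have h1 : (1 : K) = 2 ^ 2 := by
      rw [show (2 : K) ^ 2 = 2 ^ 1 * 2 ^ 1 by ring]
      nth_rewrite 1 [← e]
      rw [inv_mul_cancel₀ (pow_ne_zero _ two_ne)]
    exact absurd (two_pow_inj (K := K) (i := 0) (j := 2) (by norm_num) (by norm_num)
      (by rw [pow_zero]; exact h1)) (by norm_num)
  · rw [dual_eval, natW_apply ρ hv (wM 11)⁻¹]
    have e0' : ((wM 11)⁻¹) 0 0 = 0 := by decide +kernel
    have e1' : ((wM 11)⁻¹) 1 0 = 10 := by decide +kernel
    rw [e0', e1', ZMod.val_zero, Nat.cast_zero, zero_smul, zero_add,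
      show ((10 : ZMod 11).val : ℕ) = 10 by rfl, map_smul, smul_eq_mul]
    push_cast
    linear_combination φ (ρ (wM 11) v) * cast_eleven (K := K)
  · rw [dual_eval, rho_mul, inv_mul_cancel, map_one]
    rfl

/-- A natural summand can be split off. -/
theorem exists_split (ρ : Representation K SL(2, ZMod 11) V) {v : V} (hv : v ∈ natW ρ)
    {φ : Module.Dual K V} (hφ : φ ∈ natW ρ.dual) (hc : φ (ρ (wM 11) v) ≠ 0) :
    ∃ (R : Submodule K V) (hR : Stable ρ R), finrank K V ≤ finrank K R + 2 ∧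
      finrank K R < finrank K V ∧
      fixDim (ρ.subrepresentation R hR) (xM 11) ≤ fixDim ρ (xM 11) ∧
      fixDim (ρ.subrepresentation R hR) (uM 11 1) < fixDim ρ (uM 11 1) := by
  set Φ : Submodule K (Module.Dual K V) :=
    Submodule.span K {φ, ρ.dual (wM 11) φ} with hΦ
  set R := Φ.dualCoannihilator with hR
  obtain ⟨hpv, hwv, hwwv⟩ := dual_natW_apply ρ hv hφ
  have hRst : Stable ρ R := by
    intro g x hx
    rw [Submodule.mem_comap, hR, Submodule.mem_dualCoannihilator]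
    have key : ∀ h : SL(2, ZMod 11), ρ.dual h φ x = 0 := fun h => by
      rw [natW_apply ρ.dual hφ h, LinearMap.add_apply, LinearMap.smul_apply,
        LinearMap.smul_apply,
        (Submodule.mem_dualCoannihilator _).1 hx _ (Submodule.subset_span (Set.mem_insert _ _)),
        (Submodule.mem_dualCoannihilator _).1 hx _
          (Submodule.subset_span (Set.mem_insert_of_mem _ rfl)), smul_zero, smul_zero, add_zero]
    have k1 : φ (ρ g x) = 0 := by
      have := key g⁻¹
      rwa [dual_eval, inv_inv] at this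
    have k2 : ρ.dual (wM 11) φ (ρ g x) = 0 := by
      have := key (g⁻¹ * wM 11)
      rw [← rho_mul, dual_eval, inv_inv] at this
      exact this
    intro ψ hψ
    obtain ⟨a, b, rfl⟩ := Submodule.mem_span_pair.1 hψ
    rw [LinearMap.add_apply, LinearMap.smul_apply, LinearMap.smul_apply, k1, k2, smul_zero,
      smul_zero, add_zero]
  have hcodim : finrank K V ≤ finrank K R + 2 := by
    have h1 := Subspace.finrank_add_finrank_dualCoannihilator_eq Φ
    have h2 : finrank K Φ ≤ 2 := by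
      classical
      have h3 := finrank_span_finset_le_card (R := K)
        ({φ, ρ.dual (wM 11) φ} : Finset (Module.Dual K V))
      rw [Finset.coe_insert, Finset.coe_singleton] at h3
      exact h3.trans Finset.card_le_two
    rw [← hR] at h1
    omega
  have hvR : v ∉ R := fun hv' => hc <| by
    have := (Submodule.mem_dualCoannihilator _).1 hv' (ρ.dual (wM 11) φ)
      (Submodule.subset_span (Set.mem_insert_of_mem _ rfl))
    rw [hwv] at this
    exact neg_eq_zero.1 this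
  have hRlt : finrank K R < finrank K V :=
    Submodule.finrank_lt fun e => hvR (e ▸ Submodule.mem_top)
  have hx : fixDim (ρ.subrepresentation R hRst) (xM 11) ≤ fixDim ρ (xM 11) := by
    refine le_trans (le_of_eq (Submodule.finrank_map_subtype_eq R _).symm)
      (Submodule.finrank_mono ?_)
    rintro _ ⟨⟨x, hx⟩, hx', rfl⟩
    exact mem_ker_sub_one.2 (congrArg Subtype.val (mem_ker_sub_one.1 hx'))
  have hu : fixDim (ρ.subrepresentation R hRst) (uM 11 1) < fixDim ρ (uM 11 1) := by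
    refine lt_of_eq_of_lt (Submodule.finrank_map_subtype_eq R _).symm
      (Submodule.finrank_lt_finrank_of_lt (lt_of_le_of_ne ?_ fun e => hvR ?_))
    · rintro _ ⟨⟨x, hx⟩, hx', rfl⟩
      exact mem_ker_sub_one.2 (congrArg Subtype.val (mem_ker_sub_one.1 hx'))
    · have hvu : v ∈ LinearMap.ker (ρ (uM 11 1) - 1) := hv.1.2
      rw [← e] at hvu
      obtain ⟨x, -, rfl⟩ := hvu
      exact x.2
  exact ⟨R, hRst, hcodim, hRlt, hx, hu⟩

/-- The inequality when no natural summand splits off. -/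
theorem bound_of_no_summand (ρ : Representation K SL(2, ZMod 11) V)
    (hsum : ∀ v ∈ natW ρ, ∀ φ ∈ natW ρ.dual, φ (ρ (wM 11) v) = 0) :
    finrank K V ≤ 4 * fixDim ρ (xM 11) + 2 * fixDim ρ (uM 11 1) := by
  set S := natS ρ with hS
  set Φ := natS ρ.dual with hΦ
  set R := Φ.dualCoannihilator with hR
  have hRst : Stable ρ R := by
    intro g x hx
    rw [Submodule.mem_comap, hR, Submodule.mem_dualCoannihilator]
    intro ψ hψ
    have := (Submodule.mem_dualCoannihilator _).1 hx _ (natS_stable ρ.dual g⁻¹ hψ)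
    rwa [dual_eval, inv_inv] at this
  have hSR : S ≤ R := by
    intro x hx
    rw [hR, Submodule.mem_dualCoannihilator]
    intro ψ hψ
    obtain ⟨a, ha, _, ⟨b, hb, rfl⟩, rfl⟩ := Submodule.mem_sup.1 hx
    obtain ⟨c, hc, _, ⟨d, hd, rfl⟩, rfl⟩ := Submodule.mem_sup.1 hψ
    have p1 := dual_natW_apply ρ ha hc
    have p2 := dual_natW_apply ρ hb hc
    have p3 := dual_natW_apply ρ ha hd
    have p4 := dual_natW_apply ρ hb hd
    simp only [LinearMap.add_apply, map_add, p1.1, hsum b hb c hc, p3.2.1, hsum a ha d hd,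
      p4.2.2, p4.1, neg_zero, add_zero]
  have hSst : Stable (ρ.subrepresentation R hRst) (S.comap R.subtype) :=
    fun g x hx => natS_stable ρ g hx
  obtain ⟨kQ, hQ⟩ := exists_comp (ρ.quotient R hRst)
  obtain ⟨kS, hkS⟩ := exists_comp ((ρ.subrepresentation R hRst).subrepresentation _ hSst)
  obtain ⟨kM, hM⟩ := exists_comp ((ρ.subrepresentation R hRst).quotient _ hSst)
  have hk := Comp.add ρ hRst (Comp.add _ hSst hkS hM) hQ
  generalize hkdef : kS + kM + kQ = k at hk
  have hs : finrank K (natW ρ) = kS 1 := by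
    have h1 := hkS.natural fun j hj h1 h9 => by
      rw [eq_bot_iff]
      intro x hx
      have hx' : ((x : R) : V) ∈ S ⊓ wsp ρ j :=
        ⟨x.2, mem_wsp.2 (congrArg (fun y : S.comap R.subtype => ((y : R) : V)) (mem_wsp.1 hx))⟩
      have hx' := (natS_inf_wsp ρ (by omega) (by omega)).le hx'
      rw [Submodule.mem_bot] at hx'
      rw [Submodule.mem_bot]
      exact Subtype.ext (Subtype.ext hx')
    rw [(Submodule.comapSubtypeEquivOfLe hSR).finrank_eq, hS, finrank_natS] at h1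
    omega
  have ht : finrank K (natW ρ.dual) = kQ 1 := by
    have h1 := hQ.natural fun j hj h1 h9 => by
      rw [eq_bot_iff]
      intro y hy
      obtain ⟨x, rfl⟩ := Submodule.Quotient.mk_surjective R y
      have hy' := mem_wsp.1 hy
      have hker : ∀ (i : ℕ), i < 10 → (i + j) % 10 ≠ 0 → ∀ φ ∈ wsp ρ.dual i,
          (∀ z ∈ R, φ z = 0) → φ x = 0 := by
        intro i hi hij φ hφ hφR
        have e1 : ρ tg x - (2 : K) ^ j • x ∈ R := by
          rw [← Submodule.Quotient.eq, Submodule.Quotient.mk_smul]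
          exact hy'
        have e2 := hφR _ e1
        rw [map_sub, map_smul, sub_eq_zero, smul_eq_mul] at e2
        have e3 := LinearMap.congr_fun (inv_wsp hφ) x
        rw [dual_eval, inv_inv, LinearMap.smul_apply, smul_eq_mul, e2] at e3
        have e4 : ((2 : K) ^ (i + j) - 1) * φ x = 0 := by
          have := congrArg ((2 : K) ^ i * ·) e3
          simp only [← mul_assoc, mul_inv_cancel₀ (pow_ne_zero _ (two_ne (K := K)))] at this
          rw [pow_add]
          linear_combination this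
        refine (mul_eq_zero.1 e4).resolve_left (sub_ne_zero.2 fun e => hij ?_)
        refine two_pow_inj (K := K) (Nat.mod_lt _ (by norm_num)) (j := 0) (by norm_num) ?_
        rw [two_pow_mod, pow_zero, e]
      rw [Submodule.mem_bot, Submodule.Quotient.mk_eq_zero, hR,
        Submodule.mem_dualCoannihilator]
      intro ψ hψ
      obtain ⟨c, hc, _, ⟨d, hd, rfl⟩, rfl⟩ := Submodule.mem_sup.1 hψ
      rw [LinearMap.add_apply,
        hker 1 (by norm_num) (by omega) c hc.1.1
          (fun z hz => (Submodule.mem_dualCoannihilator _).1 hz _ (Submodule.mem_sup_left hc)),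
        hker 9 (by norm_num) (by omega) _ (w_mem_wsp ρ.dual hd.1.1)
          (fun z hz => (Submodule.mem_dualCoannihilator _).1 hz _
            (Submodule.mem_sup_right ⟨d, hd, rfl⟩)), add_zero]
    have h2 := Submodule.finrank_quotient_add_finrank R
    have h3 := Subspace.finrank_add_finrank_dualCoannihilator_eq Φ
    rw [hΦ, finrank_natS] at h3
    rw [hR, hΦ] at h2 h1
    omega
  have hl := layers ρ
  set E := Layers.E (ρ (uM 11 1) - 1) (ρ tg) (2 : K) with hE
  have hE0 : ∀ j, E 0 j = e0 ρ j := by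
    intro j
    rw [hE, Layers.E, pow_zero, Module.End.one_eq_id, LinearMap.range_id, inf_top_eq]
    rfl
  have hk9 : ∑ a ∈ Finset.range 11, k a * top a 9 = k 9 := by
    simp [Finset.sum_range_succ, top]
  have main := inequality (fun i j => (E i j : ℤ)) (fun a => (k a : ℤ))
    (finrank K (natW ρ)) (finrank K (natW ρ.dual)) (fun a => by positivity)
    ?_ ?_ ?_ ?_ ?_ ?_
  · have hf : fixDim ρ (uM 11 1) = ∑ j ∈ Finset.range 10, E 0 j := Layers.finrank_ker hl
    rw [hk.dim, hk.fix3, hf]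
    zify
    exact main
  · simp only [← hkdef, Pi.add_apply, hs, ht]
    push_cast
    omega
  · intro i j
    simp only [Nat.cast_le]
    exact Layers.E_antitone hl j (Nat.le_succ i)
  · intro j hj
    rw [← Nat.cast_sum]
    simp only [← Nat.cast_mul, ← Nat.cast_sum, Nat.cast_inj]
    rw [← hk.wts j hj, ← wt_eq, Layers.finrank_wt hl]
    exact Finset.sum_congr rfl fun i _ => (Layers.E_mod hl i _).symm
  · intro j hj _
    simp only [← Nat.cast_mul, ← Nat.cast_sum, Nat.cast_le, hE0]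
    exact hk.soc j hj
  · simp only [hE0]
    have := e0_one_le ρ
    have := hk.soc 9 (by norm_num)
    omega
  · simp only [← Nat.cast_mul, ← Nat.cast_sum]
    rw [← hk.wts 9 (by norm_num)]
    have h9 := start_nine ρ
    rw [← hE, Finset.sum_congr rfl fun i _ => (Layers.E_mod hl (i + 1) (9 + 2 * i)).symm, ← hE]
      at h9
    have := e0_one_le ρ.dual
    have := hk.soc' 9 (by norm_num)
    omega

/-- `D ≤ 4 F + 2 f`. -/
theorem bound (ρ : Representation K SL(2, ZMod 11) V) :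
    finrank K V ≤ 4 * fixDim ρ (xM 11) + 2 * fixDim ρ (uM 11 1) := by
  suffices key : ∀ (n : ℕ) (W : Type v) [AddCommGroup W] [Module K W] [FiniteDimensional K W]
      (σ : Representation K SL(2, ZMod 11) W), finrank K W ≤ n →
      finrank K W ≤ 4 * fixDim σ (xM 11) + 2 * fixDim σ (uM 11 1) from key _ V ρ le_rfl
  intro n
  induction n with
  | zero => intro W _ _ _ σ hW; omega
  | succ n ih =>
    intro W _ _ _ σ hW
    by_cases hsum : ∃ v ∈ natW σ, ∃ φ ∈ natW σ.dual, φ (σ (wM 11) v) ≠ 0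
    · obtain ⟨v, hv, φ, hφ, hc⟩ := hsum
      obtain ⟨R, hR, h1, h2, h3, h4⟩ := exists_split σ hv hφ hc
      have := ih R (σ.subrepresentation R hR) (by omega)
      omega
    · push Not at hsum
      exact bound_of_no_summand σ hsum

end Defs

end Eleven

/-- **An element of `SL(2, 11)` fixes at least a sixth in characteristic `11`.** -/
theorem sl2_eleven {K V : Type*} [Field K] [CharP K 11] [IsAlgClosed K] [AddCommGroup V]
    [Module K V] [FiniteDimensional K V] (ρ : Representation K SL(2, ZMod 11) V) : HasFix ρ := by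
  have h := Eleven.bound ρ
  rcases le_total (fixDim ρ (uM 11 1)) (fixDim ρ (xM 11)) with h' | h'
  · exact ⟨xM 11, Eleven.xM_ne_one, by omega⟩
  · exact ⟨uM 11 1, Eleven.uM_ne_one, by omega⟩

end CfsgLib.FixSixth
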