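import Cfsg.Agent.Lib.FixSixth.Basic
import Cfsg.Agent.Lib.GW.SimpleGW
import Cfsg.Agent.Lib.Recog.GW.RankOne
import Cfsg.Agent.Lib.Recog.PGroupImprimitive
import Cfsg.Agent.Lib.Recog.ABProd.Models
import Cfsg.Agent.Lib.InvChar.ConjRank.CentreFreeBasic
import Cfsg.Agent.Lib.S4069.MainBasic
import Cfsg.Agent.Lib.GW.CompFacts
import Cfsg.Agent.Lib.Invol.RankOne
import Cfsg.Agent.Lib.KnownC.AutPSLOut
import Cfsg.Agent.Lib.ClassK.SmallSimple
import Cfsg.Agent.Lib.Classical.SLOrder
import Cfsg.Agent.Lib.Geom.PairStab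
import Cfsg.Prelude.Def_RootSubgroups

/-!
# S5720, reduction to a double cover of `PSL(2, p)`

A group whose soluble radical has index above 120 has a four group, or a non-cyclic group of
order `9` or `25`, or a subgroup mapping onto `PSL(2, p)`, `p ≥ 7`, whose kernel has order twice
an odd number and which has a single involution, central in it.
-/

set_option autoImplicit false
set_option linter.unusedSectionVars false
set_option linter.style.haveILetI false

namespace CfsgLib.FixSixth

open Subgroup

universe u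

/-- The three outcomes of `reduce`. -/
def ReduceGoal (H : Type u) [Group H] : Prop :=
  (∃ a b : H, orderOf a = 2 ∧ orderOf b = 2 ∧ Commute a b ∧ a ≠ b) ∨
  (∃ r, (r = 3 ∨ r = 5) ∧ ∃ a b : H, orderOf a = r ∧ orderOf b = r ∧ Commute a b ∧
    b ∉ Subgroup.zpowers a) ∨
  ∃ (p : ℕ) (_ : Fact p.Prime), 7 ≤ p ∧ ∃ (L : Subgroup H) (z : L)
    (f : L →* Matrix.ProjectiveSpecialLinearGroup (Fin 2) (ZMod p)),
    Function.Surjective f ∧ z ∈ Subgroup.center L ∧ orderOf z = 2 ∧
    (∀ t : L, orderOf t = 2 → t = z) ∧ ∃ m, Odd m ∧ Nat.card f.ker = 2 * m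

variable {H : Type u} [Group H] [Finite H]

/-- The last outcome, from any map onto `PSL(2, p)` with kernel of order twice an odd number. -/
theorem reduce_psl (h2 : ∀ a b : H, orderOf a = 2 → orderOf b = 2 → Commute a b → a = b)
    {Γ : Type u} [Group Γ] [Finite Γ] (j : Γ →* H) (hj : Function.Injective j)
    {p : ℕ} [hp : Fact p.Prime] (h7 : 7 ≤ p)
    (φ : Γ →* Matrix.ProjectiveSpecialLinearGroup (Fin 2) (ZMod p)) (hφ : Function.Surjective φ)
    {m : ℕ} (hm : Odd m) (hker : Nat.card φ.ker = 2 * m) : ReduceGoal H := by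
  haveI : Fact (Nat.Prime 2) := ⟨Nat.prime_two⟩
  have hΓ : ∀ a b : Γ, orderOf a = 2 → orderOf b = 2 → Commute a b → a = b := fun a b ha hb hab =>
    hj (h2 _ _ (by rw [orderOf_injective j hj, ha]) (by rw [orderOf_injective j hj, hb]) (hab.map j))
  have hrK : ∀ E : Subgroup φ.ker, ¬ IsKleinFour E := by
    intro E hE
    haveI := hE
    have ho : ∀ a : E, a ≠ 1 → orderOf ((a : φ.ker) : Γ) = 2 := by
      intro a ha
      rw [orderOf_coe, orderOf_coe]
      have hd := Monoid.order_dvd_exponent a
      rw [hE.exponent_two] at hd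
      exact (Nat.Prime.eq_one_or_self_of_dvd Nat.prime_two _ hd).resolve_left
        (fun h => ha (orderOf_eq_one_iff.1 h))
    have hfour : Nat.card E = 4 := hE.card_four
    obtain ⟨a, ha⟩ : ∃ a : E, a ≠ 1 := by
      by_contra h
      simp only [not_exists, not_not] at h
      haveI : Subsingleton E := ⟨fun a b => (h a).trans (h b).symm⟩
      rw [Nat.card_of_subsingleton (1 : E)] at hfour
      omega
    obtain ⟨b, hb, hba⟩ : ∃ b : E, b ≠ 1 ∧ b ≠ a := by
      by_contra h
      simp only [not_exists, not_and, not_not] at h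
      classical
      haveI := Fintype.ofFinite E
      have hsub : (Finset.univ : Finset E) ⊆ {1, a} := fun x _ => by
        by_cases hx : x = 1
        · simp [hx]
        · simp [h x hx]
      have := (Finset.card_le_card hsub).trans Finset.card_le_two
      rw [Finset.card_univ, ← Nat.card_eq_fintype_card, hfour] at this
      omega
    refine hba (Subtype.ext (Subtype.ext (hΓ _ _ (ho a ha) (ho b hb) ?_))).symm
    have hsq : ∀ x : E, x * x = 1 := fun x => by
      have h := Monoid.pow_exponent_eq_one x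
      rw [hE.exponent_two, pow_two] at h
      exact h
    exact congrArg (fun x : E => ((x : φ.ker) : Γ)) (show a * b = b * a from
      calc a * b = (a * b)⁻¹ := (inv_eq_of_mul_eq_one_right (hsq (a * b))).symm
        _ = b⁻¹ * a⁻¹ := mul_inv_rev a b
        _ = b * a := by
          rw [inv_eq_of_mul_eq_one_right (hsq a), inv_eq_of_mul_eq_one_right (hsq b)])
  obtain ⟨z, hz⟩ := exists_prime_orderOf_dvd_card' (G := φ.ker) 2 (by rw [hker]; exact dvd_mul_right 2 m)
  have hzo : orderOf (z : Γ) = 2 := by rw [orderOf_coe, hz]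
  -- Frattini: the centraliser of `z` maps onto `PSL(2, p)`
  let C : Subgroup Γ := centralizer ({(z : Γ)} : Set Γ)
  have hsurj : Function.Surjective (φ.comp C.subtype) := by
    intro y
    obtain ⟨g, rfl⟩ := hφ y
    have hz' : g * (z : Γ) * g⁻¹ ∈ φ.ker := (MonoidHom.normal_ker φ).conj_mem _ z.2 g
    have hz'o : orderOf (⟨_, hz'⟩ : φ.ker) = 2 := by
      rw [← orderOf_coe]
      exact (CfsgLib.Invol.orderOf_conj_eq _ _).trans hzo
    obtain ⟨k, hk⟩ := isConj_iff.1 (CfsgLib.Invol.rankOne_isConj hrK hz hz'o)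
    have hk' : (k : Γ) * z * (k : Γ)⁻¹ = g * z * g⁻¹ := congrArg Subtype.val hk
    have hmem : (k : Γ)⁻¹ * g ∈ C := by
      rw [mem_centralizer_singleton_iff]
      calc (k : Γ)⁻¹ * g * z = (k : Γ)⁻¹ * (g * z * g⁻¹) * g := by group
        _ = (k : Γ)⁻¹ * ((k : Γ) * z * (k : Γ)⁻¹) * g := by rw [hk']
        _ = z * ((k : Γ)⁻¹ * g) := by group
    refine ⟨⟨_, hmem⟩, ?_⟩
    show φ ((k : Γ)⁻¹ * g) = φ g
    rw [map_mul, map_inv, MonoidHom.mem_ker.1 k.2, inv_one, one_mul]
  have hzC : (z : Γ) ∈ C := mem_centralizer_singleton_iff.2 rfl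
  let e : C ≃* C.map j := C.equivMapOfInjective j hj
  let f : ↥(C.map j) →* Matrix.ProjectiveSpecialLinearGroup (Fin 2) (ZMod p) :=
    (φ.comp C.subtype).comp e.symm.toMonoidHom
  refine Or.inr (Or.inr ⟨p, hp, h7, C.map j, e ⟨z, hzC⟩, f, hsurj.comp e.symm.surjective, ?_, ?_,
    ?_, ?_⟩)
  · rw [mem_center_iff]
    intro g
    obtain ⟨g, rfl⟩ := e.surjective g
    rw [← map_mul, ← map_mul]
    exact congrArg e (Subtype.ext (mem_centralizer_singleton_iff.1 g.2))
  · rw [e.orderOf_eq, Subgroup.orderOf_mk, hzo]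
  · intro t ht
    obtain ⟨t, rfl⟩ := e.surjective t
    rw [e.orderOf_eq, ← orderOf_coe] at ht
    exact congrArg e (Subtype.ext (hΓ _ _ ht hzo (mem_centralizer_singleton_iff.1 t.2)))
  · let ι : ↥f.ker →* ↥φ.ker :=
      ((C.subtype.comp e.symm.toMonoidHom).comp f.ker.subtype).codRestrict φ.ker fun x => x.2
    have hι : Function.Injective ι := fun a b h => by
      have h0 := congrArg (fun v : ↥φ.ker => (v : Γ)) h
      have h' : ((e.symm (a : ↥(C.map j)) : C) : Γ) = (e.symm (b : ↥(C.map j)) : C) := h0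
      exact Subtype.ext (e.symm.injective (Subtype.ext h'))
    have hd : Nat.card f.ker ∣ 2 * m := hker ▸ Subgroup.card_dvd_of_injective ι hι
    have hzf : e ⟨z, hzC⟩ ∈ f.ker := by
      show φ ((e.symm (e ⟨z, hzC⟩) : C) : Γ) = 1
      rw [e.symm_apply_apply]
      exact z.2
    have h2d : 2 ∣ Nat.card f.ker := by
      have h := Subgroup.orderOf_dvd_natCard f.ker hzf
      rwa [e.orderOf_eq, Subgroup.orderOf_mk, hzo] at h
    obtain ⟨m', hm'⟩ := h2d
    refine ⟨m', hm.of_dvd_nat ?_, hm'⟩
    rw [hm'] at hd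
    exact Nat.dvd_of_mul_dvd_mul_left two_pos hd

omit [Finite H] in
/-- An elementary abelian image of order `r²` forces a non-cyclic group of order `r²`. -/
theorem exists_rr_of_map {X : Type u} [Group X] [Finite X] (j : X →* H) (hj : Function.Injective j)
    {Q : Type*} [Group Q] [Finite Q] (g : X →* Q) (hg : Function.Surjective g)
    {r : ℕ} [Fact r.Prime] (hr : r ≠ 2) {a b : Q} (ha : orderOf a = r) (hb : orderOf b = r)
    (hab : Commute a b) (hba : b ∉ zpowers a) :
    ∃ a b : H, orderOf a = r ∧ orderOf b = r ∧ Commute a b ∧ b ∉ Subgroup.zpowers a := by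
  by_contra hno
  have hX : ∀ x y : X, orderOf x = r → orderOf y = r → Commute x y → y ∈ zpowers x := by
    intro x y hx hy hxy
    by_contra hyx
    refine hno ⟨j x, j y, ?_, ?_, hxy.map j, ?_⟩
    · rw [orderOf_injective j hj, hx]
    · rw [orderOf_injective j hj, hy]
    · rintro ⟨k, hk⟩
      exact hyx ⟨k, hj (by rw [map_zpow]; exact hk)⟩
  let E : Subgroup Q := closure {a, b}
  have hcomm : IsMulCommutative E := by
    refine Subgroup.isMulCommutative_closure ?_
    rintro x (rfl | rfl) y (rfl | rfl) <;> first | rfl | exact hab.eq | exact hab.eq.symm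
  have hexp : ∀ x ∈ E, x ^ r = 1 := by
    intro x hx
    induction hx using Subgroup.closure_induction with
    | mem x hx =>
      rcases hx with rfl | rfl
      · exact orderOf_dvd_iff_pow_eq_one.1 ha.dvd
      · exact orderOf_dvd_iff_pow_eq_one.1 hb.dvd
    | one => exact one_pow _
    | mul x y hxE hyE hx hy =>
      have hc : Commute x y := congrArg Subtype.val (mul_comm' (⟨x, hxE⟩ : E) ⟨y, hyE⟩)
      rw [hc.mul_pow, hx, hy, one_mul]
    | inv x _ hx => rw [inv_pow, hx, inv_one]
  have hEp : IsPGroup r E := fun x => ⟨1, Subtype.ext (by rw [pow_one]; exact hexp x x.2)⟩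
  let Y : Subgroup X := E.comap g
  let g' : Y →* E := (g.comp Y.subtype).codRestrict E fun x => x.2
  have hg' : Function.Surjective g' := fun e => by
    obtain ⟨x, hx⟩ := hg e.1
    exact ⟨⟨x, show g x ∈ E from hx.symm ▸ e.2⟩, Subtype.ext hx⟩
  obtain ⟨R⟩ := (inferInstance : Nonempty (Sylow r Y))
  have hRY : ∀ x y : ↥(R : Subgroup Y), orderOf x = r → orderOf y = r → Commute x y → y ∈ zpowers x := by
    intro x y hx hy hxy
    have h := hX ((x : Y) : X) ((y : Y) : X) (by rw [orderOf_coe, orderOf_coe, hx])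
      (by rw [orderOf_coe, orderOf_coe, hy]) (congrArg (fun v : ↥(R : Subgroup Y) => ((v : Y) : X)) hxy)
    obtain ⟨k, hk⟩ := h
    exact ⟨k, Subtype.ext (Subtype.ext (by simpa using hk))⟩
  have hRc : IsCyclic ↥(R : Subgroup Y) := by
    refine (CfsgLib.Solvable.isCyclic_or_quaternion_of_unique R.2 fun A B hA hB => ?_).resolve_right
      fun h => hr h.1
    obtain ⟨x, hx⟩ := exists_prime_orderOf_dvd_card' (G := A) r hA.symm.dvd
    obtain ⟨y, hy⟩ := exists_prime_orderOf_dvd_card' (G := B) r hB.symm.dvd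
    rw [← orderOf_coe] at hx hy
    have hA' : A = zpowers (x : ↥(R : Subgroup Y)) :=
      (eq_of_le_of_card_ge (zpowers_le.2 x.2) (by rw [Nat.card_zpowers, hx, hA])).symm
    have hB' : B = zpowers (y : ↥(R : Subgroup Y)) :=
      (eq_of_le_of_card_ge (zpowers_le.2 y.2) (by rw [Nat.card_zpowers, hy, hB])).symm
    -- a central element of order `r`
    haveI : Nontrivial ↥(R : Subgroup Y) :=
      ⟨⟨x, 1, fun h => by rw [h, orderOf_one] at hx; exact (Fact.out : r.Prime).ne_one hx.symm⟩⟩
    have := R.2.center_nontrivial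
    obtain ⟨k, hk, hk'⟩ := (R.2.to_subgroup (center ↥(R : Subgroup Y))).nontrivial_iff_card.1 this
    obtain ⟨c, hc⟩ := exists_prime_orderOf_dvd_card' (G := center ↥(R : Subgroup Y)) r
      (hk' ▸ dvd_pow_self r hk.ne')
    rw [← orderOf_coe] at hc
    have hz : ∀ w : ↥(R : Subgroup Y), orderOf w = r → zpowers w = zpowers (c : ↥(R : Subgroup Y)) :=
      fun w hw => eq_of_le_of_card_ge
        (zpowers_le.2 (hRY _ w hc hw (mem_center_iff.1 c.2 w).symm))
        (by rw [Nat.card_zpowers, Nat.card_zpowers, hc, hw])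
    rw [hA', hB', hz _ hx, hz _ hy]
  have htop : (R.mapSurjective hg' : Subgroup E) = ⊤ :=
    (R.mapSurjective hg').3 ((IsPGroup.of_equiv hEp Subgroup.topEquiv.symm)) le_top |>.symm
  have hsurj : Function.Surjective (g'.comp (R : Subgroup Y).subtype) := fun e => by
    have he : e ∈ (R.mapSurjective hg' : Subgroup E) := by rw [htop]; trivial
    rw [Sylow.coe_mapSurjective] at he
    obtain ⟨x, hx, rfl⟩ := he
    exact ⟨⟨x, hx⟩, rfl⟩
  haveI : IsCyclic E := isCyclic_of_surjective _ hsurj
  have haE : a ∈ E := subset_closure (Or.inl rfl)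
  have hbE : b ∈ E := subset_closure (Or.inr rfl)
  obtain ⟨v, hv⟩ := IsCyclic.exists_generator (α := E)
  have hcard : Nat.card E ≤ r := by
    rw [← orderOf_eq_card_of_forall_mem_zpowers hv]
    exact Nat.le_of_dvd (Fact.out : r.Prime).pos
      (orderOf_dvd_of_pow_eq_one (Subtype.ext (hexp v v.2)))
  have heq : zpowers a = E := eq_of_le_of_card_ge (zpowers_le.2 haE)
    (by rw [Nat.card_zpowers, ha]; exact hcard)
  exact hba (heq.symm ▸ hbE)

omit [Finite H] in
/-- The unipotent element of `SL(2, F)`. -/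
def redUnip {F : Type*} [CommRing F] (c : F) : Matrix.SpecialLinearGroup (Fin 2) F :=
  ⟨!![1, c; 0, 1], by simp [Matrix.det_fin_two_of]⟩

theorem redUnip_mul {F : Type*} [CommRing F] (c d : F) : redUnip c * redUnip d = redUnip (c + d) :=
  Subtype.ext (by
    rw [Matrix.SpecialLinearGroup.coe_mul]
    simp [redUnip, add_comm])

theorem redUnip_inj {F : Type*} [CommRing F] {c d : F} (h : redUnip c = redUnip d) : c = d := by
  simpa [redUnip] using congrArg (fun M : Matrix.SpecialLinearGroup (Fin 2) F => M.1 0 1) h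

theorem redUnip_pow {F : Type*} [CommRing F] (c : F) (n : ℕ) : redUnip c ^ n = redUnip (n • c) := by
  induction n with
  | zero => rw [pow_zero, zero_smul]; exact Subtype.ext (by simp [redUnip, Matrix.one_fin_two])
  | succ n ih => rw [pow_succ, ih, redUnip_mul, succ_nsmul]

/-- `PSL(2, q)` with `q` a proper power of a prime `r` has a non-cyclic group of order `r²`. -/
theorem exists_redUnip_pair {F : Type*} [Field F] [Fintype F] {r : ℕ} [Fact r.Prime] [CharP F r]
    (hq : r < Fintype.card F) :
    ∃ a b : Matrix.SpecialLinearGroup (Fin 2) F, orderOf a = r ∧ orderOf b = r ∧ Commute a b ∧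
      b ∉ zpowers a := by
  classical
  obtain ⟨c, hc⟩ : ∃ c : F, ∀ n : ℕ, (n : F) ≠ c := by
    by_contra h
    simp only [not_exists, not_forall, not_not] at h
    have hs : Function.Surjective (fun n : ZMod r => (ZMod.castHom (dvd_refl r) F) n) := fun c => by
      obtain ⟨n, hn⟩ := h c
      exact ⟨n, by simpa using hn⟩
    have := Fintype.card_le_of_surjective _ hs
    rw [ZMod.card] at this
    omega
  have ho : ∀ d : F, d ≠ 0 → orderOf (redUnip d) = r := fun d hd => by
    refine orderOf_eq_prime ?_ fun h => hd ?_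
    · rw [redUnip_pow, nsmul_eq_mul, CharP.cast_eq_zero, zero_mul]
      exact Subtype.ext (by simp [redUnip, Matrix.one_fin_two])
    · simpa [redUnip, Matrix.one_fin_two] using
        congrArg (fun M : Matrix.SpecialLinearGroup (Fin 2) F => M.1 0 1) h
  have hc0 : c ≠ 0 := fun h => hc 0 (by rw [Nat.cast_zero, h])
  refine ⟨redUnip 1, redUnip c, ho 1 one_ne_zero, ho c hc0, ?_, ?_⟩
  · rw [Commute, SemiconjBy, redUnip_mul, redUnip_mul, add_comm]
  · intro h
    obtain ⟨n, hn⟩ := (isOfFinOrder_of_finite (redUnip (1 : F))).mem_zpowers_iff_mem_range_orderOf.1 h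
      |> Finset.mem_image.1
    exact hc n (by have := redUnip_inj (((redUnip_pow (1 : F) n).symm.trans hn.2)); rwa [nsmul_one] at this)

/-- Two independent commuting elements of order three in `A₇`. -/
theorem exists_alt_pair : ∃ a b : alternatingGroup (Fin 7), orderOf a = 3 ∧ orderOf b = 3 ∧
    Commute a b ∧ b ∉ zpowers a := by
  haveI : Fact (Nat.Prime 3) := ⟨Nat.prime_three⟩
  let a : alternatingGroup (Fin 7) := ⟨c[0, 1, 2], Equiv.Perm.mem_alternatingGroup.2 (by decide)⟩
  let b : alternatingGroup (Fin 7) := ⟨c[3, 4, 5], Equiv.Perm.mem_alternatingGroup.2 (by decide)⟩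
  have ha : orderOf a = 3 := orderOf_eq_prime (by decide) (by decide)
  have hb : orderOf b = 3 := orderOf_eq_prime (by decide) (by decide)
  have hba : b ∉ zpowers a := by
    intro h
    obtain ⟨i, hi⟩ := Finset.mem_image.1
      ((isOfFinOrder_of_finite a).mem_zpowers_iff_mem_range_orderOf.1 h)
    rw [ha, Finset.mem_range] at hi
    obtain ⟨hi, hi'⟩ := hi
    revert hi'
    interval_cases i <;> decide
  exact ⟨a, b, ha, hb, show a * b = b * a by decide, hba⟩

/-- A section `PSL(2, 5)` above the soluble radical bounds its index by 120. -/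
theorem index_le_of_five (X : Subgroup H) [X.Normal] [Nontrivial X] (hP : commutator X = ⊤)
    (hsol : Group.IsSolvable (H ⧸ X)) {F : Type} [Field F] [Fintype F]
    (hF : Fintype.card F = 5)
    (e : (X ⧸ Cfsg.oddCore X) ≃* Matrix.SpecialLinearGroup (Fin 2) F) :
    (Cfsg.solvableRadical H).index ≤ 120 := by
  classical
  obtain ⟨hRn, hRs⟩ := CfsgLib.InvChar.ConjRank.solvableRadical_spec (G := H)
  haveI := hRn
  set R := Cfsg.solvableRadical H with hR
  -- the quotient has no soluble normal subgroup
  have hQ : ∀ N : Subgroup (H ⧸ R), N.Normal → Group.IsSolvable N → N = ⊥ := by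
    intro N hN hNs
    haveI := hN
    have hs : Group.IsSolvable (N.comap (QuotientGroup.mk' R)) := by
      let ψ : ↥(N.comap (QuotientGroup.mk' R)) →* N :=
        ((QuotientGroup.mk' R).comp (N.comap (QuotientGroup.mk' R)).subtype).codRestrict N fun x => x.2
      refine Group.isSolvable_of_ker_le_range
        (Subgroup.inclusion (show R ≤ N.comap (QuotientGroup.mk' R) from fun x hx => by
          show QuotientGroup.mk' R x ∈ N
          rw [show QuotientGroup.mk' R x = 1 from (QuotientGroup.eq_one_iff x).2 hx]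
          exact N.one_mem)) ψ ?_
      intro x hx
      exact ⟨⟨x.1, (QuotientGroup.eq_one_iff x.1).1 (congrArg Subtype.val (MonoidHom.mem_ker.1 hx))⟩,
        Subtype.ext rfl⟩
    have hle := CfsgLib.InvChar.ConjRank.le_solvableRadical (hN.comap _) hs
    rw [eq_bot_iff]
    intro x hx
    obtain ⟨h, rfl⟩ := QuotientGroup.mk'_surjective R x
    exact mem_bot.2 ((QuotientGroup.eq_one_iff h).2 (hle hx))
  set q := QuotientGroup.mk' R with hq
  set M : Subgroup (H ⧸ R) := X.map q with hM
  haveI hMn : M.Normal := Subgroup.Normal.map inferInstance q (QuotientGroup.mk'_surjective R)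
  let ρ : X →* M := q.subgroupMap X
  have hρ : Function.Surjective ρ := q.subgroupMap_surjective X
  haveI : (Cfsg.oddCore X).Normal := CfsgLib.Solvable.pPrimeCore_normal 2 X
  -- the core dies in the quotient
  have hO : Cfsg.oddCore X ≤ ρ.ker := by
    haveI : (Cfsg.oddCore X).Characteristic := CfsgLib.Solvable.pPrimeCore_characteristic 2 X
    haveI : ((Cfsg.oddCore X).map X.subtype).Normal := inferInstance
    have hs : Group.IsSolvable ↥((Cfsg.oddCore X).map X.subtype) := by
      haveI := CfsgLib.GW.Nilp.isSolvable_oddCore X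
      exact Group.isSolvable_of_surjective
        (f := X.subtype.subgroupMap (Cfsg.oddCore X)) (MonoidHom.subgroupMap_surjective _ _)
    intro x hx
    rw [MonoidHom.mem_ker]
    exact Subtype.ext ((QuotientGroup.eq_one_iff (x : H)).2
      (CfsgLib.InvChar.ConjRank.le_solvableRadical inferInstance hs ⟨x, hx, rfl⟩))
  let σ : Matrix.SpecialLinearGroup (Fin 2) F →* M :=
    (QuotientGroup.lift (Cfsg.oddCore X) ρ hO).comp e.symm.toMonoidHom
  have hσ : Function.Surjective σ := fun y => by
    obtain ⟨x, rfl⟩ := hρ y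
    exact ⟨e (QuotientGroup.mk' _ x), by simp [σ]⟩
  haveI : Nontrivial M := by
    rw [nontrivial_iff_ne_bot]
    intro hb
    refine CfsgLib.S4069.not_solvable_of_perfect hP ?_
    haveI := hRs
    exact Group.isSolvable_of_isSolvable_injective (Subgroup.inclusion_injective
      (show X ≤ R from fun x hx => (QuotientGroup.eq_one_iff x).1
        (mem_bot.1 (hb ▸ mem_map_of_mem q hx))))
  have hZM : center M = ⊥ := by
    haveI : ((center M).map M.subtype).Normal := inferInstance
    haveI : Group.IsSolvable (center M) := isSolvable_of_comm fun a b => Subtype.ext (mem_center_iff.1 b.2 a)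
    have := hQ _ inferInstance (Group.isSolvable_of_surjective
      (f := M.subtype.subgroupMap (center M)) (MonoidHom.subgroupMap_surjective _ _))
    exact (map_eq_bot_iff_of_injective _ M.subtype_injective).1 this
  have hc : center (Matrix.SpecialLinearGroup (Fin 2) F) ≤ σ.ker := by
    intro x hx
    have : σ x ∈ center M := by
      rw [mem_center_iff]
      intro y
      obtain ⟨y, rfl⟩ := hσ y
      rw [← map_mul, ← map_mul, mem_center_iff.1 hx y]
    rw [hZM, mem_bot] at this
    exact MonoidHom.mem_ker.2 this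
  let τ : Matrix.ProjectiveSpecialLinearGroup (Fin 2) F →* M := QuotientGroup.lift _ σ hc
  have hτ : Function.Surjective τ := fun y => by
    obtain ⟨x, rfl⟩ := hσ y
    exact ⟨QuotientGroup.mk' _ x, rfl⟩
  haveI := CfsgLib.ClassK.isSimpleGroup_psl_two (F := F) (by omega)
  have hτi : Function.Injective τ := by
    rw [← MonoidHom.ker_eq_bot_iff]
    refine ((MonoidHom.normal_ker τ).eq_bot_or_eq_top).resolve_right fun h => ?_
    obtain ⟨a, b, hne⟩ := exists_pair_ne M
    obtain ⟨a, rfl⟩ := hτ a
    obtain ⟨b, rfl⟩ := hτ b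
    have ha : a ∈ τ.ker := by rw [h]; trivial
    have hb : b ∈ τ.ker := by rw [h]; trivial
    exact hne ((MonoidHom.mem_ker.1 ha).trans (MonoidHom.mem_ker.1 hb).symm)
  let eτ := MulEquiv.ofBijective τ ⟨hτi, hτ⟩
  -- the centraliser of the section is trivial
  have hC : centralizer (M : Set (H ⧸ R)) = ⊥ := by
    set C := centralizer (M : Set (H ⧸ R)) with hCdef
    haveI : C.Normal := Subgroup.normal_centralizer
    refine hQ C inferInstance ?_
    haveI : Group.IsSolvable ((H ⧸ R) ⧸ M) := by
      haveI := hsol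
      refine Group.isSolvable_of_surjective
        (f := QuotientGroup.lift X ((QuotientGroup.mk' M).comp q) (fun x hx => ?_)) ?_
      · rw [MonoidHom.mem_ker]
        exact (QuotientGroup.eq_one_iff _).2 (mem_map_of_mem q hx)
      · intro y
        obtain ⟨y, rfl⟩ := QuotientGroup.mk'_surjective M y
        obtain ⟨h, rfl⟩ := QuotientGroup.mk'_surjective R y
        exact ⟨QuotientGroup.mk' X h, rfl⟩
    refine Group.isSolvable_of_isSolvable_injective
      (f := (QuotientGroup.mk' M).comp C.subtype) ?_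
    rw [← MonoidHom.ker_eq_bot_iff, eq_bot_iff]
    intro x hx
    have hxM : (x : H ⧸ R) ∈ M := (QuotientGroup.eq_one_iff _).1 hx
    have : (⟨x, hxM⟩ : M) ∈ center M :=
      mem_center_iff.2 fun y => Subtype.ext (mem_centralizer_iff.1 x.2 y y.2)
    rw [hZM, mem_bot] at this
    exact mem_bot.2 (Subtype.ext (congrArg (fun v : M => (v : H ⧸ R)) this))
  have hinj : Function.Injective (MulAut.conjNormal (H := M)) := by
    rw [← MonoidHom.ker_eq_bot_iff, eq_bot_iff, ← hC]
    intro x hx
    rw [mem_centralizer_iff]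
    intro y hy
    have := congrArg Subtype.val (DFunLike.congr_fun (MonoidHom.mem_ker.1 hx) ⟨y, hy⟩)
    rw [MulAut.conjNormal_apply] at this
    exact (mul_inv_eq_iff_eq_mul.1 this).symm
  haveI : Finite (MulAut M) := Finite.of_injective (fun f : MulAut M => (f : M → M)) DFunLike.coe_injective
  have h1 : R.index ≤ Nat.card (MulAut M) := by
    rw [index_eq_card]
    exact Nat.card_le_card_of_injective _ hinj
  have h2 : Nat.card (MulAut M) = Nat.card (MulAut (Matrix.ProjectiveSpecialLinearGroup (Fin 2) F)) :=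
    Nat.card_congr (MulAut.congr eτ.symm).toEquiv
  rw [h2, CfsgLib.KnownC.card_mulAut_psl le_rfl, if_pos rfl,
    CfsgLib.Recog.ABProd.card_ringAut_of_prime (by norm_num : Nat.Prime 5) hF,
    CfsgLib.Geom.Moebius.card_pgl_two, hF] at h1
  omega

/-- Reduction of S5720 to the minimal configuration. -/
theorem reduce (hR : 120 < (Cfsg.solvableRadical H).index) :
  (∃ a b : H, orderOf a = 2 ∧ orderOf b = 2 ∧ Commute a b ∧ a ≠ b) ∨
  (∃ r, (r = 3 ∨ r = 5) ∧ ∃ a b : H, orderOf a = r ∧ orderOf b = r ∧ Commute a b ∧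
    b ∉ Subgroup.zpowers a) ∨
  ∃ (p : ℕ) (_ : Fact p.Prime), 7 ≤ p ∧ ∃ (L : Subgroup H) (z : L)
    (f : L →* Matrix.ProjectiveSpecialLinearGroup (Fin 2) (ZMod p)),
    Function.Surjective f ∧ z ∈ Subgroup.center L ∧ orderOf z = 2 ∧
    (∀ t : L, orderOf t = 2 → t = z) ∧ ∃ m, Odd m ∧ Nat.card f.ker = 2 * m := by
  show ReduceGoal H
  classical
  by_cases h2' : ∃ a b : H, orderOf a = 2 ∧ orderOf b = 2 ∧ Commute a b ∧ a ≠ b
  · exact Or.inl h2'
  have h2 : ∀ a b : H, orderOf a = 2 → orderOf b = 2 → Commute a b → a = b :=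
    fun a b ha hb hab => by_contra fun hne => h2' ⟨a, b, ha, hb, hab, hne⟩
  have hns : ¬ Group.IsSolvable H := fun hs => by
    haveI := hs
    have : (⊤ : Subgroup H) ≤ Cfsg.solvableRadical H :=
      CfsgLib.InvChar.ConjRank.le_solvableRadical inferInstance inferInstance
    rw [top_le_iff.1 this, index_top] at hR
    omega
  obtain ⟨k, hk⟩ := CfsgLib.Recog.GW.derivedSeries_stable (G := H)
  set X : Subgroup H := derivedSeries H k with hX
  haveI : X.Normal := derivedSeries_normal H k
  have hP : commutator X = ⊤ := map_injective X.subtype_injective (by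
    rw [map_subtype_commutator, ← MonoidHom.range_eq_map, range_subtype]
    exact hk)
  haveI hXnt : Nontrivial X := (nontrivial_iff_ne_bot X).2 fun h => hns ⟨⟨k, h⟩⟩
  have hsol : Group.IsSolvable (H ⧸ X) := ⟨⟨k, by
    rw [← map_derivedSeries_eq (QuotientGroup.mk'_surjective X) k, Subgroup.map_eq_bot_iff,
      QuotientGroup.ker_mk']⟩⟩
  have hrank : Cfsg.PRankLE 2 1 X := by
    intro A hA hA2
    by_contra hlt
    have ho : ∀ a : A, a ≠ 1 → orderOf ((a : X) : H) = 2 := fun a ha => by
      rw [orderOf_coe, orderOf_coe]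
      exact orderOf_eq_prime (Subtype.ext (by simpa using hA2 a a.2)) ha
    obtain ⟨a, ha⟩ : ∃ a : A, a ≠ 1 := by
      by_contra h
      simp only [not_exists, not_not] at h
      haveI : Subsingleton A := ⟨fun a b => (h a).trans (h b).symm⟩
      rw [Nat.card_of_subsingleton (1 : A)] at hlt
      omega
    apply hlt
    haveI := Fintype.ofFinite A
    have hsub : (Finset.univ : Finset A) ⊆ {1, a} := fun x _ => by
      by_cases hx : x = 1
      · simp [hx]
      · have hc : Commute ((x : X) : H) ((a : X) : H) :=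
          congrArg (fun v : A => ((v : X) : H)) (mul_comm' x a)
        have := h2 _ _ (ho x hx) (ho a ha) hc
        simp [show x = a from Subtype.ext (Subtype.ext this)]
    have := (Finset.card_le_card hsub).trans Finset.card_le_two
    rw [Finset.card_univ, ← Nat.card_eq_fintype_card] at this
    omega
  have heven : Even (Nat.card X) := by
    rw [← Nat.not_odd_iff_even]
    exact fun ho => CfsgLib.S4069.not_solvable_of_perfect hP (CfsgLib.FT.odd_order_solvable ho)
  haveI hOn : (Cfsg.oddCore X).Normal := CfsgLib.Solvable.pPrimeCore_normal 2 X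
  have hodd : Odd (Nat.card (Cfsg.oddCore X)) := CfsgLib.Invol.odd_card_oddCore X
  rcases CfsgLib.Recog.GW.rank_one_perfect
      (CfsgLib.GW.perfectDihedral_of_simpleGW CfsgLib.GW.simpleGW) ⟨hP⟩ hrank heven with
    ⟨F, _, _, hFo, hF3, ⟨e⟩⟩ | ⟨-, ⟨e⟩, -⟩
  · obtain ⟨r, hr⟩ := CharP.exists F
    obtain ⟨n, hrp, hn⟩ := FiniteField.card F r
    haveI := Fact.mk hrp
    have hr2 : r ≠ 2 := by
      rintro rfl
      rw [hn] at hFo
      exact (Nat.not_even_iff_odd.2 hFo) (Nat.even_pow.2 ⟨even_two, n.ne_zero⟩)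
    by_cases h7 : 7 ≤ r
    · let π : X →* Matrix.SpecialLinearGroup (Fin 2) F :=
        e.toMonoidHom.comp (QuotientGroup.mk' (Cfsg.oddCore X))
      have hπ : Function.Surjective π := e.surjective.comp (QuotientGroup.mk'_surjective _)
      have hπk : π.ker = Cfsg.oddCore X := by
        ext x
        simp [π, MonoidHom.mem_ker]
      let ι : Matrix.SpecialLinearGroup (Fin 2) (ZMod r) →* Matrix.SpecialLinearGroup (Fin 2) F :=
        Matrix.SpecialLinearGroup.map (ZMod.castHom (dvd_refl r) F)
      have hι : Function.Injective ι := fun a b h => Subtype.ext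
        (Matrix.map_injective (ZMod.castHom (dvd_refl r) F).injective (congrArg Subtype.val h))
      let Γ : Subgroup X := ι.range.comap π
      let φ₀ : Γ →* Matrix.SpecialLinearGroup (Fin 2) (ZMod r) :=
        (MonoidHom.ofInjective hι).symm.toMonoidHom.comp
          ((π.comp Γ.subtype).codRestrict ι.range fun x => x.2)
      have hφ₀ : ∀ x : Γ, ι (φ₀ x) = π x := fun x => by
        exact congrArg Subtype.val ((MonoidHom.ofInjective hι).apply_symm_apply _)
      have hφ₀s : Function.Surjective φ₀ := fun y => by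
        obtain ⟨x, hx⟩ := hπ (ι y)
        refine ⟨⟨x, show π x ∈ ι.range from ⟨y, hx.symm⟩⟩, hι ?_⟩
        rw [hφ₀]
        exact hx
      have hφ₀k : Nat.card φ₀.ker = Nat.card (Cfsg.oddCore X) := by
        have : φ₀.ker.map Γ.subtype = π.ker := by
          ext x
          constructor
          · rintro ⟨x, hx, rfl⟩
            rw [MonoidHom.mem_ker]
            show π x = 1
            rw [← hφ₀, MonoidHom.mem_ker.1 hx, map_one]
          · intro hx
            refine ⟨⟨x, show π x ∈ ι.range by rw [MonoidHom.mem_ker.1 hx]; exact one_mem _⟩, ?_, rfl⟩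
            rw [SetLike.mem_coe, MonoidHom.mem_ker]
            exact hι (by rw [hφ₀, map_one]; exact MonoidHom.mem_ker.1 hx)
        rw [← hπk, ← this, card_map_of_injective Γ.subtype_injective]
      let φ : Γ →* Matrix.ProjectiveSpecialLinearGroup (Fin 2) (ZMod r) :=
        (QuotientGroup.mk' _).comp φ₀
      refine reduce_psl h2 (X.subtype.comp Γ.subtype)
        (X.subtype_injective.comp Γ.subtype_injective) h7 φ
        ((QuotientGroup.mk'_surjective _).comp hφ₀s) hodd ?_
      have hk' : φ.ker = (center (Matrix.SpecialLinearGroup (Fin 2) (ZMod r))).comap φ₀ := by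
        rw [← MonoidHom.comap_ker, QuotientGroup.ker_mk']
      have h1 := φ.ker.index_mul_card
      have h3 := φ₀.ker.index_mul_card
      have h4 := (center (Matrix.SpecialLinearGroup (Fin 2) (ZMod r))).index_mul_card
      have h5 : φ.ker.index = (center (Matrix.SpecialLinearGroup (Fin 2) (ZMod r))).index := by
        rw [hk', index_comap_of_surjective _ hφ₀s]
      have h6 : φ₀.ker.index = Nat.card (Matrix.SpecialLinearGroup (Fin 2) (ZMod r)) := by
        rw [index_ker, MonoidHom.range_eq_top.2 hφ₀s, card_top]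
      have hZ : Nat.card (center (Matrix.SpecialLinearGroup (Fin 2) (ZMod r))) = 2 := by
        rw [CfsgLib.Classical.card_center_sl, Fintype.card_fin, ZMod.card]
        have : 2 ∣ r - 1 := by
          have := hrp.eq_two_or_odd'.resolve_left hr2
          obtain ⟨t, rfl⟩ := this
          exact ⟨t, by omega⟩
        exact Nat.gcd_eq_left this
      rw [h6, hφ₀k, ← h4, hZ] at h3
      rw [h5, ← h3, mul_assoc] at h1
      exact Nat.eq_of_mul_eq_mul_left (Nat.pos_of_ne_zero index_ne_zero_of_finite) h1
    · by_cases hq : r < Fintype.card F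
      · obtain ⟨a, b, ha, hb, hab, hba⟩ := exists_redUnip_pair hq
        refine Or.inr (Or.inl ⟨r, ?_, exists_rr_of_map X.subtype X.subtype_injective
          (e.toMonoidHom.comp (QuotientGroup.mk' (Cfsg.oddCore X)))
          (e.surjective.comp (QuotientGroup.mk'_surjective _)) hr2 ha hb hab hba⟩)
        have := hrp.two_le
        interval_cases r <;> first | tauto | norm_num at hrp
      · exfalso
        have h5 : Fintype.card F = 5 := by
          have h1 : r ^ 1 ≤ r ^ (n : ℕ) := Nat.pow_le_pow_right hrp.pos n.pos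
          rw [pow_one, ← hn] at h1
          have h2 : Fintype.card F = r := by omega
          have h4 := hrp.two_le
          interval_cases r <;> first | omega | norm_num at hrp
        exact absurd (index_le_of_five X hP hsol h5 e) (by omega)
  · haveI : Fact (Nat.Prime 3) := ⟨Nat.prime_three⟩
    obtain ⟨a, b, ha, hb, hab, hba⟩ := exists_alt_pair
    exact Or.inr (Or.inl ⟨3, Or.inl rfl, exists_rr_of_map X.subtype X.subtype_injective
      (e.toMonoidHom.comp ((QuotientGroup.mk' _).comp (QuotientGroup.mk' (Cfsg.oddCore X))))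
      (e.surjective.comp ((QuotientGroup.mk'_surjective _).comp (QuotientGroup.mk'_surjective _)))
      (by norm_num) ha hb hab hba⟩)

end CfsgLib.FixSixth
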