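import Cfsg.Agent.Lib.FixSixth.SL2Elem
import Cfsg.Agent.Lib.FixSixth.Averaging

/-!
# The order three element fixes a sixth of every cross-characteristic module of `SL(2, p)` (S5720)

`sl2_six`: for `p ≥ 7` and a field in which `2`, `3` and `p` are invertible, `xM p` fixes at least
one sixth of every finite-dimensional representation of `SL(2, p)`.
-/

set_option autoImplicit false

namespace CfsgLib.FixSixth

open scoped MatrixGroups
open Module

variable {p : ℕ} [hp : Fact p.Prime] {K V : Type*} [Field K] [AddCommGroup V] [Module K V]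

/-- The subgroup of elements fixing a vector. -/
def fixer {G : Type*} [Group G] (ρ : Representation K G V) (v : V) : Subgroup G where
  carrier := {g | ρ g v = v}
  one_mem' := by simp
  mul_mem' := by
    intro a b ha hb
    show ρ (a * b) v = v
    rw [map_mul, Module.End.mul_apply, hb, ha]
  inv_mem' := by
    intro a ha
    show ρ a⁻¹ v = v
    conv_lhs => arg 2; rw [← ha]
    rw [← Module.End.mul_apply, ← map_mul, inv_mul_cancel, map_one, Module.End.one_apply]

theorem mem_fixer {G : Type*} [Group G] {ρ : Representation K G V} {v : V} {g : G} :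
    g ∈ fixer ρ v ↔ ρ g v = v := Iff.rfl

/-- If `(u a - 1) (u b - 1) v = 0` with `a, b` non-zero then all `u c` fix `v`. -/
theorem fixed_of_pair (hpK : (p : K) ≠ 0) (ρ : Representation K SL(2, ZMod p) V) {a b : ZMod p}
    (ha : a ≠ 0) (hb : b ≠ 0) {v : V}
    (h : ρ (uM p a) (ρ (uM p b) v - v) = ρ (uM p b) v - v) (c : ZMod p) :
    ρ (uM p c) v = v := by
  set v' := ρ (uM p b) v - v with hv'
  have hall : ∀ c, ρ (uM p c) v' = v' := fun c => uM_mem_of_uM_mem (fixer ρ v') ha h c
  have hn : ∀ n : ℕ, ρ (uM p (n * b)) v = v + (n : K) • v' := by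
    intro n
    induction n with
    | zero => simp [uM_zero]
    | succ n ih =>
      have hb' : ρ (uM p b) v = v + v' := by rw [hv']; abel
      rw [show ((n + 1 : ℕ) : ZMod p) * b = b + n * b by push_cast; ring, uM_add, map_mul,
        Module.End.mul_apply, ih, map_add, map_smul, hall, hb']
      push_cast
      rw [add_smul, one_smul]
      abel
  have h0 := hn p
  rw [ZMod.natCast_self, zero_mul, uM_zero, map_one, Module.End.one_apply] at h0
  have h1 : (p : K) • v' = 0 := by simpa using h0.symm
  have h2 : v' = 0 := (smul_eq_zero.1 h1).resolve_left hpK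
  exact uM_mem_of_uM_mem (fixer ρ v) hb (sub_eq_zero.1 h2) c

/-- The element `u + u⁻¹` of the group algebra. -/
noncomputable def sU (ρ : Representation K SL(2, ZMod p) V) (c : ZMod p) : Module.End K V :=
  ρ (uM p c) + ρ (uM p (-c))

/-- The range of `q = 1 + g + g²` consists of fixed vectors. -/
theorem range_norm_le {G : Type*} [Group G] (ρ : Representation K G V) {g : G} (hg : g ^ 3 = 1) :
    LinearMap.range (1 + ρ g + ρ g * ρ g) ≤ LinearMap.ker (ρ g - 1) := by
  rintro _ ⟨v, rfl⟩
  rw [mem_ker_sub_one]
  have h3 : ρ g (ρ g (ρ g v)) = v := by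
    rw [← Module.End.mul_apply, ← Module.End.mul_apply, ← map_mul, ← map_mul,
      ← pow_three', hg, map_one, Module.End.one_apply]
  simp only [LinearMap.add_apply, Module.End.one_apply, Module.End.mul_apply, map_add, h3]
  abel

/-- `[ω, υ + υ⁻¹]` has rank at most twice the fixed space of `g`, where `υ = g ω` and `ω² = -1`. -/
theorem rank_comm_le [FiniteDimensional K V] {G : Type*} [Group G] (ρ : Representation K G V)
    {g ω : G} (hg : g ^ 3 = 1) (hω : ρ ω * ρ ω = -1) :
    finrank K (LinearMap.range (ρ ω * (ρ (g * ω) + ρ (g * ω)⁻¹) -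
      (ρ (g * ω) + ρ (g * ω)⁻¹) * ρ ω)) ≤ 2 * fixDim ρ g := by
  set Q : Module.End K V := 1 + ρ g + ρ g * ρ g with hQ
  have hinv : ρ (g * ω)⁻¹ = -(ρ ω * (ρ g * ρ g)) := by
    have h1 : ρ g⁻¹ = ρ g * ρ g := by
      rw [← map_mul]
      congr 1
      rw [inv_eq_iff_mul_eq_one, ← mul_assoc, ← pow_three', hg]
    have h2 : ρ ω⁻¹ = -ρ ω := by
      have h3 : ρ ω⁻¹ * (ρ ω * ρ ω) = ρ ω := by
        rw [← mul_assoc, ← map_mul, inv_mul_cancel, map_one, one_mul]
      rw [hω, mul_neg_one] at h3
      rw [← h3, neg_neg]
    rw [mul_inv_rev, map_mul, h1, h2, neg_mul]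
  have key : ρ ω * (ρ (g * ω) + ρ (g * ω)⁻¹) - (ρ (g * ω) + ρ (g * ω)⁻¹) * ρ ω =
      Q + ρ ω * (Q * ρ ω) := by
    rw [hinv, map_mul, hQ]
    simp only [mul_add, add_mul, mul_neg, neg_mul, mul_assoc, one_mul, hω, mul_one, mul_neg_one]
    rw [← mul_assoc (ρ ω) (ρ ω) (ρ g * ρ g), hω, neg_one_mul]
    abel
  rw [key]
  have hle : LinearMap.range (Q + ρ ω * (Q * ρ ω)) ≤
      LinearMap.range Q ⊔ (LinearMap.range Q).map (ρ ω) := by
    rintro _ ⟨v, rfl⟩
    exact Submodule.add_mem_sup ⟨v, rfl⟩ ⟨Q (ρ ω v), ⟨_, rfl⟩, rfl⟩
  have h1 := Submodule.finrank_mono hle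
  have h2 := Submodule.finrank_add_le_finrank_add_finrank (LinearMap.range Q)
    ((LinearMap.range Q).map (ρ ω))
  have h3 : finrank K ((LinearMap.range Q).map (ρ ω)) ≤ finrank K (LinearMap.range Q) :=
    Submodule.finrank_map_le _ _
  have h4 := Submodule.finrank_mono (range_norm_le ρ hg)
  rw [← hQ] at h4
  unfold fixDim
  omega

theorem tM_conj_uM (l : (ZMod p)ˣ) (c : ZMod p) :
    tM p l * uM p c = uM p ((l : ZMod p) * l * c) * tM p l := by
  apply Subtype.ext
  rw [Matrix.SpecialLinearGroup.coe_mul, Matrix.SpecialLinearGroup.coe_mul, tM_val, uM_val, uM_val]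
  have hl : (l : ZMod p) * ((l⁻¹ : (ZMod p)ˣ) : ZMod p) = 1 := l.mul_inv
  generalize (l : ZMod p) = x at hl ⊢
  generalize ((l⁻¹ : (ZMod p)ˣ) : ZMod p) = y at hl ⊢
  simp only [Matrix.mul_fin_two]
  congr! 1
  ext i j
  fin_cases i <;> fin_cases j <;> simp
  linear_combination (-x * c) * hl

theorem uM_inv_eq_neg (c : ZMod p) : (uM p c)⁻¹ = uM p (-c) := by
  rw [inv_eq_iff_mul_eq_one, ← uM_add, add_neg_cancel, uM_zero]

theorem sU_eq (ρ : Representation K SL(2, ZMod p) V) (c : ZMod p) :
    sU ρ c = ρ (uM p c) + ρ (uM p c)⁻¹ := by rw [uM_inv_eq_neg]; rfl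

/-- The faithful part: `-1` acts as `-1`. -/
theorem six_of_neg [FiniteDimensional K V] (h7 : 7 ≤ p) (h2K : (2 : K) ≠ 0) (hpK : (p : K) ≠ 0)
    (ρ : Representation K SL(2, ZMod p) V) (hz : ρ (-1) = -1) :
    finrank K V ≤ 6 * fixDim ρ (xM p) := by
  have h2 : (2 : ZMod p) ≠ 0 := two_zmod (by omega)
  have h3 : (3 : ZMod p) ≠ 0 := three_zmod (by omega)
  have h5 : (5 : ZMod p) ≠ 0 := fun e => by
    have e' : ((5 : ℕ) : ZMod p) = 0 := by exact_mod_cast e
    have := (Nat.prime_dvd_prime_iff_eq hp.out Nat.prime_five).1
      ((ZMod.natCast_eq_zero_iff 5 p).1 e')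
    omega
  set W := ρ (wM p) with hW
  have hWW : W * W = -1 := by rw [hW, ← map_mul, wM_sq, hz]
  set hh : ZMod p := (2 : ZMod p)⁻¹ with hhh
  set d := tM p (Units.mk0 hh (inv_ne_zero h2)) with hd
  set R : Module.End K V := W * sU ρ 1 - sU ρ 1 * W with hR
  set R2 : Module.End K V := W * sU ρ hh - sU ρ 2 * W with hR2
  set F := fixDim ρ (xM p) with hF
  have hRle : finrank K (LinearMap.range R) ≤ 2 * F := by
    have := rank_comm_le ρ (g := xM p) (ω := wM p) xM_cube hWW
    rwa [xM_mul_wM, ← sU_eq] at this
  have hRsle : finrank K (LinearMap.range (R * sU ρ 1)) ≤ 2 * F :=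
    (Submodule.finrank_mono (LinearMap.range_comp_le_range _ _)).trans hRle
  have hR2le : finrank K (LinearMap.range R2) ≤ 2 * F := by
    set ω := wM p * d with hω
    set g := uM p 2 * ω⁻¹ with hg
    have hωsq : ω * ω = -1 := by
      apply Subtype.ext
      rw [hω, hd, Matrix.SpecialLinearGroup.coe_mul, Matrix.SpecialLinearGroup.coe_mul, wM_val,
        tM_val]
      ext i j
      fin_cases i <;> fin_cases j <;> simp [Matrix.mul_fin_two, hhh, h2]
    have hgv : g.1 = !![-1, 2; -hh, 0] := by
      rw [hg, Matrix.SpecialLinearGroup.coe_mul, Matrix.SpecialLinearGroup.coe_inv, hω,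
        Matrix.SpecialLinearGroup.coe_mul, hd, tM_val, wM_val, uM_val]
      ext i j
      fin_cases i <;> fin_cases j <;>
        simp [Matrix.mul_fin_two, Matrix.adjugate_fin_two, hhh, h2]
    clear_value g
    have hg3 : g ^ 3 = 1 := by
      apply Subtype.ext
      rw [pow_three, Matrix.SpecialLinearGroup.coe_mul, Matrix.SpecialLinearGroup.coe_mul, hgv]
      ext i j
      fin_cases i <;> fin_cases j <;> simp [Matrix.mul_fin_two, hhh, h2]
    have hg1 : g ≠ 1 := by
      intro e
      rw [e] at hgv
      have := congrFun (congrFun hgv 0) 1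
      simp [h2] at this
      exact h2 this.symm
    haveI : Fact (Nat.Prime 3) := ⟨Nat.prime_three⟩
    have hgx : IsConj g (xM p) := xM_conj (by omega) (orderOf_eq_prime hg3 hg1)
    have h := rank_comm_le ρ (g := g) (ω := ω) hg3 (by rw [← map_mul, hωsq, hz])
    rw [hg, inv_mul_cancel_right, ← sU_eq, ← hg, fixDim_conj ρ hgx] at h
    have hdc : ∀ c : ZMod p, ρ d * ρ (uM p c) = ρ (uM p (hh * hh * c)) * ρ d := by
      intro c
      rw [← map_mul, ← map_mul, hd, tM_conj_uM]
      rfl
    have he : ρ ω * sU ρ 2 - sU ρ 2 * ρ ω = R2 * ρ d := by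
      rw [hω, map_mul, hR2, sub_mul, mul_assoc W, mul_assoc (sU ρ 2), mul_assoc W]
      congr 2
      unfold sU
      rw [mul_add, add_mul, hdc, hdc]
      have : hh * hh * 2 = hh := by rw [hhh]; field_simp
      rw [this, mul_neg, this]
    rw [he] at h
    have hr : LinearMap.range R2 ≤ LinearMap.range (R2 * ρ d) := by
      rintro _ ⟨v, rfl⟩
      exact ⟨ρ d⁻¹ v, by rw [Module.End.mul_apply, ← Module.End.mul_apply (ρ d), ← map_mul,
        mul_inv_cancel, map_one, Module.End.one_apply]⟩
    exact (Submodule.finrank_mono hr).trans h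
  -- the three maps have trivial common kernel
  have hker : ∀ v, R v = 0 → (R * sU ρ 1) v = 0 → R2 v = 0 → v = 0 := by
    intro v hv1 hv2 hv3
    have e1 : W (sU ρ 1 v) = sU ρ 1 (W v) := sub_eq_zero.1 hv1
    have e2 : W (sU ρ 1 (sU ρ 1 v)) = sU ρ 1 (W (sU ρ 1 v)) := sub_eq_zero.1 hv2
    have e3 : W (sU ρ hh v) = sU ρ 2 (W v) := sub_eq_zero.1 hv3
    have hss : ∀ x, sU ρ 1 (sU ρ 1 x) = sU ρ 2 x + (2 : K) • x := by
      intro x
      unfold sU
      simp only [LinearMap.add_apply, map_add, ← Module.End.mul_apply, ← map_mul, ← uM_add]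
      norm_num [uM_zero, two_smul]
      abel
    rw [e1, hss, hss, map_add, map_smul] at e2
    have e4 : W (sU ρ 2 v) = sU ρ 2 (W v) := add_right_cancel e2
    have hWinj : ∀ x y, W x = W y → x = y := by
      intro x y hxy
      have := congrArg W hxy
      rw [← Module.End.mul_apply, ← Module.End.mul_apply, hWW] at this
      simpa using this
    have e5 : sU ρ hh v = sU ρ 2 v := hWinj _ _ (e3.trans e4.symm)
    have hmul : ∀ a b x, ρ (uM p a) (ρ (uM p b) x) = ρ (uM p (a + b)) x := fun a b x => by
      rw [← Module.End.mul_apply, ← map_mul, ← uM_add]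
    -- `(u^(2 - hh) - 1) (u^(2 + hh) - 1) v = 0`
    have hfix : ∀ c, ρ (uM p c) v = v := by
      have ha : (2 : ZMod p) - hh ≠ 0 := by
        rw [hhh]
        intro e
        field_simp at e
        exact h3 (by linear_combination e)
      have hb : (2 : ZMod p) + hh ≠ 0 := by
        rw [hhh]
        intro e
        field_simp at e
        exact h5 (by linear_combination e)
      refine fixed_of_pair hpK ρ ha hb ?_
      have e6 := congrArg (ρ (uM p 2)) e5
      simp only [sU, LinearMap.add_apply, map_add, hmul, add_neg_cancel, uM_zero, map_one,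
        Module.End.one_apply, ← sub_eq_add_neg] at e6
      rw [map_sub, hmul]
      rw [show (2 : ZMod p) - hh + (2 + hh) = 2 + 2 by ring, sub_eq_sub_iff_add_eq_add,
        ← e6]
    have hs : ∀ c, sU ρ c v = (2 : K) • v := fun c => by
      rw [sU, LinearMap.add_apply, hfix, hfix, two_smul]
    have hfixW : ∀ c, ρ (uM p c) (W v) = W v := by
      refine fixed_of_pair hpK ρ one_ne_zero one_ne_zero ?_
      have e7 : sU ρ 1 (W v) = (2 : K) • W v := by rw [← e1, hs, map_smul]
      have e8 := congrArg (ρ (uM p 1)) e7
      simp only [sU, LinearMap.add_apply, map_add, two_smul, hmul, add_neg_cancel, uM_zero,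
        map_one, Module.End.one_apply] at e8
      rw [map_sub, hmul, sub_eq_sub_iff_add_eq_add, e8]
    set H := fixer ρ v with hH
    have hu : ∀ c, uM p c ∈ H := hfix
    have hl : (wM p)⁻¹ * uM p (-1) * wM p ∈ H := by
      rw [hH, mem_fixer, map_mul, map_mul, Module.End.mul_apply, Module.End.mul_apply, ← hW,
        hfixW, hW, ← Module.End.mul_apply, ← map_mul, inv_mul_cancel, map_one,
        Module.End.one_apply]
    have hw : wM p ∈ H := by
      have e : wM p = ((wM p)⁻¹ * uM p (-1) * wM p) * uM p (-1) *
          ((wM p)⁻¹ * uM p (-1) * wM p) := by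
        apply Subtype.ext
        simp only [Matrix.SpecialLinearGroup.coe_mul, wM_inv_val, wM_val, uM_val]
        ext i j
        fin_cases i <;> fin_cases j <;> simp [Matrix.mul_fin_two]
      rw [e]
      exact H.mul_mem (H.mul_mem hl (hu _)) hl
    have htop := eq_top_of_uM_wM H hu hw
    have hm : ρ (-1) v = v := by
      have : (-1 : SL(2, ZMod p)) ∈ H := by rw [htop]; trivial
      exact this
    rw [hz, LinearMap.neg_apply, Module.End.one_apply] at hm
    have : (2 : K) • v = 0 := by rw [two_smul]; nth_rw 1 [← hm]; exact neg_add_cancel v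
    exact (smul_eq_zero.1 this).resolve_left h2K
  -- conclusion
  let Φ := (LinearMap.rangeRestrict R).prod ((LinearMap.rangeRestrict (R * sU ρ 1)).prod
    (LinearMap.rangeRestrict R2))
  have hΦ : Function.Injective Φ := by
    rw [injective_iff_map_eq_zero]
    intro v hv
    exact hker v (congrArg (fun z => z.1.1) hv) (congrArg (fun z => z.2.1.1) hv)
      (congrArg (fun z => z.2.2.1) hv)
  have h := LinearMap.finrank_le_finrank_of_injective hΦ
  rw [Module.finrank_prod, Module.finrank_prod] at h
  omega

/-- A normal subgroup containing `wM` is everything. -/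
theorem normal_eq_top (h5 : 5 ≤ p) (N : Subgroup SL(2, ZMod p)) [hN : N.Normal]
    (hw : wM p ∈ N) : N = ⊤ := by
  refine eq_top_of_uM_wM N (fun c => uM_mem_of_uM_mem N (three_zmod h5) ?_ c) hw
  have h1 := hN.conj_mem _ hw (xM p)⁻¹
  have h2 := hN.conj_mem _ hw (xM p)
  have h3 := hN.conj_mem _ (N.mul_mem h1 (N.mul_mem hw h2))
    ((wM p * uM p (-1) * (wM p)⁻¹)⁻¹)
  convert h3 using 1
  apply Subtype.ext
  rw [inv_inv, inv_inv]
  simp only [mul_inv_rev, Matrix.SpecialLinearGroup.coe_mul, Matrix.SpecialLinearGroup.coe_inv,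
    wM_val, uM_val, xM_val, Matrix.adjugate_fin_two_of]
  ext i j
  fin_cases i <;> fin_cases j <;> simp [Matrix.mul_fin_two] <;> norm_num

/-- The part on which `-1` acts trivially. -/
theorem six_of_one [FiniteDimensional K V] (h7 : 7 ≤ p) (h2K : (2 : K) ≠ 0) (h3K : (3 : K) ≠ 0)
    (ρ : Representation K SL(2, ZMod p) V) (hz : ρ (-1) = 1) :
    finrank K V ≤ 6 * fixDim ρ (xM p) := by
  have h2 : (2 : ZMod p) ≠ 0 := two_zmod (by omega)
  set hh : ZMod p := (2 : ZMod p)⁻¹ with hhh
  obtain ⟨a, b, hab⟩ := ZMod.sq_add_sq p (-1)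
  let k : SL(2, ZMod p) := ⟨!![a, b; b, -a], by
    rw [Matrix.det_fin_two_of]; linear_combination -hab⟩
  let y : SL(2, ZMod p) := ⟨!![hh * (-1 + a - b), hh * (-1 + b + a);
    hh * (1 + b + a), hh * (-1 - a + b)], by
    rw [Matrix.det_fin_two_of, hhh]
    field_simp
    linear_combination -2 * hab⟩
  have hkv : k.1 = !![a, b; b, -a] := rfl
  have hyv : y.1 = !![hh * (-1 + a - b), hh * (-1 + b + a);
    hh * (1 + b + a), hh * (-1 - a + b)] := rfl
  set W := ρ (wM p) with hW
  set X := ρ (xM p) with hX
  set Y := ρ y with hY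
  set Kk := ρ k with hKk
  set F := fixDim ρ (xM p) with hF
  have hneg : ∀ g, ρ (-g) = ρ g := fun g => by
    rw [← neg_one_mul g, map_mul, hz, one_mul]
  have hWW : W * W = 1 := by rw [hW, ← map_mul, wM_sq, hz]
  have hy1 : Y * W = W * Kk * Y := by
    rw [hY, hW, hKk, ← map_mul, ← map_mul, ← map_mul]
    congr 1
    apply Subtype.ext
    simp only [Matrix.SpecialLinearGroup.coe_mul, wM_val, hyv, hkv]
    ext i j
    fin_cases i <;> fin_cases j <;> simp [Matrix.mul_fin_two]
    all_goals first
      | ring1
      | linear_combination hh * hab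
      | linear_combination -hh * hab
  have hy2 : Y * Kk = W * Y := by
    rw [hY, hW, hKk, ← map_mul, ← map_mul]
    congr 1
    apply Subtype.ext
    simp only [Matrix.SpecialLinearGroup.coe_mul, wM_val, hyv, hkv]
    ext i j
    fin_cases i <;> fin_cases j <;> simp [Matrix.mul_fin_two]
    all_goals first
      | ring1
      | linear_combination hh * hab
      | linear_combination -hh * hab
  have hWK : W * Kk = Kk * W := by
    rw [hW, hKk, ← map_mul, ← map_mul, ← hneg (k * wM p)]
    congr 1
    apply Subtype.ext
    simp only [Matrix.SpecialLinearGroup.coe_mul, Matrix.SpecialLinearGroup.coe_neg, wM_val, hkv]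
    ext i j
    fin_cases i <;> fin_cases j <;> simp [Matrix.mul_fin_two]
  have hKK : Kk * Kk = 1 := by
    rw [hKk, ← map_mul, ← hneg, ← map_one ρ]
    congr 1
    apply Subtype.ext
    simp only [Matrix.SpecialLinearGroup.coe_mul, Matrix.SpecialLinearGroup.coe_neg, hkv]
    ext i j
    fin_cases i <;> fin_cases j <;> simp [Matrix.mul_fin_two]
    all_goals first
      | ring1
      | linear_combination hab
      | linear_combination -hab
  have hy3 : y ^ 3 = 1 := by
    apply Subtype.ext
    rw [pow_three, Matrix.SpecialLinearGroup.coe_mul, Matrix.SpecialLinearGroup.coe_mul]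
    simp only [hyv]
    ext i j
    fin_cases i <;> fin_cases j <;> simp [Matrix.mul_fin_two, hhh] <;> field_simp
    all_goals first
      | ring1
      | linear_combination (2 * a - 2 * b - 6) * hab
      | linear_combination (2 * a + 2 * b - 2) * hab
      | linear_combination (2 * a + 2 * b + 2) * hab
      | linear_combination (2 * b - 2 * a - 6) * hab
  have hyne : y ≠ 1 := by
    intro e
    have e00 := congrArg (fun M : SL(2, ZMod p) => M.1 0 0) e
    have e11 := congrArg (fun M : SL(2, ZMod p) => M.1 1 1) e
    simp [hyv, hhh] at e00 e11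
    field_simp at e00 e11
    have e6 : (2 : ZMod p) * 3 = 0 := by linear_combination -e00 - e11
    exact three_zmod (p := p) (by omega) ((mul_eq_zero.1 e6).resolve_left h2)
  haveI : Fact (Nat.Prime 3) := ⟨Nat.prime_three⟩
  have hyx : IsConj y (xM p) := xM_conj (by omega) (orderOf_eq_prime hy3 hyne)
  -- the norm of `y`
  set T : Module.End K V := 1 + Y + Y * Y with hT
  have hTF : finrank K (LinearMap.range T) ≤ F := by
    rw [hF, ← fixDim_conj ρ hyx]
    exact Submodule.finrank_mono (range_norm_le ρ hy3)
  -- the `-1` eigenspace of `W`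
  set M := LinearMap.ker (W + 1) with hM
  have hMle : finrank K M ≤ 2 * F := by
    let Φ := ((LinearMap.rangeRestrict T).comp (1 + Kk)).domRestrict M
    let Ψ := ((LinearMap.rangeRestrict T).comp (1 - Kk)).domRestrict M
    have hinj : Function.Injective (Φ.prod Ψ) := by
      rw [injective_iff_map_eq_zero]
      rintro ⟨v, hv⟩ h
      replace h : (Φ ⟨v, hv⟩ = 0) ∧ (Ψ ⟨v, hv⟩ = 0) :=
        ⟨congrArg Prod.fst h, congrArg Prod.snd h⟩
      have hWv : W v = -v := by
        rw [hM, LinearMap.mem_ker, LinearMap.add_apply, Module.End.one_apply] at hv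
        exact eq_neg_of_add_eq_zero_left hv
      have key : ∀ (ε : K) (x : V), ε * ε = 1 → W x = -x → Kk x = ε • x → T x = 0 → x = 0 := by
        intro ε x hε hx1 hx2 hx3
        have a1 : W (Y x) = ε • Y x := by
          rw [← Module.End.mul_apply, ← hy2, Module.End.mul_apply, hx2, map_smul]
        have a2 : Kk (Y x) = -(ε • Y x) := by
          have : W (Kk (Y x)) = -(Y x) := by
            rw [← Module.End.mul_apply, ← Module.End.mul_apply, ← hy1, Module.End.mul_apply,
              hx1, map_neg]
          have := congrArg W this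
          rw [← Module.End.mul_apply, hWW, Module.End.one_apply, map_neg, a1] at this
          exact this
        have b1 : W (Y (Y x)) = -(ε • Y (Y x)) := by
          rw [← Module.End.mul_apply, ← hy2, Module.End.mul_apply, a2, map_neg, map_smul]
        have b2 : Kk (Y (Y x)) = -Y (Y x) := by
          have : W (Kk (Y (Y x))) = ε • Y (Y x) := by
            rw [← Module.End.mul_apply, ← Module.End.mul_apply, ← hy1, Module.End.mul_apply, a1,
              map_smul]
          have := congrArg W this
          rw [← Module.End.mul_apply, hWW, Module.End.one_apply, map_smul, b1, smul_neg, smul_smul,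
            hε, one_smul] at this
          exact this
        rw [hT, LinearMap.add_apply, LinearMap.add_apply, Module.End.one_apply,
          Module.End.mul_apply] at hx3
        -- project to the eigenspace of `x`
        have p1 := congrArg (fun z => z - W z) hx3
        simp only [map_add, hx1, a1, b1, map_zero, sub_zero] at p1
        have p2 := congrArg (fun z => z + ε • Kk z) p1
        simp only [map_add, map_sub, map_neg, map_smul, hx2, a2, b2, map_zero, smul_add, smul_sub,
          smul_neg, smul_zero, add_zero, smul_smul, hε, one_smul] at p2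
        have : (4 : K) • x = 0 := by
          rw [← p2, show (4 : K) = 1 + 1 + 1 + 1 by norm_num]
          simp only [add_smul, one_smul]
          abel
        refine (smul_eq_zero.1 this).resolve_left ?_
        rw [show (4 : K) = 2 * 2 by norm_num]
        exact mul_ne_zero h2K h2K
      have hKW : W (Kk v) = -Kk v := by
        rw [← Module.End.mul_apply, hWK, Module.End.mul_apply, hWv, map_neg]
      have hKK' : Kk (Kk v) = v := by rw [← Module.End.mul_apply, hKK, Module.End.one_apply]
      have u1 : v + Kk v = 0 := key 1 _ (one_mul 1)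
        (by rw [map_add, hWv, hKW]; abel) (by rw [map_add, hKK', one_smul]; abel)
        (congrArg Subtype.val h.1)
      have u2 : v - Kk v = 0 := key (-1) _ (by norm_num)
        (by rw [map_sub, hWv, hKW]; abel) (by rw [map_sub, hKK', neg_one_smul]; abel)
        (congrArg Subtype.val h.2)
      have : (2 : K) • v = 0 := by
        rw [two_smul, ← add_zero (0 : V)]
        nth_rw 1 [← u1]
        nth_rw 1 [← u2]
        abel
      exact Subtype.ext ((smul_eq_zero.1 this).resolve_left h2K)
    have h := LinearMap.finrank_le_finrank_of_injective hinj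
    rw [Module.finrank_prod] at h
    omega
  -- the kernel of `1 + X + X²`
  set Q : Module.End K V := 1 + X + X * X with hQ
  have hQF : finrank K (LinearMap.range Q) ≤ F :=
    Submodule.finrank_mono (range_norm_le ρ xM_cube)
  have hE : finrank K (LinearMap.ker Q) ≤ 2 * finrank K M := by
    have hmem : ∀ v, (1 - W) v ∈ M := fun v => by
      rw [hM, LinearMap.mem_ker, LinearMap.add_apply, LinearMap.sub_apply, Module.End.one_apply,
        Module.End.one_apply, map_sub, ← Module.End.mul_apply, hWW, Module.End.one_apply]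
      abel
    let P : Module.End K V := 1 - W
    let Φ := ((LinearMap.codRestrict M P hmem).prod
      ((LinearMap.codRestrict M P hmem).comp X)).domRestrict (LinearMap.ker Q)
    have hinj : Function.Injective Φ := by
      rw [injective_iff_map_eq_zero]
      rintro ⟨v, hv⟩ h
      replace h : (LinearMap.codRestrict M P hmem v = 0) ∧
          (LinearMap.codRestrict M P hmem (X v) = 0) :=
        ⟨congrArg Prod.fst h, congrArg Prod.snd h⟩
      have hv1 : W v = v := (sub_eq_zero.1 (congrArg Subtype.val h.1)).symm
      have hv2 : W (X v) = X v := (sub_eq_zero.1 (congrArg Subtype.val h.2)).symm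
      have hQv : v + X v + X (X v) = 0 := hv
      have hv3 : W (X (X v)) = X (X v) := by
        have e : X (X v) = -(v + X v) := eq_neg_of_add_eq_zero_right hQv
        rw [e, map_neg, map_add, hv1, hv2]
      set H := fixer ρ v with hH
      have hx3 : X (X (X v)) = v := by
        rw [hX, ← Module.End.mul_apply, ← Module.End.mul_apply, ← map_mul, ← map_mul,
          ← pow_three', xM_cube, map_one, Module.End.one_apply]
      set S : Set SL(2, ZMod p) := {wM p, (xM p)⁻¹ * wM p * xM p, xM p * wM p * (xM p)⁻¹} with hS
      have hxinv : (xM p)⁻¹ = xM p * xM p := by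
        rw [inv_eq_iff_mul_eq_one, ← mul_assoc, ← pow_three', xM_cube]
      have hSH : Subgroup.closure S ≤ H := by
        rw [Subgroup.closure_le]
        rintro g (rfl | rfl | rfl)
        · exact hv1
        · show ρ _ v = v
          rw [map_mul, map_mul, Module.End.mul_apply, Module.End.mul_apply, ← hW, ← hX, hv2,
            hX, ← Module.End.mul_apply, ← map_mul, inv_mul_cancel, map_one, Module.End.one_apply]
        · show ρ _ v = v
          rw [hxinv, map_mul, map_mul, map_mul, Module.End.mul_apply, Module.End.mul_apply,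
            Module.End.mul_apply, ← hW, ← hX, hv3, hx3]
      haveI : (Subgroup.closure S).Normal := by
        rw [← Subgroup.normalizer_eq_top_iff, eq_top_iff, ← closure_xM_wM, Subgroup.closure_le]
        rintro g (rfl | rfl)
        · refine Subgroup.mem_normalizer_iff.2 fun n => ?_
          have hle : ∀ m ∈ Subgroup.closure S, xM p * m * (xM p)⁻¹ ∈ Subgroup.closure S := by
            intro m hm
            induction hm using Subgroup.closure_induction with
            | mem z hz =>
              refine Subgroup.subset_closure ?_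
              rcases hz with rfl | rfl | rfl
              · exact Set.mem_insert_of_mem _ (Set.mem_insert_of_mem _ rfl)
              · left; group
              · right; left
                rw [hxinv]
                have : xM p * xM p * xM p = 1 := by rw [← pow_three', xM_cube]
                calc xM p * (xM p * wM p * (xM p * xM p)) * (xM p * xM p)
                    = xM p * xM p * wM p * ((xM p * xM p * xM p) * xM p) := by
                      simp only [mul_assoc]
                  _ = _ := by rw [this, one_mul]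
            | one => simp
            | mul z z' _ _ hz hz' =>
              have := Subgroup.mul_mem _ hz hz'
              simpa [mul_assoc] using this
            | inv z _ hz =>
              have := Subgroup.inv_mem _ hz
              simpa [mul_assoc] using this
          refine ⟨hle n, fun hn => ?_⟩
          have h' := hle _ (hle _ hn)
          have h3' : xM p * xM p * xM p = 1 := by rw [← pow_three', xM_cube]
          convert h' using 1
          calc n = (xM p * xM p * xM p) * n * (xM p * xM p * xM p)⁻¹ := by rw [h3']; simp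
            _ = _ := by group
        · exact Subgroup.le_normalizer (Subgroup.subset_closure (Set.mem_insert _ _))
      have htop : H = ⊤ :=
        top_le_iff.1 ((normal_eq_top (by omega) (Subgroup.closure S)
          (Subgroup.subset_closure (Set.mem_insert _ _))) ▸ hSH)
      have hXv : X v = v := by
        have : xM p ∈ H := by rw [htop]; trivial
        exact this
      rw [hXv, hXv] at hQv
      have : (3 : K) • v = 0 := by
        rw [← hQv, show (3 : K) = 1 + 1 + 1 by norm_num, add_smul, add_smul, one_smul]
      exact Subtype.ext ((smul_eq_zero.1 this).resolve_left h3K)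
    have h := LinearMap.finrank_le_finrank_of_injective hinj
    rw [Module.finrank_prod] at h
    omega
  have := LinearMap.finrank_range_add_finrank_ker Q
  omega

/-- Piece 3: `xM p` fixes at least a sixth. -/
theorem sl2_six [FiniteDimensional K V] (h7 : 7 ≤ p) (h2K : (2 : K) ≠ 0) (h3K : (3 : K) ≠ 0)
    (hpK : (p : K) ≠ 0) (ρ : Representation K SL(2, ZMod p) V) :
    finrank K V ≤ 6 * fixDim ρ (xM p) := by
  set W := LinearMap.ker (ρ (-1) + 1) with hW
  have hst : Stable ρ W := by
    intro g v hv
    rw [hW, LinearMap.mem_ker, LinearMap.add_apply, Module.End.one_apply] at hv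
    rw [Submodule.mem_comap, hW, LinearMap.mem_ker, LinearMap.add_apply, Module.End.one_apply,
      ← Module.End.mul_apply, ← map_mul, neg_one_mul, ← mul_neg_one g, map_mul,
      Module.End.mul_apply, ← map_add, hv, map_zero]
  have hn : (orderOf (xM p) : K) ≠ 0 := by
    rw [orderOf_xM (by omega)]; exact_mod_cast h3K
  have hone : ρ (-1) * ρ (-1) = 1 := by rw [← map_mul, neg_mul_neg, one_mul, map_one]
  have h1 := six_of_neg h7 h2K hpK (ρ.subrepresentation W hst) (by
    apply LinearMap.ext
    rintro ⟨v, hv⟩
    apply Subtype.ext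
    show ρ (-1) v = -v
    rw [hW, LinearMap.mem_ker, LinearMap.add_apply, Module.End.one_apply] at hv
    exact eq_neg_of_add_eq_zero_left hv)
  have h2 := six_of_one h7 h2K h3K (ρ.quotient W hst) (by
    apply LinearMap.ext
    intro y
    obtain ⟨v, rfl⟩ := Submodule.Quotient.mk_surjective W y
    show W.mkQ (ρ (-1) v) = W.mkQ v
    refine (Submodule.Quotient.eq W).2 ?_
    rw [hW, LinearMap.mem_ker, LinearMap.add_apply, Module.End.one_apply, map_sub,
      ← Module.End.mul_apply, hone, Module.End.one_apply]
    abel)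
  have h3 := W.finrank_quotient_add_finrank
  rw [fixDim_add ρ hn W hst]
  omega

end CfsgLib.FixSixth
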