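import Cfsg.Prelude.Def_RootSubgroups
import Cfsg.Agent.Lib.FixSixth.Averaging
import Cfsg.Agent.Lib.FixSixth.Reduce
import Cfsg.Agent.Lib.FixSixth.Lift
import Cfsg.Agent.Lib.FixSixth.SixLemma
import Cfsg.Agent.Lib.FixSixth.KernelPerm
import Cfsg.Agent.Lib.FixSixth.ChainOne
import Cfsg.Agent.Lib.FixSixth.Chain
import Cfsg.Agent.Lib.FixSixth.Eleven

/-!
# Large fixed spaces: assembly
-/

set_option autoImplicit false

namespace CfsgLib.FixSixth

open scoped MatrixGroups

universe u v w

section

variable {G : Type u} [Group G] {K : Type v} {V : Type w} [Field K] [AddCommGroup V] [Module K V]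

theorem HasFix.of_comp {G' : Type*} [Group G'] (f : G' →* G) (hf : Function.Injective f)
    {ρ : Representation K G V} (h : HasFix (ρ.comp f)) : HasFix ρ := by
  obtain ⟨g, hg, hle⟩ := h
  exact ⟨f g, fun e => hg (hf (by rw [e, map_one])), hle⟩

end

/-- Every representation of the minimal configuration has a large fixed space. -/
theorem Cover.hasFix_closed {p : ℕ} [Fact p.Prime] {G : Type u} [Group G] [Finite G] (C : Cover p G)
    {K : Type v} {V : Type w} [Field K] [IsAlgClosed K] [AddCommGroup V] [Module K V]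
    [FiniteDimensional K V] (ρ : Representation K G V) : HasFix ρ := by
  have hz : orderOf C.z = 2 := orderOf_eq_prime C.z_sq (by
    intro h
    have h1 := C.z_map
    rw [h, map_one] at h1
    have h2 : ((1 : SL(2, ZMod p)) : Matrix (Fin 2) (Fin 2) (ZMod p)) 0 0 =
      ((-1 : SL(2, ZMod p)) : Matrix (Fin 2) (Fin 2) (ZMod p)) 0 0 := by rw [← h1]
    simp only [Matrix.SpecialLinearGroup.coe_neg, Matrix.SpecialLinearGroup.coe_one,
      Matrix.one_apply_eq, Matrix.neg_apply] at h2
    have : ((2 : ℕ) : ZMod p) = 0 := by push_cast; linear_combination h2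
    rw [ZMod.natCast_eq_zero_iff] at this
    have := Nat.le_of_dvd (by norm_num) this
    have := C.seven_le
    omega)
  by_cases h2 : (2 : K) = 0
  · exact hasFix_char_two ρ h2 hz
  obtain ⟨x, hx, hπx⟩ := C.three_exists
  have hx1 : x ≠ 1 := fun e => by simp [e] at hx
  by_cases h3 : (3 : K) = 0
  · exact ⟨x, hx1, (three_le_fix ρ h3 hx).trans (by omega)⟩
  by_cases hpK : (p : K) = 0
  · haveI : CharP K p := (CharP.charP_iff_prime_eq_zero Fact.out).2 hpK
    have hp : p.Prime := Fact.out
    have hp7 := C.seven_le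
    have h3p : p % 3 = 1 ∨ p % 3 = 2 := by
      have h0 : p % 3 ≠ 0 := by
        intro h
        have := (Nat.prime_dvd_prime_iff_eq Nat.prime_three hp).1 (Nat.dvd_of_mod_eq_zero h)
        omega
      omega
    rcases h3p with hm | hm
    · exact chain_one hm ρ C
    · by_cases h17 : 17 ≤ p
      · exact chain_two hm h17 ρ C
      · have h11 : p = 11 := by
          interval_cases p <;> first | rfl | omega | (norm_num at hp)
        by_cases hno : ∀ g, C.π g = uM p 1 → orderOf g ≠ p
        · exact chain_eleven_long C h11 hno ρ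
        push Not at hno
        obtain ⟨g, hg, hgo⟩ := hno
        have hker : C.π.ker = ⊥ := by
          refine C.ker_eq_bot_of_split ?_ g hg hgo
          have := C.isPGroup_eleven h11
          subst h11
          exact this
        let e : G ≃* SL(2, ZMod p) := MulEquiv.ofBijective C.π ⟨(MonoidHom.ker_eq_bot_iff _).1 hker, C.surj⟩
        subst h11
        obtain ⟨g', hg', hle⟩ := sl2_eleven (ρ.comp e.symm.toMonoidHom)
        exact ⟨e.symm g', fun h => hg' (by simpa using h), hle⟩
  · refine ⟨x, hx1, le_mul_fix_of_simple ρ (by rw [hx]; exact_mod_cast h3) 6 ?_⟩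
    intro W _ _ _ σ hσ _
    by_cases hO : ∃ o ∈ C.π.ker, σ o ≠ 1
    · exact kernel_six C h2 h3 σ hσ hO hx
    push Not at hO
    let sec := Function.surjInv C.surj
    have hwd : ∀ a b : G, C.π a = C.π b → σ a = σ b := by
      intro a b h
      have hm : a⁻¹ * b ∈ C.π.ker := by simp [MonoidHom.mem_ker, map_mul, map_inv, h]
      calc σ a = σ a * σ (a⁻¹ * b) := by rw [hO _ hm, mul_one]
        _ = σ b := by rw [← map_mul, mul_inv_cancel_left]
    let σ' : Representation K SL(2, ZMod p) W :=
      { toFun := fun g => σ (sec g)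
        map_one' := (hwd _ 1 (by rw [Function.surjInv_eq C.surj, map_one])).trans (map_one σ)
        map_mul' := fun a b => (hwd _ (sec a * sec b) (by
          rw [map_mul, Function.surjInv_eq C.surj, Function.surjInv_eq C.surj,
            Function.surjInv_eq C.surj])).trans (map_mul σ _ _) }
    have hcomp : σ'.comp C.π = σ := MonoidHom.ext fun a => hwd _ a (Function.surjInv_eq C.surj _)
    have := sl2_six C.seven_le h2 h3 hpK σ'
    rw [← hπx, ← fixDim_comp C.π σ' x, hcomp] at this
    exact this

/-- The theorem for `S5720`, with natural numbers. -/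
theorem hasFix_of_large {H : Type u} [Group H] [Finite H] (hR : 120 < (Cfsg.solvableRadical H).index)
    {K : Type v} {V : Type w} [Field K] [AddCommGroup V] [Module K V] [FiniteDimensional K V]
    (ρ : Representation K H V) : HasFix ρ := by
  rcases reduce hR with ⟨a, b, ha, hb, hab, hne⟩ | ⟨r, hr, a, b, ha, hb, hab, hba⟩ |
    ⟨p, hpf, hp, L, z, f, hf, hz, hz2, huniq, m, hm, hker⟩
  · exact hasFix_four ρ ha hb hab hne
  · exact hasFix_rr ρ hr ha hb hab hba
  · haveI := hpf
    by_cases hno : ∀ r, (r = 3 ∨ r = 5) → ∀ a b : L, orderOf a = r → orderOf b = r → Commute a b →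
        b ∈ Subgroup.zpowers a
    · obtain ⟨G, ⟨C⟩⟩ := cover_of_psl hp z f hf hz hz2 huniq hm hker hno
      refine HasFix.of_comp L.subtype L.subtype_injective (HasFix.of_comp G.subtype G.subtype_injective ?_)
      exact hasFix_of_extRep _ (C.hasFix_closed _)
    · push Not at hno
      obtain ⟨r, hr, a, b, ha, hb, hab, hba⟩ := hno
      exact HasFix.of_comp L.subtype L.subtype_injective (hasFix_rr _ hr ha hb hab hba)

end CfsgLib.FixSixth
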