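import Mathlib

/-!
# Large fixed spaces (S5720): shared definitions

`fixDim ρ g` is the dimension of the fixed space of `g`; `HasFix ρ` says that some non-identity
element fixes at least a sixth of the space.  `Cover p G` is the minimal configuration: a perfect
group `G` mapping onto `SL(2, p)` with a nilpotent kernel of odd order prime to `15`.
-/

set_option autoImplicit false

namespace CfsgLib.FixSixth

open scoped MatrixGroups

section Rep

variable {G : Type*} [Group G] {K V : Type*} [Field K] [AddCommGroup V] [Module K V]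

/-- Dimension of the fixed space of `g`. -/
noncomputable def fixDim (ρ : Representation K G V) (g : G) : ℕ :=
  Module.finrank K (LinearMap.ker (ρ g - 1))

/-- Some non-identity element fixes at least one sixth of the space. -/
def HasFix (ρ : Representation K G V) : Prop :=
  ∃ h : G, h ≠ 1 ∧ Module.finrank K V ≤ 6 * fixDim ρ h

/-- Invariance of a subspace. -/
def Stable (ρ : Representation K G V) (W : Submodule K V) : Prop :=
  ∀ g : G, W ≤ W.comap (ρ g)

/-- Irreducibility, elementwise. -/
def IsSimpleRep (ρ : Representation K G V) : Prop :=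
  (∃ v : V, v ≠ 0) ∧ ∀ W : Submodule K V, Stable ρ W → W = ⊥ ∨ W = ⊤

end Rep

section SL2

variable (p : ℕ)

/-- Upper unitriangular matrix. -/
def uM (c : ZMod p) : SL(2, ZMod p) := ⟨!![1, c; 0, 1], by simp [Matrix.det_fin_two_of]⟩

/-- The standard element of order four. -/
def wM : SL(2, ZMod p) := ⟨!![0, -1; 1, 0], by simp [Matrix.det_fin_two_of]⟩

/-- Diagonal matrix. -/
def tM (l : (ZMod p)ˣ) : SL(2, ZMod p) :=
  ⟨!![(l : ZMod p), 0; 0, ((l⁻¹ : (ZMod p)ˣ) : ZMod p)], by simp [Matrix.det_fin_two_of]⟩

/-- The standard element of order three; it is `-(uM 1 * wM)`, so `uM 1 = xM * wM`. -/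
def xM : SL(2, ZMod p) := ⟨!![-1, 1; -1, 0], by simp [Matrix.det_fin_two_of]⟩

end SL2

/-- The minimal configuration. -/
structure Cover (p : ℕ) [Fact p.Prime] (G : Type*) [Group G] [Finite G] where
  π : G →* SL(2, ZMod p)
  seven_le : 7 ≤ p
  surj : Function.Surjective π
  odd_ker : Odd (Nat.card π.ker)
  nil : Group.IsNilpotent π.ker
  perfect : commutator G = ⊤
  minimal : ∀ L : Subgroup G, L.map π = ⊤ → L = ⊤
  ker_comm : ⁅π.ker, (⊤ : Subgroup G)⁆ = π.ker
  coprime_fifteen : (Nat.card π.ker).Coprime 15
  z : G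
  z_map : π z = -1
  z_sq : z ^ 2 = 1
  z_central : z ∈ Subgroup.center G
  three_conj : ∀ x y : G, orderOf x = 3 → orderOf y = 3 → IsConj x y
  three_exists : ∃ x : G, orderOf x = 3 ∧ π x = xM p

end CfsgLib.FixSixth
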