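import Cfsg.Agent.Lib.FixSixth.SL2Elem
import Cfsg.Agent.Lib.Geom.DicksonCases
import Cfsg.Agent.Lib.Classical.PSLTwoPerm

/-!
# Elements of order three in proper subgroups of `SL(2, p)`, `p ≡ 2 (mod 3)`
-/

set_option autoImplicit false

namespace CfsgLib.FixSixth

open scoped MatrixGroups
open Matrix
open CfsgLib.Geom.Moebius (Line aff exists_map1 exists_aff_of_fix dickson)

variable {p : ℕ} [hp : Fact p.Prime]

local notation "PSLp" => Matrix.ProjectiveSpecialLinearGroup (Fin 2) (ZMod p)

/-- Only the identity has a cube equal to one and fixes a point. -/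
theorem eq_one_of_fix_line (hmod : p % 3 = 2) (g : PSLp) (hg : g ^ 3 = 1) (P : Line (ZMod p))
    (hP : Matrix.ProjectiveSpecialLinearGroup.toPGL g • P = P) : g = 1 := by
  obtain ⟨m, rfl⟩ := exists_map1 P
  set T := Matrix.ProjectiveSpecialLinearGroup.toPGL g with hT
  obtain ⟨a, b, hab⟩ := exists_aff_of_fix (g := m⁻¹ * T * m)
    (by rw [mul_smul, mul_smul, hP, inv_smul_smul])
  have h3 : (aff a b) ^ 3 = 1 := by
    rw [← hab, show m⁻¹ * T * m = MulAut.conj m⁻¹ T by simp, ← map_pow,
      hT, ← map_pow, hg, map_one, map_one]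
  rw [pow_succ, pow_succ, pow_one, CfsgLib.Geom.Moebius.aff_mul, CfsgLib.Geom.Moebius.aff_mul,
    ← CfsgLib.Geom.Moebius.aff_one] at h3
  obtain ⟨ha, hb⟩ := CfsgLib.Geom.Moebius.aff_inj h3
  have ha1 : a = 1 := by
    have hcop : (Nat.card (ZMod p)ˣ).Coprime 3 := by
      rw [Nat.card_eq_fintype_card, ZMod.card_units p]
      exact ((Nat.Prime.coprime_iff_not_dvd Nat.prime_three).2 (by omega)).symm
    exact (powCoprime hcop).injective (by simpa [pow_succ] using ha)
  subst ha1
  have h30 : (3 : ZMod p) ≠ 0 := fun e => by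
    have e' : ((3 : ℕ) : ZMod p) = 0 := by exact_mod_cast e
    have := (Nat.prime_dvd_prime_iff_eq hp.out Nat.prime_three).1
      ((ZMod.natCast_eq_zero_iff 3 p).1 e')
    omega
  have hb0 : b = 0 := by
    simp only [Units.val_one, one_mul, mul_one] at hb
    exact (mul_eq_zero.1 (by linear_combination hb : (3 : ZMod p) * b = 0)).resolve_left h30
  rw [hb0, CfsgLib.Geom.Moebius.aff_one] at hab
  refine Matrix.ProjectiveSpecialLinearGroup.toPGL_injective ?_
  rw [← hT, map_one]
  exact (mul_eq_left (a := m⁻¹)).1 (eq_inv_of_mul_eq_one_left hab)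

theorem dihedral_cube (n : ℕ) [NeZero n] :
    Nat.card {x : DihedralGroup n // x ^ 3 = 1} ≤ 3 := by
  classical
  have h := IsAddCyclic.card_nsmul_eq_zero_le (α := ZMod n) (n := 3) (by norm_num)
  have e : ∀ x : {x : DihedralGroup n // x ^ 3 = 1}, ∃ i : ZMod n, x.1 = DihedralGroup.r i ∧
      3 • i = 0 := by
    rintro ⟨x, hx⟩
    cases x with
    | r i =>
      refine ⟨i, rfl, ?_⟩
      simp only [pow_succ, pow_zero, DihedralGroup.r_mul_r, DihedralGroup.one_def,
        DihedralGroup.r.injEq] at hx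
      rw [nsmul_eq_mul]
      push_cast
      linear_combination hx
    | sr i =>
      rw [pow_succ, pow_two, DihedralGroup.sr_mul_self, one_mul, DihedralGroup.one_def] at hx
      exact nomatch hx
  choose f hf1 hf2 using e
  refine le_trans ?_ h
  rw [← Nat.card_eq_finsetCard]
  exact Nat.card_le_card_of_injective
    (fun x => (⟨f x, Finset.mem_filter.2 ⟨Finset.mem_univ _, hf2 x⟩⟩ :
      {i // i ∈ Finset.univ.filter fun i : ZMod n => 3 • i = 0}))
    fun x y hxy => Subtype.ext <| (hf1 x).trans <|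
      (congrArg DihedralGroup.r (congrArg Subtype.val hxy)).trans (hf1 y).symm

set_option maxRecDepth 10000 in
theorem altFive_cube : Nat.card {x : alternatingGroup (Fin 5) // x ^ 3 = 1} ≤ 24 := by
  rw [Nat.card_eq_fintype_card]
  decide

/-- Elements with trivial cube in a proper subgroup of `PSL(2, p)`. -/
theorem psl_cube_le (hmod : p % 3 = 2) (h7 : 7 ≤ p) (H : Subgroup PSLp) (hH : H ≠ ⊤) :
    Nat.card {x : H // x ^ 3 = 1} ≤ 24 := by
  classical
  have htop : ∀ K : Subfield (ZMod p), Nat.card K = p := fun K => by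
    have : K = ⊤ := eq_top_iff.2 fun x _ => by
      rw [← ZMod.natCast_zmod_val x]
      exact natCast_mem K _
    rw [this, Nat.card_congr Subfield.topEquiv.toEquiv, Nat.card_zmod]
  have hcardG : 2 * Nat.card PSLp = p * (p ^ 2 - 1) := by
    have h := CfsgLib.Classical.card_psl_two_mul (F := ZMod p)
    rw [ZMod.card] at h
    have hodd := hp.out.odd_of_ne_two (by omega)
    rwa [Nat.gcd_eq_left (by obtain ⟨k, hk⟩ := hodd; omega)] at h
  have hlt : Nat.card H < Nat.card PSLp := lt_of_le_of_ne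
    (Nat.le_of_dvd Nat.card_pos (Subgroup.card_subgroup_dvd_card H))
    fun e => hH (Subgroup.eq_top_of_card_eq H e)
  have hp1 : (p + 1) * (p * (p - 1)) = p * (p ^ 2 - 1) := by
    rw [show p ^ 2 - 1 = (p + 1) * (p - 1) from Nat.sq_sub_sq p 1]
    ring
  have hsub : ∀ {n : ℕ}, Nat.card H ≤ n → Nat.card {x : H // x ^ 3 = 1} ≤ n := fun h =>
    (Finite.card_subtype_le _).trans h
  have htrans : ∀ {L : Type} [Group L] [Finite L] (e : H ≃* L) {n : ℕ},
      Nat.card {x : L // x ^ 3 = 1} ≤ n → Nat.card {x : H // x ^ 3 = 1} ≤ n := by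
    intro L _ _ e n h
    refine le_trans (le_of_eq (Nat.card_congr (e.toEquiv.subtypeEquiv fun x => ?_))) h
    simp [← map_pow]
  cases dickson H with
  | cyclic k hk hc hcard =>
    have := Fintype.ofFinite H
    have := IsCyclic.card_pow_eq_one_le (α := H) (n := 3) (by norm_num)
    rw [Nat.card_eq_fintype_card, Fintype.card_subtype]
    omega
  | borel P hP =>
    have : ∀ x : {x : H // x ^ 3 = 1}, x.1 = 1 := fun x =>
      Subtype.ext (eq_one_of_fix_line hmod (x.1 : PSLp)
        (by rw [← Subgroup.coe_pow, x.2, Subgroup.coe_one]) P (hP _ x.1.2))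
    have : Subsingleton {x : H // x ^ 3 = 1} := ⟨fun x y => Subtype.ext ((this x).trans (this y).symm)⟩
    exact Finite.card_le_one_iff_subsingleton.2 this |>.trans (by norm_num)
  | dihedral n hn hk hc hcard =>
    obtain ⟨e⟩ := hc
    have : NeZero n := ⟨by omega⟩
    exact htrans e ((dihedral_cube n).trans (by norm_num))
  | tetrahedral h hcard => exact hsub (by omega)
  | octahedral h hcard => exact hsub (by omega)
  | icosahedral h hcard =>
    obtain ⟨e⟩ := h
    exact htrans e altFive_cube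
  | subfieldPGL K u hu hK h hcard =>
    have : u = p := hK.symm.trans (htop K)
    subst this
    omega
  | subfieldPSL K u hu hK h hcard =>
    have : u = p := hK.symm.trans (htop K)
    subst this
    omega

/-- A proper subgroup of `SL(2, p)` has at most 24 elements of order three. -/
theorem sl_three_le (hmod : p % 3 = 2) (h7 : 7 ≤ p) (M : Subgroup SL(2, ZMod p)) (hM : M ≠ ⊤) :
    Nat.card {s : SL(2, ZMod p) // orderOf s = 3 ∧ s ∈ M} ≤ 24 := by
  classical
  let q : SL(2, ZMod p) →* PSLp := QuotientGroup.mk' _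
  have hker : ∀ g, q g = 1 → g = 1 ∨ g = -1 := by
    intro g hg
    have hg' : g ∈ Subgroup.center SL(2, ZMod p) := (QuotientGroup.eq_one_iff g).1 hg
    obtain ⟨r, hr, hrg⟩ := Matrix.SpecialLinearGroup.mem_center_iff.1 hg'
    rw [Fintype.card_fin] at hr
    rcases sq_eq_one_iff.1 hr with rfl | rfl
    · exact Or.inl (Subtype.ext (by rw [← hrg]; simp))
    · refine Or.inr (Subtype.ext ?_)
      rw [← hrg, map_neg, map_one]
      simp
  have hH : M.map q ≠ ⊤ := by
    intro htop
    have hpm : ∀ g, g ∈ M ∨ -g ∈ M := fun g => by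
      obtain ⟨m, hm, e⟩ := htop.ge (Subgroup.mem_top (q g))
      rcases hker (m⁻¹ * g) (by rw [map_mul, map_inv, e, inv_mul_cancel]) with h | h
      · exact Or.inl (by rwa [← eq_of_inv_mul_eq_one h])
      · exact Or.inr (by rw [inv_mul_eq_iff_eq_mul.1 h]; simpa using hm)
    have hneg : (-1 : SL(2, ZMod p)) ∈ M := by
      rcases hpm (wM p) with h | h <;> simpa [wM_sq] using M.mul_mem h h
    have hall : ∀ g, g ∈ M := fun g => (hpm g).elim id fun h => by
      simpa using M.mul_mem hneg h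
    exact hM ((Subgroup.eq_top_iff' M).2 hall)
  refine le_trans ?_ (psl_cube_le hmod h7 _ hH)
  refine Nat.card_le_card_of_injective (fun s => ⟨⟨q s.1, Subgroup.mem_map_of_mem q s.2.2⟩,
    Subtype.ext (by simp [← map_pow, ← s.2.1, pow_orderOf_eq_one])⟩) ?_
  intro s t h
  have h' : q s.1 = q t.1 := congrArg (fun y : {x : M.map q // x ^ 3 = 1} => (y.1 : PSLp)) h
  rcases hker (s.1⁻¹ * t.1) (by rw [map_mul, map_inv, h', inv_mul_cancel]) with e | e
  · exact Subtype.ext (eq_of_inv_mul_eq_one e)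
  · exfalso
    have ht : t.1 = -s.1 := by rw [inv_mul_eq_iff_eq_mul.1 e, mul_neg, mul_one]
    have h1 : (-s.1) ^ 3 = 1 := by rw [← ht]; exact orderOf_dvd_iff_pow_eq_one.1 (dvd_of_eq t.2.1)
    have h2 : s.1 ^ 3 = 1 := orderOf_dvd_iff_pow_eq_one.1 (dvd_of_eq s.2.1)
    rw [Odd.neg_pow (by decide), h2] at h1
    have h3 := congrArg (fun A : SL(2, ZMod p) => A.1 0 0) h1
    simp at h3
    exact two_zmod (p := p) (by omega) (by linear_combination -h3)

theorem orderOf_trace (s : SL(2, ZMod p)) (a b c : ZMod p) (hs : s.1 = !![a, b; c, -1 - a])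
    (hc : b * c = -(a ^ 2 + a + 1)) (hb : b ≠ 0) : orderOf s = 3 := by
  have : Fact (Nat.Prime 3) := ⟨Nat.prime_three⟩
  refine orderOf_eq_prime ?_ fun e => hb ?_
  · apply Subtype.ext
    rw [Matrix.SpecialLinearGroup.coe_pow, Matrix.SpecialLinearGroup.coe_one, pow_succ,
      pow_two, hs]
    ext i j
    fin_cases i <;> fin_cases j <;> simp [Matrix.mul_fin_two]
    · linear_combination (a - 1) * hc
    · linear_combination b * hc
    · linear_combination c * hc
    · linear_combination (-2 - a) * hc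
  · rw [e, Matrix.SpecialLinearGroup.coe_one] at hs
    simpa using (congrFun (congrFun hs 0) 1).symm

theorem many_three (h11 : 11 ≤ p) (hmod : p % 3 = 2) :
    110 ≤ Nat.card {s : SL(2, ZMod p) // orderOf s = 3} := by
  classical
  let f : ZMod p × {b : ZMod p // b ≠ 0} → {s : SL(2, ZMod p) // orderOf s = 3} := fun x =>
    ⟨⟨!![x.1, x.2.1; -(x.1 ^ 2 + x.1 + 1) / x.2.1, -1 - x.1], by
      rw [Matrix.det_fin_two_of, mul_div_cancel₀ _ x.2.2]; ring⟩,
      orderOf_trace _ _ _ _ rfl (mul_div_cancel₀ _ x.2.2) x.2.2⟩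
  have hinj : Function.Injective f := by
    rintro ⟨a, b⟩ ⟨a', b'⟩ e
    have e1 := congrArg (fun A : {s : SL(2, ZMod p) // orderOf s = 3} => A.1.1 0 0) e
    have e2 := congrArg (fun A : {s : SL(2, ZMod p) // orderOf s = 3} => A.1.1 0 1) e
    simp [f] at e1 e2
    exact Prod.ext e1 (Subtype.ext e2)
  refine le_trans ?_ (Nat.card_le_card_of_injective f hinj)
  rw [Nat.card_prod, Nat.card_zmod, Nat.card_eq_fintype_card, Fintype.card_subtype_compl,
    Fintype.card_subtype_eq, ZMod.card]
  exact Nat.mul_le_mul h11 (show 10 ≤ p - 1 by omega)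

end CfsgLib.FixSixth
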