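import Cfsg.Agent.Lib.FixSixth.WeightPerm
import Cfsg.Agent.Lib.FixSixth.ThreeCount

/-!
# The monomial case of the kernel estimates
-/

set_option autoImplicit false

namespace CfsgLib.FixSixth

open Module
open scoped MatrixGroups

variable {p : ℕ} [Fact p.Prime] {G : Type*} [Group G] [Finite G]

/-- A transitive action of `G` on at least two points. -/
theorem fixed_share (C : Cover p G) {Ω : Type*} [MulAction G Ω] [Finite Ω]
    (htr : MulAction.IsPretransitive G Ω) (hne : ∃ a b : Ω, a ≠ b)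
    {x : G} (hx : orderOf x = 3) :
    2 * Nat.card (MulAction.fixedBy Ω x) ≤ Nat.card Ω ∧
      (p % 3 = 2 → 11 ≤ p → 4 * Nat.card (MulAction.fixedBy Ω x) ≤ Nat.card Ω) := by
  classical
  obtain ⟨a0, b0, hab⟩ := hne
  obtain ⟨x0, hx0, hpx0⟩ := C.three_exists
  let Fx : G → Set Ω := fun g => MulAction.fixedBy Ω g
  have hconj : ∀ g h : G, (Fx (g * h * g⁻¹)).ncard = (Fx h).ncard := by
    intro g h
    rw [show Fx (g * h * g⁻¹) = (fun χ : Ω => g • χ) '' Fx h from ?_,
      Set.ncard_image_of_injective _ (MulAction.injective g)]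
    ext χ
    simp only [Fx, Set.mem_image, MulAction.mem_fixedBy]
    constructor
    · intro h'
      refine ⟨g⁻¹ • χ, ?_, smul_inv_smul g χ⟩
      have := congrArg (fun ψ => g⁻¹ • ψ) h'
      simpa [mul_smul] using this
    · rintro ⟨ψ, hψ, rfl⟩
      simp [mul_smul, hψ]
  obtain ⟨g0, hg0⟩ := isConj_iff.1 (C.three_conj x0 x hx0 hx)
  have hf : Nat.card (MulAction.fixedBy Ω x) = (Fx x0).ncard := by
    rw [Nat.card_coe_set_eq, ← hg0]
    exact hconj g0 x0
  rw [hf]
  have hnot : ∀ χ : Ω, MulAction.stabilizer G χ ≠ ⊤ := by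
    intro χ h
    have hall : ∀ ψ : Ω, ψ = χ := fun ψ => by
      obtain ⟨g, rfl⟩ := htr.exists_smul_eq χ ψ
      exact (h ▸ Subgroup.mem_top g : g ∈ MulAction.stabilizer G χ)
    exact hab ((hall a0).trans (hall b0).symm)
  refine ⟨?_, fun hmod h11 => ?_⟩
  · obtain ⟨w, hw⟩ := C.surj (wM p)
    have hd : Disjoint (Fx x0) (Fx (w * x0 * w⁻¹)) := by
      rw [Set.disjoint_left]
      intro χ h1 h2
      refine hnot χ (C.minimal _ (top_unique ?_))
      rw [← closure_xM_conj_xM (p := p) (by have := C.seven_le; omega), Subgroup.closure_le]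
      rintro _ (rfl | rfl)
      · exact ⟨x0, h1, hpx0⟩
      · exact ⟨w * x0 * w⁻¹, h2, by simp [hw, hpx0]⟩
    have h := Set.ncard_union_eq hd
    rw [hconj] at h
    have hle : (Fx x0 ∪ Fx (w * x0 * w⁻¹)).ncard ≤ Nat.card Ω := Set.ncard_le_card _
    omega
  · have h5 : 5 ≤ p := by omega
    have hlift : ∀ s : {s : SL(2, ZMod p) // orderOf s = 3}, ∃ g : G, C.π g = s.1 ∧
        (Fx g).ncard = (Fx x0).ncard := by
      intro s
      obtain ⟨c, hc⟩ := isConj_iff.1 (xM_conj h5 s.2).symm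
      obtain ⟨g, rfl⟩ := C.surj c
      exact ⟨g * x0 * g⁻¹, by rw [map_mul, map_mul, map_inv, hpx0, hc], hconj g x0⟩
    choose L hL hLf using hlift
    have := Fintype.ofFinite Ω
    have : Fintype {s : SL(2, ZMod p) // orderOf s = 3} := Fintype.ofFinite _
    have hsum := Finset.sum_card_bipartiteAbove_eq_sum_card_bipartiteBelow
      (fun (s : {s : SL(2, ZMod p) // orderOf s = 3}) (χ : Ω) => L s • χ = χ)
      (s := Finset.univ) (t := Finset.univ)
    have hleft : ∀ s : {s : SL(2, ZMod p) // orderOf s = 3},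
        (Finset.univ.bipartiteAbove (fun s (χ : Ω) => L s • χ = χ) s).card = (Fx x0).ncard := by
      intro s
      rw [← hLf s, Set.ncard_eq_toFinset_card']
      exact congrArg Finset.card (by ext χ; simp [Finset.bipartiteAbove, Fx])
    have hright : ∀ χ : Ω, (Finset.univ.bipartiteBelow
        (fun (s : {s : SL(2, ZMod p) // orderOf s = 3}) (χ : Ω) => L s • χ = χ) χ).card ≤ 24 := by
      intro χ
      have hM : (MulAction.stabilizer G χ).map C.π ≠ ⊤ := fun h => hnot χ (C.minimal _ h)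
      refine le_trans ?_ (sl_three_le hmod (by omega) _ hM)
      rw [← Nat.card_eq_finsetCard]
      refine Nat.card_le_card_of_injective
        (fun s => ⟨s.1.1, s.1.2, L s.1, (Finset.mem_filter.1 s.2).2, hL s.1⟩) ?_
      intro s t h
      exact Subtype.ext (Subtype.ext (Subtype.mk.inj h))
    rw [Finset.sum_congr rfl (fun s _ => hleft s), Finset.sum_const, smul_eq_mul,
      Finset.card_univ] at hsum
    have hb := (Finset.sum_le_sum fun χ (_ : χ ∈ Finset.univ) => hright χ)
    rw [← hsum, Finset.sum_const, smul_eq_mul, Finset.card_univ] at hb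
    have hmany := many_three (p := p) h11 hmod
    rw [Nat.card_eq_fintype_card] at hmany ⊢
    nlinarith [Nat.mul_le_mul_right (Fx x0).ncard hmany]

variable {K V : Type*} [Field K] [IsAlgClosed K] [AddCommGroup V] [Module K V]
  [FiniteDimensional K V]

/-- The elements of the kernel commuting with the kernel in the representation. -/
def kerCentre (C : Cover p G) (ρ : Representation K G V) : Subgroup G where
  carrier := {o | o ∈ C.π.ker ∧ ∀ o' ∈ C.π.ker, Commute (ρ o) (ρ o')}
  one_mem' := ⟨one_mem _, fun o' _ => by rw [map_one]; exact Commute.one_left _⟩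
  mul_mem' := fun {a b} ha hb => ⟨mul_mem ha.1 hb.1, fun o' ho' => by
    rw [map_mul]; exact (ha.2 o' ho').mul_left (hb.2 o' ho')⟩
  inv_mem' := fun {a} ha => ⟨inv_mem ha.1, fun o' ho' => by
    have h := (ha.2 o' ho').eq
    have e1 : ρ a⁻¹ * ρ a = 1 := by rw [← map_mul, inv_mul_cancel, map_one]
    have e2 : ρ a * ρ a⁻¹ = 1 := by rw [← map_mul, mul_inv_cancel, map_one]
    calc ρ a⁻¹ * ρ o' = ρ a⁻¹ * (ρ o' * ρ a) * ρ a⁻¹ := by
          rw [mul_assoc, mul_assoc (ρ o'), e2, mul_one]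
      _ = ρ o' * ρ a⁻¹ := by rw [← h, ← mul_assoc, e1, one_mul]⟩

instance kerCentre_normal (C : Cover p G) (ρ : Representation K G V) :
    (kerCentre C ρ).Normal where
  conj_mem o ho g := ⟨(MonoidHom.normal_ker C.π).conj_mem o ho.1 g, fun o' ho' => by
    have h2 : g⁻¹ * o' * g ∈ C.π.ker := by
      simpa using (MonoidHom.normal_ker C.π).conj_mem o' ho' g⁻¹
    have h := congrArg (fun f => ρ g * f * ρ g⁻¹) (ho.2 _ h2).eq
    simp only [← map_mul] at h
    rw [Commute, SemiconjBy, ← map_mul, ← map_mul]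
    convert h using 2 <;> group⟩

/-- The case of a kernel with non-scalar centre. -/
theorem kernel_monomial (C : Cover p G) (h3 : (3 : K) ≠ 0) (ρ : Representation K G V)
    (hs : IsSimpleRep ρ)
    (hZ : ¬ ∀ o ∈ C.π.ker, (∀ o' ∈ C.π.ker, ρ (o * o') = ρ (o' * o)) →
      ∃ c : K, ρ o = c • 1) {x : G} (hx : orderOf x = 3) :
    finrank K V ≤ 6 * fixDim ρ x ∧
      (p % 3 = 2 → 11 ≤ p → finrank K V ≤ 4 * fixDim ρ x) := by
  push Not at hZ
  obtain ⟨o, ho, hcomm, hns⟩ := hZ
  set A := kerCentre C ρ with hA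
  have hoA : o ∈ A := ⟨ho, fun o' ho' => by
    rw [Commute, SemiconjBy, ← map_mul, ← map_mul, hcomm o' ho']⟩
  have hc : ∀ a b : A, ρ ((a : G) * b) = ρ ((b : G) * a) := fun a b => by
    rw [map_mul, map_mul, (a.2.2 b b.2.1).eq]
  obtain ⟨htr, hsub, hbound⟩ := exists_perm hs hc
  have := om_finite ρ A hc
  have hne : ∃ a b : Om ρ A, a ≠ b := by
    by_contra h
    push Not at h
    obtain ⟨c, hc'⟩ := hsub h o hoA
    exact hns c hc'
  obtain ⟨d, hD, hle⟩ := hbound x (hx ▸ pow_orderOf_eq_one x) h3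
  obtain ⟨h6, h4⟩ := fixed_share C htr hne hx
  refine ⟨?_, fun hm h11 => ?_⟩
  · have := Nat.mul_le_mul_right d h6
    rw [mul_assoc, ← hD] at this
    omega
  · have := Nat.mul_le_mul_right d (h4 hm h11)
    rw [mul_assoc, ← hD] at this
    omega

end CfsgLib.FixSixth
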