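import Cfsg.Agent.Lib.FixSixth.Basic

/-!
S5720, piece 4b, linear algebra: an endomorphism algebra graded by commutation characters bounds the
commutant of an element of order three.
-/

set_option autoImplicit false
set_option linter.style.haveILetI false

namespace CfsgLib.FixSixth.KExtra

open Module

variable {K V : Type*} [Field K] [AddCommGroup V] [Module K V] [FiniteDimensional K V]

theorem finrank_endo : finrank K (Module.End K V) = finrank K V * finrank K V :=
  Module.finrank_linearMap K K V V

/-- An eigenspace. -/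
def eig (T : Module.End K V) (l : K) : Submodule K V := LinearMap.ker (T - l • 1)

theorem mem_eig {T : Module.End K V} {l : K} {v : V} : v ∈ eig T l ↔ T v = l • v := by
  simp [eig, LinearMap.mem_ker, sub_eq_zero]

/-- The idempotent onto an eigenspace of an element of order three. -/
noncomputable def idem (T : Module.End K V) (l : K) : Module.End K V :=
  (3 : K)⁻¹ • (1 + l ^ 2 • T + l • (T * T))

theorem idem_mem {T : Module.End K V} (hT : T * T * T = 1) {l : K} (hl : l ^ 3 = 1) (v : V) :
    idem T l v ∈ eig T l := by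
  rw [mem_eig, idem]
  simp only [LinearMap.smul_apply, LinearMap.add_apply, Module.End.one_apply, Module.End.mul_apply,
    map_smul, map_add]
  have h3 : T (T (T v)) = v := by
    have := LinearMap.congr_fun hT v
    simpa using this
  rw [h3]
  simp only [smul_add, smul_smul]
  rw [show l * ((3 : K)⁻¹ * l ^ 2) = (3 : K)⁻¹ from by linear_combination (3 : K)⁻¹ * hl,
    show l * (3 : K)⁻¹ = (3 : K)⁻¹ * l from mul_comm _ _,
    show l * ((3 : K)⁻¹ * l) = (3 : K)⁻¹ * l ^ 2 from by ring]
  abel

theorem idem_eig {T : Module.End K V} {l m : K} {v : V} (hv : v ∈ eig T m) :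
    idem T l v = ((3 : K)⁻¹ * (1 + l ^ 2 * m + l * m ^ 2)) • v := by
  rw [mem_eig] at hv
  simp only [idem, LinearMap.smul_apply, LinearMap.add_apply, Module.End.one_apply,
    Module.End.mul_apply, hv, map_smul]
  module

theorem idem_comm {T : Module.End K V} (hT : T * T * T = 1) {l : K} (hl : l ^ 3 = 1) (v : V) :
    idem T l (T v) = l • idem T l v := by
  rw [← mem_eig.1 (idem_mem hT hl v)]
  simp only [idem, LinearMap.smul_apply, LinearMap.add_apply, Module.End.one_apply,
    Module.End.mul_apply, map_smul, map_add]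

/-- The projection onto an eigenspace. -/
noncomputable def proj {T : Module.End K V} (hT : T * T * T = 1) {l : K} (hl : l ^ 3 = 1) :
    V →ₗ[K] eig T l :=
  (idem T l).codRestrict _ (idem_mem hT hl)

theorem commutant_lower [IsAlgClosed K] (h3 : (3 : K) ≠ 0) (T : Module.End K V) (hT : T * T * T = 1)
    (F : Submodule K (Module.End K V)) (hF : ∀ S, T * S = S * T → S ∈ F) :
    ∃ m₁ m₂ : ℕ, finrank K V = finrank K (LinearMap.ker (T - 1)) + m₁ + m₂ ∧
      finrank K (LinearMap.ker (T - 1)) * finrank K (LinearMap.ker (T - 1)) + m₁ * m₁ + m₂ * m₂ ≤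
        finrank K F := by
  obtain ⟨w, hw⟩ := IsAlgClosed.exists_root (Polynomial.X ^ 2 + Polynomial.X + 1 : Polynomial K) (by
    rw [show (Polynomial.X ^ 2 + Polynomial.X + 1 : Polynomial K).degree = 2 by compute_degree!]
    norm_num)
  have hw' : w ^ 2 + w + 1 = 0 := by simpa [Polynomial.IsRoot] using hw
  have hl0 : (1 : K) ^ 3 = 1 := one_pow 3
  have hl1 : w ^ 3 = 1 := by linear_combination (w - 1) * hw'
  have hl2 : (w ^ 2) ^ 3 = 1 := by linear_combination (w ^ 3 + 1) * hl1
  set p0 := proj (V := V) hT hl0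
  set p1 := proj (V := V) hT hl1
  set p2 := proj (V := V) hT hl2
  have hsum : ∀ v : V, (p0 v : V) + (p1 v : V) + (p2 v : V) = v := by
    intro v
    show idem T 1 v + idem T w v + idem T (w ^ 2) v = v
    simp only [idem, LinearMap.smul_apply, LinearMap.add_apply, Module.End.one_apply,
      Module.End.mul_apply]
    match_scalars
    · field_simp
      norm_num
    · field_simp
      linear_combination (w ^ 2 - w + 1) * hw'
    · field_simp
      linear_combination hw'
  have same : ∀ {l : K} (hl : l ^ 3 = 1) (v : eig T l), proj hT hl (v : V) = v := by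
    intro l hl v
    refine Subtype.ext ?_
    show idem T l (v : V) = v
    rw [idem_eig v.2, show (1 : K) + l ^ 2 * l + l * l ^ 2 = 3 by linear_combination 2 * hl,
      inv_mul_cancel₀ h3, one_smul]
  have diff : ∀ {l m : K} (hl : l ^ 3 = 1), m ^ 3 = 1 → 1 + l ^ 2 * m + l * m ^ 2 = 0 →
      ∀ v : eig T m, proj hT hl (v : V) = 0 := by
    intro l m hl _ h v
    refine Subtype.ext ?_
    show idem T l (v : V) = 0
    rw [idem_eig v.2, h, mul_zero, zero_smul]
  have d10 : (1 : K) + w ^ 2 * 1 + w * 1 ^ 2 = 0 := by linear_combination hw'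
  have d20 : (1 : K) + (w ^ 2) ^ 2 * 1 + w ^ 2 * 1 ^ 2 = 0 := by linear_combination (w ^ 2 - w + 1) * hw'
  have d01 : (1 : K) + 1 ^ 2 * w + 1 * w ^ 2 = 0 := by linear_combination hw'
  have d21 : (1 : K) + (w ^ 2) ^ 2 * w + w ^ 2 * w ^ 2 = 0 := by
    linear_combination hw' + (w ^ 2 + w) * hl1
  have d02 : (1 : K) + 1 ^ 2 * w ^ 2 + 1 * (w ^ 2) ^ 2 = 0 := by linear_combination (w ^ 2 - w + 1) * hw'
  have d12 : (1 : K) + w ^ 2 * w ^ 2 + w * (w ^ 2) ^ 2 = 0 := by
    linear_combination hw' + (w ^ 2 + w) * hl1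
  let e : V ≃ₗ[K] eig T 1 × eig T w × eig T (w ^ 2) :=
    LinearEquiv.ofLinear (p0.prod (p1.prod p2))
      ((eig T 1).subtype.coprod ((eig T w).subtype.coprod (eig T (w ^ 2)).subtype))
      (LinearMap.ext fun a => by
        obtain ⟨a, b, c⟩ := a
        refine Prod.ext ?_ (Prod.ext ?_ ?_) <;>
          simp [p0, p1, p2, same, diff hl0 hl1 d01, diff hl0 hl2 d02, diff hl1 hl0 d10,
            diff hl1 hl2 d12, diff hl2 hl0 d20, diff hl2 hl1 d21])
      (LinearMap.ext fun v => by simpa [add_assoc] using hsum v)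
  have hker : LinearMap.ker (T - 1) = eig T 1 := by rw [eig, one_smul]
  refine ⟨finrank K (eig T w), finrank K (eig T (w ^ 2)), ?_, ?_⟩
  · rw [hker, e.finrank_eq, finrank_prod, finrank_prod, add_assoc]
  let ι : (Module.End K (eig T 1) × Module.End K (eig T w) × Module.End K (eig T (w ^ 2))) →ₗ[K]
      Module.End K V :=
    { toFun := fun f => (eig T 1).subtype ∘ₗ f.1 ∘ₗ p0 + (eig T w).subtype ∘ₗ f.2.1 ∘ₗ p1 +
        (eig T (w ^ 2)).subtype ∘ₗ f.2.2 ∘ₗ p2
      map_add' := fun f g => by ext v; simp; abel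
      map_smul' := fun c f => by ext v; simp }
  have hι : ∀ f, ι f ∈ F := by
    intro f
    refine hF _ (LinearMap.ext fun v => ?_)
    have c0 : p0 (T v) = (1 : K) • p0 v := Subtype.ext (idem_comm hT hl0 v)
    have c1 : p1 (T v) = w • p1 v := Subtype.ext (idem_comm hT hl1 v)
    have c2 : p2 (T v) = w ^ 2 • p2 v := Subtype.ext (idem_comm hT hl2 v)
    simp only [Module.End.mul_apply, ι, LinearMap.coe_mk, AddHom.coe_mk, LinearMap.add_apply,
      LinearMap.comp_apply, Submodule.coe_subtype, map_add, c0, c1, c2, map_smul,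
      Submodule.coe_smul]
    rw [mem_eig.1 (f.1 (p0 v)).2, mem_eig.1 (f.2.1 (p1 v)).2, mem_eig.1 (f.2.2 (p2 v)).2]
  have hinj : Function.Injective (ι.codRestrict F hι) := by
    rw [← LinearMap.ker_eq_bot, LinearMap.ker_codRestrict, LinearMap.ker_eq_bot']
    intro f hf
    have key : ∀ v : V, (f.1 (p0 v) : V) + (f.2.1 (p1 v) : V) + (f.2.2 (p2 v) : V) = 0 := fun v => by
      simpa [ι] using LinearMap.congr_fun hf v
    refine Prod.ext (LinearMap.ext fun v => ?_) (Prod.ext (LinearMap.ext fun v => ?_)
      (LinearMap.ext fun v => ?_))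
    · simpa [p0, p1, p2, same, diff hl1 hl0 d10, diff hl2 hl0 d20] using key (v : V)
    · simpa [p0, p1, p2, same, diff hl0 hl1 d01, diff hl2 hl1 d21] using key (v : V)
    · simpa [p0, p1, p2, same, diff hl0 hl2 d02, diff hl1 hl2 d12] using key (v : V)
  have := LinearMap.finrank_le_finrank_of_injective hinj
  rw [finrank_prod, finrank_prod, finrank_endo, finrank_endo, finrank_endo, ← add_assoc] at this
  rw [hker]
  exact this

variable {M B : Type*} [CommGroup M] [CommGroup B] [Finite M] [Finite B]

/-- **The graded bound.** -/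
theorem grade_bound (hM : (Nat.card M : K) ≠ 0) (hB : (Nat.card B : K) ≠ 0)
    (R : M → (Module.End K V)ˣ) (S : B → (Module.End K V)ˣ) (c : M → B → Kˣ)
    (hR : ∀ f g, ∃ μ : K, μ ≠ 0 ∧ (R f : Module.End K V) * R g = μ • (R (f * g) : Module.End K V))
    (hRS : ∀ f k, (R f : Module.End K V) * S k = (c f k : K) • ((S k : Module.End K V) * R f))
    (hc1 : ∀ f g k, c (f * g) k = c f k * c g k) (hc2 : ∀ f k l, c f (k * l) = c f k * c f l)
    (hn1 : ∀ f, f ≠ 1 → ∃ k, c f k ≠ 1) (hn2 : ∀ k, k ≠ 1 → ∃ f, c f k ≠ 1)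
    (T : (Module.End K V)ˣ) (φ : B ≃ B) (hφ : ∀ k, φ (φ (φ k)) = k)
    (ψ : M → M) (hψ : Function.Surjective ψ)
    (hTS : ∀ k, ∃ a : Module.End K V, (∀ f, (R f : Module.End K V) * a = a * R f) ∧
      (T : Module.End K V) * S k = (S (φ k) : Module.End K V) * a * T)
    (hTR : ∀ f, ∃ ν : K, ν ≠ 0 ∧ (T : Module.End K V) * R f = ν • ((R (ψ f) : Module.End K V) * T))
    (F : Submodule K (Module.End K V))
    (hF : ∀ U ∈ F, (T : Module.End K V) * U = U * T) :
    3 * Nat.card B * finrank K F ≤
      finrank K V * finrank K V * (Nat.card B + 2 * Nat.card {k : B // φ k = k}) := by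
  classical
  haveI := Fintype.ofFinite M
  haveI := Fintype.ofFinite B
  let A : Submodule K (Module.End K V) :=
    { carrier := {a | ∀ f, (R f : Module.End K V) * a = a * R f}
      add_mem' := fun {a b} ha hb f => by rw [mul_add, add_mul, ha f, hb f]
      zero_mem' := fun f => by rw [mul_zero, zero_mul]
      smul_mem' := fun r a ha f => by rw [mul_smul_comm, smul_mul_assoc, ha f] }
  let Φ : (B → A) →ₗ[K] Module.End K V :=
    { toFun := fun a => ∑ k, (S k : Module.End K V) * (a k : Module.End K V)
      map_add' := fun a b => by simp [mul_add, Finset.sum_add_distrib]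
      map_smul' := fun r a => by simp [Finset.smul_sum] }
  let P : B → Module.End K V → Module.End K V := fun k U =>
    ∑ f, ((c f k : K))⁻¹ • ((R f : Module.End K V) * U * ↑(R f)⁻¹)
  have hPadd : ∀ k U W, P k (U + W) = P k U + P k W := fun k U W => by
    simp [P, mul_add, add_mul, Finset.sum_add_distrib]
  have hPsum : ∀ (k : B) (U : B → Module.End K V), P k (∑ l, U l) = ∑ l, P k (U l) := fun k U => by
    simp only [P, Finset.mul_sum, Finset.sum_mul, Finset.smul_sum]
    rw [Finset.sum_comm]
  -- the orthogonality relations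
  have orth2 : ∀ k, k ≠ 1 → (∑ f, (c f k : K)) = 0 := by
    intro k hk
    obtain ⟨f0, hf0⟩ := hn2 k hk
    have h : (c f0 k : K) * (∑ f, (c f k : K)) = ∑ f, (c f k : K) := by
      rw [Finset.mul_sum]
      exact Fintype.sum_equiv (Equiv.mulLeft f0) _ _ fun f => by simp [hc1]
    refine by_contra fun h0 => hf0 (Units.ext ?_)
    exact mul_right_cancel₀ h0 (h.trans (one_mul _).symm)
  have orth1 : ∀ f, f ≠ 1 → (∑ k, ((c f k : K))⁻¹) = 0 := by
    intro f hf
    obtain ⟨k0, hk0⟩ := hn1 f hf
    have h : ((c f k0 : K))⁻¹ * (∑ k, ((c f k : K))⁻¹) = ∑ k, ((c f k : K))⁻¹ := by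
      rw [Finset.mul_sum]
      exact Fintype.sum_equiv (Equiv.mulLeft k0) _ _ fun k => by
        simp [hc2, mul_inv_rev, mul_comm]
    refine by_contra fun h0 => hk0 (Units.ext ?_)
    exact inv_eq_one.1 (mul_right_cancel₀ h0 (h.trans (one_mul _).symm))
  have c1k : ∀ k, c 1 k = 1 := fun k => by
    have := hc1 1 1 k
    rw [one_mul] at this
    exact left_eq_mul.1 this
  have cf1 : ∀ f, c f 1 = 1 := fun f => by
    have := hc2 f 1 1
    rw [one_mul] at this
    exact left_eq_mul.1 this
  have hPS : ∀ k l (a : A), P k ((S l : Module.End K V) * a) =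
      (if l = k then (Nat.card M : K) else 0) • ((S l : Module.End K V) * a) := by
    intro k l a
    have h1 : ∀ f, (R f : Module.End K V) * ((S l : Module.End K V) * a) * ↑(R f)⁻¹ =
        (c f l : K) • ((S l : Module.End K V) * a) := fun f => by
      rw [← mul_assoc, hRS, smul_mul_assoc, mul_assoc (S l : Module.End K V), a.2 f,
        smul_mul_assoc, ← mul_assoc, mul_assoc, Units.mul_inv, mul_one]
    simp only [P, h1, smul_smul, ← Finset.sum_smul]
    congr 1
    split_ifs with h
    · subst h; simp [Nat.card_eq_fintype_card]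
    · have h2 : ∀ f, ((c f k : K))⁻¹ * (c f l : K) = (c f (l * k⁻¹) : K) := fun f => by
        have := hc2 f (l * k⁻¹) k
        rw [inv_mul_cancel_right] at this
        rw [this, Units.val_mul]
        field_simp
      simp only [h2]
      exact orth2 _ (fun e => h (mul_inv_eq_one.1 e))
  have hinj : Function.Injective Φ := by
    rw [← LinearMap.ker_eq_bot, LinearMap.ker_eq_bot']
    intro a ha
    funext k
    have h0 : P k (Φ a) = 0 := by rw [ha]; simp [P]
    have h1 : P k (Φ a) = (Nat.card M : K) • ((S k : Module.End K V) * a k) := by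
      show P k (∑ l, _) = _
      rw [hPsum, Finset.sum_eq_single k]
      · rw [hPS, if_pos rfl]
      · exact fun l _ hl => by rw [hPS, if_neg hl, zero_smul]
      · simp
    rw [h0] at h1
    have h2 := (smul_eq_zero.1 h1.symm).resolve_left hM
    exact Subtype.ext ((Units.mul_right_eq_zero (S k)).1 h2)
  have hsur : Function.Surjective Φ := by
    intro U
    have hcomm : ∀ k g, (R g : Module.End K V) * P k U = (c g k : K) • (P k U * R g) := by
      intro k g
      simp only [P, Finset.mul_sum, Finset.sum_mul, Finset.smul_sum]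
      refine Fintype.sum_equiv (Equiv.mulLeft g) _ _ fun f => ?_
      obtain ⟨μ, hμ, hm⟩ := hR g f
      have hi : (↑(R (g * f))⁻¹ : Module.End K V) * R g = μ • ↑(R f)⁻¹ := by
        calc (↑(R (g * f))⁻¹ : Module.End K V) * R g
            = ↑(R (g * f))⁻¹ * ((R g : Module.End K V) * R f) * ↑(R f)⁻¹ := by
              simp [mul_assoc]
          _ = _ := by rw [hm, mul_smul_comm, Units.inv_mul, smul_mul_assoc, one_mul]
      simp only [Equiv.coe_mulLeft, mul_smul_comm, smul_mul_assoc, smul_smul, hc1, Units.val_mul]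
      rw [mul_assoc _ (↑(R (g * f))⁻¹ : Module.End K V) _, hi, ← mul_assoc (R g : Module.End K V),
        ← mul_assoc (R g : Module.End K V), hm]
      simp only [smul_mul_assoc, mul_smul_comm, smul_smul]
      congr 1
      field_simp
    let a : B → A := fun k => ⟨(↑(S k)⁻¹ : Module.End K V) * P k U, fun g => by
      have hr : (R g : Module.End K V) * ↑(S k)⁻¹ = ((c g k : K))⁻¹ • (↑(S k)⁻¹ * R g) := by
        have h := congrArg (fun W => (↑(S k)⁻¹ : Module.End K V) * W * ↑(S k)⁻¹) (hRS g k)
        simp only [mul_smul_comm, smul_mul_assoc] at h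
        rw [← mul_assoc, mul_assoc _ (S k : Module.End K V) (↑(S k)⁻¹ : Module.End K V), Units.mul_inv,
          mul_one, ← mul_assoc, Units.inv_mul, one_mul] at h
        rw [h, smul_smul, inv_mul_cancel₀ (Units.ne_zero _), one_smul]
      rw [← mul_assoc, hr, smul_mul_assoc, mul_assoc, hcomm, mul_smul_comm, smul_smul,
        inv_mul_cancel₀ (Units.ne_zero _), one_smul, mul_assoc]⟩
    refine ⟨(Nat.card B : K)⁻¹ • a, ?_⟩
    have h1 : Φ a = (Nat.card B : K) • U := by
      show ∑ k, (S k : Module.End K V) * ((↑(S k)⁻¹ : Module.End K V) * P k U) = _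
      simp only [← mul_assoc, Units.mul_inv, one_mul, P]
      rw [Finset.sum_comm]
      simp only [← Finset.sum_smul]
      rw [Finset.sum_eq_single (1 : M)]
      · have hR1 : ∃ μ : K, μ ≠ 0 ∧ (R 1 : Module.End K V) = μ • 1 := by
          obtain ⟨μ, hμ, hm⟩ := hR 1 1
          refine ⟨μ, hμ, ?_⟩
          have h := congrArg (fun W => (↑(R 1)⁻¹ : Module.End K V) * W) hm
          rwa [one_mul, ← mul_assoc, Units.inv_mul, one_mul, mul_smul_comm, Units.inv_mul] at h
        obtain ⟨μ, hμ, hm⟩ := hR1
        have : (R 1 : Module.End K V) * U * ↑(R 1)⁻¹ = U := by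
          rw [hm, smul_mul_assoc, one_mul, ← mul_one U, ← mul_smul_comm μ, mul_assoc U,
            ← hm, Units.mul_inv, mul_one]
        simp only [this, c1k, Units.val_one, inv_one, Finset.sum_const, Finset.card_univ,
          nsmul_eq_mul, mul_one, Nat.card_eq_fintype_card]
      · intro f _ hf
        rw [orth1 f hf, zero_smul]
      · simp
    rw [map_smul, h1, smul_smul, inv_mul_cancel₀ hB, one_smul]
  let e : (B → A) ≃ₗ[K] Module.End K V := LinearEquiv.ofBijective Φ ⟨hinj, hsur⟩
  have hdim : Nat.card B * finrank K A = finrank K V * finrank K V := by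
    rw [← finrank_endo (K := K) (V := V), ← e.finrank_eq, Module.finrank_pi_fintype,
      Finset.sum_const, Finset.card_univ, smul_eq_mul, Nat.card_eq_fintype_card]
  -- conjugation by `T` permutes the pieces
  choose ν hν0 hν using hTS
  have hTA : ∀ a : A, (T : Module.End K V) * a * ↑T⁻¹ ∈ A := by
    intro a f
    obtain ⟨f, rfl⟩ := hψ f
    obtain ⟨μ, hμ, hm⟩ := hTR f
    have e1 : (R (ψ f) : Module.End K V) * T = μ⁻¹ • ((T : Module.End K V) * R f) := by
      rw [hm, smul_smul, inv_mul_cancel₀ hμ, one_smul]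
    have e2 : (↑T⁻¹ : Module.End K V) * R (ψ f) = μ⁻¹ • ((R f : Module.End K V) * ↑T⁻¹) := by
      have h := congrArg (fun W => (↑T⁻¹ : Module.End K V) * W * ↑T⁻¹) e1
      simp only [mul_smul_comm, smul_mul_assoc] at h
      rwa [mul_assoc _ (_ * _ : Module.End K V), mul_assoc (R (ψ f) : Module.End K V), Units.mul_inv, mul_one,
        ← mul_assoc _ (T : Module.End K V), Units.inv_mul, one_mul] at h
    rw [← mul_assoc, ← mul_assoc, e1, smul_mul_assoc, smul_mul_assoc, mul_assoc (T : Module.End K V),
      a.2 f, mul_assoc _ (↑T⁻¹ : Module.End K V), e2, mul_smul_comm]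
    simp only [mul_assoc]
  have heq : ∀ a : B → A, (T : Module.End K V) * Φ a = Φ a * T →
      ∀ k, (a (φ k) : Module.End K V) = ν k * ((T : Module.End K V) * a k * ↑T⁻¹) := by
    intro a ha k
    let a' : B → A := fun j => ⟨ν (φ.symm j) * ((T : Module.End K V) * a (φ.symm j) * ↑T⁻¹),
      fun f => by rw [← mul_assoc, hν0, mul_assoc, hTA (a (φ.symm j)) f, mul_assoc (ν _)]⟩
    have h1 : Φ a' * (T : Module.End K V) = (T : Module.End K V) * Φ a := by
      show (∑ j, _) * (T : Module.End K V) = (T : Module.End K V) * ∑ j, _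
      rw [Finset.sum_mul, Finset.mul_sum]
      refine (Fintype.sum_equiv φ _ _ fun i => ?_).symm
      show _ = (S (φ i) : Module.End K V) * (ν (φ.symm (φ i)) *
        ((T : Module.End K V) * a (φ.symm (φ i)) * ↑T⁻¹)) * T
      rw [Equiv.symm_apply_apply, ← mul_assoc, hν]
      simp only [mul_assoc, Units.inv_mul, mul_one]
    have h2 : Φ a' = Φ a := (Units.mul_left_inj T).1 (h1.trans ha)
    have h3 := congrArg Subtype.val (congrFun (hinj h2) (φ k))
    rw [← h3]
    show ν (φ.symm (φ k)) * ((T : Module.End K V) * a (φ.symm (φ k)) * ↑T⁻¹) = _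
    rw [Equiv.symm_apply_apply]
  -- orbit representatives
  let o : B ≃ Fin (Fintype.card B) := Fintype.equivFin B
  let Rp : Finset B := {k | o k ≤ o (φ k) ∧ o k ≤ o (φ (φ k))}
  let res : F →ₗ[K] (Rp → A) :=
    { toFun := fun U k => e.symm (U : Module.End K V) k
      map_add' := fun U W => by ext k; simp
      map_smul' := fun r U => by ext k; simp }
  have hres : Function.Injective res := by
    rw [← LinearMap.ker_eq_bot, LinearMap.ker_eq_bot']
    intro U hU
    set a := e.symm (U : Module.End K V) with ha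
    have hΦ : Φ a = U := e.apply_symm_apply _
    have step : ∀ k, (a k : Module.End K V) = 0 → (a (φ k) : Module.End K V) = 0 := fun k hk => by
      rw [heq a (by rw [hΦ]; exact hF _ U.2) k, hk, mul_zero, zero_mul, mul_zero]
    have hR0 : ∀ k ∈ Rp, (a k : Module.End K V) = 0 := fun k hk =>
      congrArg Subtype.val (congrFun hU ⟨k, hk⟩)
    have hall : a = 0 := by
      funext k
      refine Subtype.ext ?_
      have h0 : k ∈ Rp ∨ φ k ∈ Rp ∨ φ (φ k) ∈ Rp := by
        simp only [Rp, Finset.mem_filter, Finset.mem_univ, true_and, hφ, Fin.le_def]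
        omega
      rcases h0 with hm | hm | hm
      · exact hR0 k hm
      · have := step _ (step _ (hR0 _ hm))
        rwa [hφ] at this
      · have := step _ (hR0 _ hm)
        rwa [hφ] at this
    exact Subtype.ext (by rw [← hΦ, hall, map_zero]; rfl)
  have hle : finrank K F ≤ Rp.card * finrank K A := by
    have := LinearMap.finrank_le_finrank_of_injective hres
    rwa [Module.finrank_pi_fintype, Finset.sum_const, Finset.card_univ, smul_eq_mul,
      Fintype.card_coe] at this
  -- counting the orbits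
  have hcount : 3 * Rp.card ≤ Nat.card B + 2 * Nat.card {k : B // φ k = k} := by
    rw [Nat.card_eq_fintype_card, Nat.card_eq_fintype_card,
      Fintype.card_subtype (fun k : B => φ k = k)]
    set Fx : Finset B := {k | φ k = k}
    have hsub : ∀ k ∈ Rp \ Fx, φ k ∉ Rp \ Fx ∧ φ (φ k) ∉ Rp \ Fx := by
      intro k hk
      simp only [Finset.mem_sdiff, Rp, Fx, Finset.mem_filter, Finset.mem_univ, true_and] at hk
      obtain ⟨⟨h1, h2⟩, h3⟩ := hk
      constructor <;> intro hm <;>
        simp only [Finset.mem_sdiff, Rp, Fx, Finset.mem_filter, Finset.mem_univ, true_and, hφ] at hm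
      · exact h3 (o.injective (le_antisymm hm.1.2 h1))
      · have := o.injective (le_antisymm hm.1.1 h2)
        exact h3 (by conv_lhs => rw [← this, hφ])
    have himg : ((Rp \ Fx) ×ˢ ({0, 1, 2} : Finset (Fin 3))).card ≤ (Finset.univ \ Fx).card := by
      refine Finset.card_le_card_of_injOn
        (fun q => if q.2 = 0 then q.1 else if q.2 = 1 then φ q.1 else φ (φ q.1)) ?_ ?_
      · intro q hq
        rw [Finset.mem_coe, Finset.mem_product] at hq
        have hk := (Finset.mem_sdiff.1 hq.1).2
        simp only [Fx, Finset.mem_filter, Finset.mem_univ, true_and] at hk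
        simp only [Finset.coe_sdiff, Finset.coe_univ, Set.mem_sdiff, Set.mem_univ, true_and, Fx,
          Finset.coe_filter, Set.mem_setOf_eq, Finset.mem_univ]
        split_ifs
        · exact hk
        · exact fun h => hk (φ.injective h)
        · exact fun h => hk (φ.injective (φ.injective h))
      · rintro ⟨k, i⟩ hq ⟨l, j⟩ hq' h
        have hk : k ∈ Rp \ Fx := (Finset.mem_product.1 (Finset.mem_coe.1 hq)).1
        have hl : l ∈ Rp \ Fx := (Finset.mem_product.1 (Finset.mem_coe.1 hq')).1
        have n1 : ∀ {u v}, u ∈ Rp \ Fx → v ∈ Rp \ Fx → φ u ≠ v ∧ φ (φ u) ≠ v := fun hu hv =>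
          ⟨fun e => (hsub _ hu).1 (e.symm ▸ hv), fun e => (hsub _ hu).2 (e.symm ▸ hv)⟩
        fin_cases i <;> fin_cases j <;> simp at h <;>
          first
          | (subst h; rfl)
          | exact absurd h (n1 hk hl).1
          | exact absurd h (n1 hk hl).2
          | exact absurd h.symm (n1 hl hk).1
          | exact absurd h.symm (n1 hl hk).2
    rw [Finset.card_product, show ({0, 1, 2} : Finset (Fin 3)).card = 3 from rfl,
      Finset.card_univ_diff] at himg
    have h1 : Rp.card ≤ (Rp \ Fx).card + Fx.card := Finset.card_le_card_sdiff_add_card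
    have h2 : Fx.card ≤ Fintype.card B := Finset.card_le_univ _
    omega
  calc 3 * Nat.card B * finrank K F ≤ 3 * Nat.card B * (Rp.card * finrank K A) := by gcongr
    _ = (3 * Rp.card) * (Nat.card B * finrank K A) := by ring
    _ ≤ (Nat.card B + 2 * Nat.card {k : B // φ k = k}) * (finrank K V * finrank K V) := by
        rw [hdim]; gcongr
    _ = _ := by ring

end CfsgLib.FixSixth.KExtra
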