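import Cfsg.Agent.Lib.FixSixth.Averaging
import Cfsg.Agent.Lib.FixSixth.SL2Elem

/-!
# Homogeneous functions on the plane over `ZMod p` (S5720)

`funRep` is the representation of `SL(2, p)` on functions on the plane, `polyMod p K n` the span of
the monomial functions of degree `n` (zero at the origin).  For `n < p` this file gives its
irreducibility, its weights, and the fixed spaces of `uM 1` and `xM`.
-/

set_option autoImplicit false

namespace CfsgLib.FixSixth

open scoped MatrixGroups
open Matrix Module Finset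

variable {p : ℕ} [hp : Fact p.Prime] {K : Type*} [Field K] [CharP K p]

/-- The prime field inside `K`. -/
noncomputable def cK : ZMod p →+* K := ZMod.castHom (dvd_refl p) K

theorem cK_inj : Function.Injective (cK : ZMod p →+* K) := RingHom.injective _

/-- Action on functions on the plane. -/
noncomputable def funRep : Representation K SL(2, ZMod p) ((Fin 2 → ZMod p) → K) where
  toFun h := LinearMap.funLeft K K (fun P => (h⁻¹).1 *ᵥ P)
  map_one' := by
    refine LinearMap.ext fun f => funext fun P => ?_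
    simp [LinearMap.funLeft_apply]
  map_mul' g h := by
    refine LinearMap.ext fun f => funext fun P => ?_
    show f (((g * h)⁻¹).1 *ᵥ P) = f ((h⁻¹).1 *ᵥ ((g⁻¹).1 *ᵥ P))
    rw [Matrix.mulVec_mulVec, _root_.mul_inv_rev, Matrix.SpecialLinearGroup.coe_mul]

theorem funRep_apply (h : SL(2, ZMod p)) (f : (Fin 2 → ZMod p) → K) (P : Fin 2 → ZMod p) :
    funRep h f P = f ((h⁻¹).1 *ᵥ P) := rfl

theorem sl_mulVec_mulVec (g h : SL(2, ZMod p)) (P : Fin 2 → ZMod p) :
    g.1 *ᵥ (h.1 *ᵥ P) = (g * h).1 *ᵥ P := by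
  rw [Matrix.mulVec_mulVec, Matrix.SpecialLinearGroup.coe_mul]

theorem sl_mulVec_eq_zero (h : SL(2, ZMod p)) (P : Fin 2 → ZMod p) :
    h.1 *ᵥ P = 0 ↔ P = 0 := by
  refine ⟨fun e => ?_, fun e => by rw [e, Matrix.mulVec_zero]⟩
  have := congrArg (fun Q => (h⁻¹).1 *ᵥ Q) e
  simp only [sl_mulVec_mulVec, inv_mul_cancel, Matrix.mulVec_zero] at this
  rwa [Matrix.SpecialLinearGroup.coe_one, Matrix.one_mulVec] at this

/-- First coordinate. -/
noncomputable def cX : (Fin 2 → ZMod p) → K := fun P => cK (P 0)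

/-- Second coordinate. -/
noncomputable def cY : (Fin 2 → ZMod p) → K := fun P => cK (P 1)

/-- A monomial in two forms, zero at the origin. -/
noncomputable def pmon (A B : (Fin 2 → ZMod p) → K) (n i : ℕ) : (Fin 2 → ZMod p) → K :=
  fun P => if P = 0 then 0 else A P ^ i * B P ^ (n - i)

/-- Span of the monomials of degree `n` in two forms. -/
noncomputable def pspan (A B : (Fin 2 → ZMod p) → K) (n : ℕ) :
    Submodule K ((Fin 2 → ZMod p) → K) :=
  Submodule.span K (Set.range fun i : Fin (n + 1) => pmon A B n i)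

/-- Homogeneous polynomial functions of degree `n`. -/
noncomputable def polyMod (p : ℕ) [Fact p.Prime] (K : Type*) [Field K] [CharP K p] (n : ℕ) :
    Submodule K ((Fin 2 → ZMod p) → K) :=
  pspan cX cY n

theorem pmon_mem_pspan (A B : (Fin 2 → ZMod p) → K) {n i : ℕ} (hi : i ≤ n) :
    pmon A B n i ∈ pspan A B n :=
  Submodule.subset_span ⟨⟨i, Nat.lt_succ_of_le hi⟩, rfl⟩

theorem mul_mem_pspan {A B A' : (Fin 2 → ZMod p) → K} {α β : K}
    (hA : A' = α • A + β • B) {n : ℕ} {f : (Fin 2 → ZMod p) → K} (hf : f ∈ pspan A B n) :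
    A' * f ∈ pspan A B (n + 1) := by
  suffices h : pspan A B n ≤ (pspan A B (n + 1)).comap (LinearMap.mulLeft K A') from h hf
  refine Submodule.span_le.2 ?_
  rintro _ ⟨i, rfl⟩
  have hi : (i : ℕ) ≤ n := Nat.lt_succ_iff.1 i.2
  show A' * pmon A B n i ∈ pspan A B (n + 1)
  have e : A' * pmon A B n i
      = α • pmon A B (n + 1) (i + 1) + β • pmon A B (n + 1) i := by
    funext P
    by_cases hP : P = 0
    · simp [pmon, hP]
    · simp only [Pi.mul_apply, Pi.add_apply, Pi.smul_apply, smul_eq_mul, pmon, if_neg hP, hA]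
      rw [show n + 1 - ((i : ℕ) + 1) = n - i by omega,
        show n + 1 - (i : ℕ) = n - i + 1 by omega, pow_succ, pow_succ]
      ring
  rw [e]
  exact add_mem (Submodule.smul_mem _ _ (pmon_mem_pspan A B (by omega)))
    (Submodule.smul_mem _ _ (pmon_mem_pspan A B (by omega)))

theorem pspan_le {A B A' B' : (Fin 2 → ZMod p) → K} {α β γ δ : K}
    (hA : A' = α • A + β • B) (hB : B' = γ • A + δ • B) (n : ℕ) :
    pspan A' B' n ≤ pspan A B n := by
  have key : ∀ i j : ℕ, pmon A' B' (i + j) i ∈ pspan A B (i + j) := by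
    intro i
    induction i with
    | zero =>
      intro j
      induction j with
      | zero =>
        have e : pmon A' B' (0 + 0) 0 = pmon A B (0 + 0) 0 := by
          funext P; simp [pmon]
        rw [e]; exact pmon_mem_pspan A B le_rfl
      | succ j ih =>
        have e : pmon A' B' (0 + (j + 1)) 0 = B' * pmon A' B' (0 + j) 0 := by
          funext P
          by_cases hP : P = 0
          · simp [pmon, hP]
          · simp [pmon, if_neg hP, pow_succ']
        rw [e, show 0 + (j + 1) = 0 + j + 1 from rfl]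
        exact mul_mem_pspan hB ih
    | succ i ih =>
      intro j
      have e : pmon A' B' (i + 1 + j) (i + 1) = A' * pmon A' B' (i + j) i := by
        funext P
        by_cases hP : P = 0
        · simp [pmon, hP]
        · simp only [Pi.mul_apply, pmon, if_neg hP,
            show i + 1 + j - (i + 1) = i + j - i by omega]
          ring
      rw [e, show i + 1 + j = i + j + 1 by omega]
      exact mul_mem_pspan hA (ih j)
  refine Submodule.span_le.2 ?_
  rintro _ ⟨i, rfl⟩
  have := key i (n - i)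
  rwa [show (i : ℕ) + (n - i) = n by have := i.2; omega] at this

theorem cX_mulVec (M : Matrix (Fin 2) (Fin 2) (ZMod p)) :
    (fun P : Fin 2 → ZMod p => (cX (M *ᵥ P) : K))
      = ((cK (M 0 0) : K) • cX + (cK (M 0 1) : K) • cY : (Fin 2 → ZMod p) → K) := by
  funext P
  simp [cX, cY, Matrix.mulVec, dotProduct, Fin.sum_univ_two]

theorem cY_mulVec (M : Matrix (Fin 2) (Fin 2) (ZMod p)) :
    (fun P : Fin 2 → ZMod p => (cY (M *ᵥ P) : K))
      = ((cK (M 1 0) : K) • cX + (cK (M 1 1) : K) • cY : (Fin 2 → ZMod p) → K) := by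
  funext P
  simp [cX, cY, Matrix.mulVec, dotProduct, Fin.sum_univ_two]

theorem funRep_pmon (h : SL(2, ZMod p)) (A B : (Fin 2 → ZMod p) → K) (n i : ℕ) :
    funRep h (pmon A B n i)
      = pmon (fun P => A ((h⁻¹).1 *ᵥ P)) (fun P => B ((h⁻¹).1 *ᵥ P)) n i := by
  funext P
  simp only [funRep_apply, pmon, sl_mulVec_eq_zero]

theorem funRep_mem (h : SL(2, ZMod p)) {n : ℕ} {f : (Fin 2 → ZMod p) → K}
    (hf : f ∈ polyMod p K n) : funRep h f ∈ polyMod p K n := by
  suffices polyMod p K n ≤ (polyMod p K n).comap (funRep h) from this hf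
  refine Submodule.span_le.2 ?_
  rintro _ ⟨i, rfl⟩
  show funRep h (pmon cX cY n i) ∈ polyMod p K n
  rw [funRep_pmon]
  exact pspan_le (cX_mulVec _) (cY_mulVec _) n
    (pmon_mem_pspan _ _ (Nat.lt_succ_iff.1 i.2))

/-- The point `(x, 1)`. -/
def ptOne (x : ZMod p) : Fin 2 → ZMod p := ![x, 1]

/-- The point `(1, 0)`. -/
def ptInf : Fin 2 → ZMod p := ![1, 0]

theorem ptOne_ne (x : ZMod p) : ptOne x ≠ 0 := fun h => by
  simpa [ptOne] using congrFun h 1

theorem ptInf_ne : (ptInf : Fin 2 → ZMod p) ≠ 0 := fun h => by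
  simpa [ptInf] using congrFun h 0

theorem pmon_ptOne (n i : ℕ) (x : ZMod p) :
    (pmon cX cY n i (ptOne x) : K) = cK x ^ i := by
  simp [pmon, if_neg (ptOne_ne x), cX, cY, ptOne]

theorem pmon_ptInf {n i : ℕ} (hi : i ≤ n) :
    (pmon cX cY n i (ptInf : Fin 2 → ZMod p) : K) = if i = n then 1 else 0 := by
  simp only [pmon, if_neg ptInf_ne, cX, cY, ptInf]
  rcases eq_or_ne i n with rfl | hne
  · simp
  · simp [hne, zero_pow (show n - i ≠ 0 by omega)]

/-- A polynomial of degree `< p` vanishing on the prime field is zero. -/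
theorem coef_zero {n : ℕ} (hn : n ≤ p) (c : ℕ → K)
    (h : ∀ x : ZMod p, ∑ i ∈ range n, c i * cK x ^ i = 0) : ∀ i < n, c i = 0 := by
  intro i hi
  set Q : Polynomial K := ∑ i ∈ range n, Polynomial.C (c i) * Polynomial.X ^ i with hQ
  have hdeg : Q.natDegree < Fintype.card (ZMod p) := by
    rw [ZMod.card]
    have : Q.natDegree ≤ n - 1 := by
      refine Polynomial.natDegree_sum_le_of_forall_le _ _ fun j hj => ?_
      exact (Polynomial.natDegree_C_mul_X_pow_le _ _).trans (by
        have := mem_range.1 hj; omega)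
    omega
  have hQ0 : Q = 0 := Polynomial.eq_zero_of_natDegree_lt_card_of_eval_eq_zero Q cK_inj
    (fun x => by simpa [hQ, Polynomial.eval_finset_sum] using h x) hdeg
  have := congrArg (fun R => Polynomial.coeff R i) hQ0
  simpa [hQ, Polynomial.finset_sum_coeff, Polynomial.coeff_X_pow, hi] using this

theorem mem_polyMod {n : ℕ} {f : (Fin 2 → ZMod p) → K} (hf : f ∈ polyMod p K n) :
    ∃ c : ℕ → K, f = ∑ i ∈ range (n + 1), c i • pmon cX cY n i := by
  obtain ⟨c, hc⟩ := (Submodule.mem_span_range_iff_exists_fun K).1 hf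
  refine ⟨fun i => if h : i < n + 1 then c ⟨i, h⟩ else 0, ?_⟩
  rw [Finset.sum_range, ← hc]
  exact Finset.sum_congr rfl fun i _ => by simp [i.2]

theorem eval_ptOne (c : ℕ → K) (n : ℕ) (x : ZMod p) :
    (∑ i ∈ range (n + 1), c i • pmon cX cY n i : (Fin 2 → ZMod p) → K) (ptOne x)
      = ∑ i ∈ range (n + 1), c i * cK x ^ i := by
  simp [Finset.sum_apply, pmon_ptOne]

theorem linearIndependent_pmon {n : ℕ} (hn : n < p) :
    LinearIndependent K (fun i : Fin (n + 1) => (pmon cX cY n i : (Fin 2 → ZMod p) → K)) := by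
  refine Fintype.linearIndependent_iff.2 fun g hg i => ?_
  have := coef_zero (K := K) (n := n + 1) hn
    (fun j => if h : j < n + 1 then g ⟨j, h⟩ else 0) (fun x => by
      have := congrFun hg (ptOne x)
      rw [Finset.sum_range]
      simpa [Finset.sum_apply, pmon_ptOne, Nat.lt_succ_iff.1 (Fin.is_lt _)] using this) i i.2
  simpa [i.2] using this

theorem finrank_polyMod {n : ℕ} (hn : n < p) : finrank K (polyMod p K n) = n + 1 := by
  rw [polyMod, pspan, finrank_span_eq_card (linearIndependent_pmon hn), Fintype.card_fin]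

theorem uM_inv (c : ZMod p) : (uM p c)⁻¹ = uM p (-c) :=
  inv_eq_of_mul_eq_one_right (by rw [← uM_add, add_neg_cancel, uM_zero])

theorem uM_mulVec (c x y : ZMod p) : (uM p c).1 *ᵥ ![x, y] = ![x + c * y, y] := by
  funext k
  fin_cases k <;> simp [uM_val, Matrix.mulVec, dotProduct, Fin.sum_univ_two]

theorem funRep_uM_pmon_zero (c : ZMod p) (n : ℕ) :
    funRep (uM p c) (pmon cX cY n 0) = (pmon cX cY n 0 : (Fin 2 → ZMod p) → K) := by
  rw [funRep_pmon, cY_mulVec, uM_inv]
  funext P
  simp [pmon, uM_val, cY]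

/-- The fixed vectors of `uM 1` in degree `n < p`. -/
theorem fixed_uM {n : ℕ} (hn : n < p) {f : (Fin 2 → ZMod p) → K} (hf : f ∈ polyMod p K n)
    (hu : funRep (uM p 1) f = f) : ∃ r : K, f = r • pmon cX cY n 0 := by
  obtain ⟨c, rfl⟩ := mem_polyMod hf
  set f : (Fin 2 → ZMod p) → K := ∑ i ∈ range (n + 1), c i • pmon cX cY n i with hfdef
  have step : ∀ x : ZMod p, f (ptOne (x - 1)) = f (ptOne x) := fun x => by
    have := congrFun hu (ptOne x)
    rwa [funRep_apply, uM_inv, ptOne, uM_mulVec,
      show x + -1 * 1 = x - 1 by ring] at this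
  have all : ∀ k : ℕ, f (ptOne (k : ZMod p)) = f (ptOne 0) := by
    intro k
    induction k with
    | zero => simp
    | succ k ih => rw [← ih, ← step ((k + 1 : ℕ) : ZMod p)]; push_cast; ring_nf
  have h0 : f (ptOne 0) = c 0 := by
    rw [hfdef, eval_ptOne, map_zero, Finset.sum_eq_single 0]
    · simp
    · exact fun b _ hb => by simp [zero_pow hb]
    · simp
  have hc := coef_zero (K := K) (n := n + 1) hn (fun i => if i = 0 then 0 else c i) fun x => by
    have e : f (ptOne x) = c 0 := by
      rw [← h0, ← all x.val, ZMod.natCast_zmod_val]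
    rw [hfdef, eval_ptOne, ← Finset.add_sum_erase _ _ (mem_range.2 n.succ_pos)] at e
    rw [← Finset.add_sum_erase _ _ (mem_range.2 n.succ_pos)]
    simp only [pow_zero, mul_one, add_eq_left] at e
    simp only [if_true, zero_mul, zero_add]
    rw [← e]
    exact Finset.sum_congr rfl fun i hi => by rw [if_neg (ne_of_mem_erase hi)]
  refine ⟨c 0, Finset.sum_eq_single 0 (fun b hb hb0 => ?_) (by simp)⟩
  have := hc b (mem_range.1 hb)
  simp [hb0] at this
  simp [this]

omit [CharP K p] hp in
/-- A `p`-element fixes a nonzero vector of every nonzero invariant subspace. -/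
theorem exists_fixed_mem [Fact p.Prime] [CharP K p] {G V : Type*} [Group G] [AddCommGroup V]
    [Module K V] (ρ : Representation K G V) (g : G) (hg : g ^ p = 1)
    (W : Submodule K V) (hW : ∀ w ∈ W, ρ g w ∈ W) (hne : W ≠ ⊥) :
    ∃ w ∈ W, w ≠ 0 ∧ ρ g w = w := by
  obtain ⟨w0, hw0, hw00⟩ := Submodule.exists_mem_ne_zero_of_ne_bot hne
  haveI : Nontrivial V := ⟨⟨w0, 0, hw00⟩⟩
  haveI : CharP (Module.End K V) p :=
    charP_of_injective_algebraMap (algebraMap K (Module.End K V)).injective p
  set N := ρ g - 1 with hN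
  have hNp : N ^ p = 0 := by
    rw [hN, sub_pow_char_of_commute p (Commute.one_right _), ← map_pow, hg, map_one, one_pow,
      sub_self]
  classical
  have hex : ∃ k, (N ^ k) w0 = 0 := ⟨p, by rw [hNp]; rfl⟩
  have hk : Nat.find hex ≠ 0 := fun e => hw00 (by simpa [e] using Nat.find_spec hex)
  obtain ⟨k, hk'⟩ := Nat.exists_eq_succ_of_ne_zero hk
  have hmem : ∀ m, (N ^ m) w0 ∈ W := by
    intro m
    induction m with
    | zero => simpa using hw0
    | succ m ih =>
      rw [pow_succ', Module.End.mul_apply, hN, LinearMap.sub_apply, Module.End.one_apply]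
      exact sub_mem (hW _ ih) ih
  refine ⟨(N ^ k) w0, hmem k, Nat.find_min hex (by omega), ?_⟩
  have := Nat.find_spec hex
  rw [hk', pow_succ', Module.End.mul_apply, hN, LinearMap.sub_apply, Module.End.one_apply,
    sub_eq_zero] at this
  exact this

theorem uM_pow_p (c : ZMod p) : uM p c ^ p = 1 := by
  rw [uM_pow, ZMod.natCast_self, zero_mul, uM_zero]

/-- `polyMod p K n` is irreducible for `n < p`. -/
theorem polyMod_irred {n : ℕ} (hn : n < p) (W : Submodule K ((Fin 2 → ZMod p) → K))
    (hle : W ≤ polyMod p K n) (hst : ∀ h, ∀ f ∈ W, funRep h f ∈ W) (hne : W ≠ ⊥) :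
    W = polyMod p K n := by
  obtain ⟨f, hf, hf0, hfu⟩ := exists_fixed_mem funRep (uM p 1) (uM_pow_p 1) W (hst _) hne
  obtain ⟨r, rfl⟩ := fixed_uM hn (hle hf) hfu
  have hr : r ≠ 0 := fun e => hf0 (by simp [e])
  have hY : pmon cX cY n 0 ∈ W := by
    simpa [smul_smul, inv_mul_cancel₀ hr] using W.smul_mem r⁻¹ hf
  have hX : pmon cX cY n n ∈ W := by
    have e : (pmon cX cY n n : (Fin 2 → ZMod p) → K)
        = (-1 : K) ^ n • funRep (wM p) (pmon cX cY n 0) := by
      rw [funRep_pmon, cX_mulVec, cY_mulVec]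
      funext P
      by_cases hP : P = 0
      · simp [pmon, hP]
      · simp [pmon, if_neg hP, wM_val, Matrix.adjugate_fin_two, cX, cY, ← mul_pow]
    rw [e]; exact W.smul_mem _ (hst _ _ hY)
  refine le_antisymm hle (Submodule.span_le.2 ?_)
  rintro _ ⟨⟨i, hi⟩, rfl⟩
  by_contra hi'
  obtain ⟨φ, hφ, hφW⟩ := Submodule.exists_le_ker_of_notMem hi'
  set d : ℕ → K := fun j => (n.choose (n - j) : K) * φ (pmon cX cY n (n - j)) with hd
  have hz : ∀ c : ZMod p, ∑ j ∈ range (n + 1), d j * cK c ^ j = 0 := fun c => by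
    have e : funRep (uM p (-c)) (pmon cX cY n n)
        = ∑ i ∈ range (n + 1),
            ((n.choose i : K) * cK c ^ (n - i)) • (pmon cX cY n i : (Fin 2 → ZMod p) → K) := by
      rw [funRep_pmon, cX_mulVec, cY_mulVec, uM_inv, neg_neg]
      funext P
      by_cases hP : P = 0
      · simp [pmon, hP]
      · simp [pmon, if_neg hP, uM_val, Finset.sum_apply, cX, cY, add_pow, mul_pow]
        exact Finset.sum_congr rfl fun i _ => by ring
    have h0 : φ (funRep (uM p (-c)) (pmon cX cY n n)) = 0 := hφW (hst _ _ hX)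
    rw [e, map_sum] at h0
    rw [← Finset.sum_range_reflect, ← h0]
    refine Finset.sum_congr rfl fun j hj => ?_
    have := mem_range.1 hj
    rw [map_smul, smul_eq_mul, hd]
    dsimp only
    rw [show n + 1 - 1 - j = n - j by omega, show n - (n - j) = j by omega]
    ring
  have := coef_zero hn d hz (n - i) (by omega)
  simp only [hd, show n - (n - i) = i by omega, mul_eq_zero] at this
  rcases this with h | h
  · rw [CharP.cast_eq_zero_iff K p] at h
    have hdvd : p ∣ n.factorial := h.trans (Dvd.intro _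
      ((mul_assoc _ _ _).symm.trans (Nat.choose_mul_factorial_mul_factorial
        (show i ≤ n by omega))))
    exact absurd (hp.out.dvd_factorial.1 hdvd) (by omega)
  · exact hφ h

theorem pmon_smul_point (n : ℕ) {i : ℕ} (hi : i ≤ n) (l : ZMod p) (hl : l ≠ 0)
    (P : Fin 2 → ZMod p) :
    (pmon cX cY n i (l • P) : K) = cK l ^ n * pmon cX cY n i P := by
  by_cases hP : P = 0
  · simp [pmon, hP]
  · simp only [pmon, if_neg hP, if_neg (smul_ne_zero hl hP), cX, cY, Pi.smul_apply, smul_eq_mul,
      map_mul, mul_pow]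
    obtain ⟨k, rfl⟩ := Nat.exists_eq_add_of_le hi
    rw [Nat.add_sub_cancel_left, pow_add]
    ring

theorem sum_pow_zmod (k : ℕ) :
    ∑ x : ZMod p, x ^ k = if k ≠ 0 ∧ p - 1 ∣ k then -1 else 0 := by
  rcases eq_or_ne k 0 with rfl | hk
  · simp
  · have h : ∑ x : ZMod p, x ^ k = ∑ x : (ZMod p)ˣ, (x : ZMod p) ^ k := by
      rw [← Finset.sum_erase univ (f := fun x : ZMod p => x ^ k) (a := (0 : ZMod p)) (zero_pow hk)]
      refine (Finset.sum_bij (fun (x : (ZMod p)ˣ) _ => (x : ZMod p)) (fun x _ => by simp)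
        (fun x _ y _ e => Units.ext e) (fun y hy => ⟨Units.mk0 y (ne_of_mem_erase hy), by simp⟩)
        (fun x _ => rfl)).symm
    rw [h]
    have := FiniteField.sum_pow_units (ZMod p) k
    rw [ZMod.card] at this
    rw [this]
    simp [hk]

theorem cK_pow_card_sub_one {y : ZMod p} (hy : y ≠ 0) : (cK y : K) ^ (p - 1) = 1 := by
  rw [← map_pow, ZMod.pow_card_sub_one_eq_one hy, map_one]

/-- Pairing of a homogeneous function with a monomial of complementary degree. -/
theorem sum_pairing {a b : ℕ} (hab : a + b = p - 1) {f : (Fin 2 → ZMod p) → K} (hf0 : f 0 = 0)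
    (hhom : ∀ (l : ZMod p) (P : Fin 2 → ZMod p), l ≠ 0 → f (l • P) = cK l ^ a * f P)
    {j : ℕ} (hj : j ≤ b) :
    ∑ P : Fin 2 → ZMod p, f P * pmon cX cY b j P
      = -((∑ s : ZMod p, cK s ^ j * f (ptOne s)) + if j = b then f ptInf else 0) := by
  have hp1 : 1 ≤ p := hp.out.one_lt.le
  have hcard : (((univ.erase (0 : ZMod p)).card : ℕ) : K) = -1 := by
    rw [card_erase_of_mem (mem_univ _), card_univ, ZMod.card, Nat.cast_sub hp1, CharP.cast_eq_zero,
      Nat.cast_one, zero_sub]
  rw [← Equiv.sum_comp (finTwoArrowEquiv (ZMod p)).symm, Fintype.sum_prod_type, Finset.sum_comm,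
    ← Finset.add_sum_erase _ _ (mem_univ (0 : ZMod p))]
  have h1 : ∀ y ∈ univ.erase (0 : ZMod p),
      ∑ x : ZMod p, f ((finTwoArrowEquiv (ZMod p)).symm (x, y))
          * pmon cX cY b j ((finTwoArrowEquiv (ZMod p)).symm (x, y))
        = ∑ s : ZMod p, cK s ^ j * f (ptOne s) := fun y hy => by
    have hy0 : y ≠ 0 := ne_of_mem_erase hy
    rw [← Equiv.sum_comp (Equiv.mulRight₀ y hy0)]
    refine Finset.sum_congr rfl fun s _ => ?_
    have e : (finTwoArrowEquiv (ZMod p)).symm (s * y, y) = y • ptOne s := by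
      funext k; fin_cases k <;> simp [ptOne, mul_comm]
    simp only [Equiv.mulRight₀_apply, e, hhom y _ hy0, pmon_smul_point b hj y hy0, pmon_ptOne]
    calc cK y ^ a * f (ptOne s) * (cK y ^ b * cK s ^ j)
        = cK y ^ (a + b) * (cK s ^ j * f (ptOne s)) := by ring
      _ = cK s ^ j * f (ptOne s) := by rw [hab, cK_pow_card_sub_one hy0, one_mul]
  have h2 : ∑ x : ZMod p, f ((finTwoArrowEquiv (ZMod p)).symm (x, 0))
          * pmon cX cY b j ((finTwoArrowEquiv (ZMod p)).symm (x, 0))
        = -(if j = b then f ptInf else 0) := by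
    rw [← Finset.add_sum_erase _ _ (mem_univ (0 : ZMod p))]
    have e0 : (finTwoArrowEquiv (ZMod p)).symm ((0 : ZMod p), (0 : ZMod p)) = 0 := by
      funext k; fin_cases k <;> simp
    rw [e0, hf0, zero_mul, zero_add, Finset.sum_congr rfl (g := fun _ => if j = b then f ptInf else 0),
      Finset.sum_const, nsmul_eq_mul, hcard, neg_one_mul]
    intro x hx
    have hx0 : x ≠ 0 := ne_of_mem_erase hx
    have e : (finTwoArrowEquiv (ZMod p)).symm (x, (0 : ZMod p)) = x • (ptInf : Fin 2 → ZMod p) := by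
      funext k; fin_cases k <;> simp [ptInf]
    rw [e, hhom x _ hx0, pmon_smul_point b hj x hx0, pmon_ptInf hj]
    split_ifs
    · calc cK x ^ a * f ptInf * (cK x ^ b * 1) = cK x ^ (a + b) * f ptInf := by ring
        _ = f ptInf := by rw [hab, cK_pow_card_sub_one hx0, one_mul]
    · ring
  rw [h2, Finset.sum_congr rfl h1, Finset.sum_const, nsmul_eq_mul, hcard]
  ring

theorem exists_interp (f : ZMod p → K) :
    ∃ q : ℕ → K, ∀ s, f s = ∑ i ∈ range p, q i * cK s ^ i := by
  let L : (Fin p → K) →ₗ[K] (ZMod p → K) :=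
    Fintype.linearCombination K (fun i : Fin p => fun s : ZMod p => (cK s : K) ^ (i : ℕ))
  have hL : ∀ q s, L q s = ∑ i : Fin p, q i * cK s ^ (i : ℕ) := fun q s => by
    simp [L, Fintype.linearCombination_apply, Finset.sum_apply]
  have hinj : Function.Injective L := by
    rw [← LinearMap.ker_eq_bot, LinearMap.ker_eq_bot']
    intro q hq
    funext i
    have := coef_zero (K := K) le_rfl (fun j => if h : j < p then q ⟨j, h⟩ else 0) (fun x => by
      rw [Finset.sum_range]
      simpa [hL] using congrFun hq x) i i.2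
    simpa [i.2] using this
  obtain ⟨q, hq⟩ := (LinearMap.injective_iff_surjective_of_finrank_eq_finrank (by simp)).1 hinj f
  refine ⟨fun j => if h : j < p then q ⟨j, h⟩ else 0, fun s => ?_⟩
  rw [Finset.sum_range, ← hq, hL]
  exact Finset.sum_congr rfl fun i _ => by simp [i.2]

/-- The functions of degree `a` orthogonal to all monomials of degree `b = p - 1 - a`. -/
theorem mem_polyMod_of_orth {a b : ℕ} (hab : a + b = p - 1) (hb : 1 ≤ b)
    {f : (Fin 2 → ZMod p) → K} (hf0 : f 0 = 0)
    (hhom : ∀ (l : ZMod p) (P : Fin 2 → ZMod p), l ≠ 0 → f (l • P) = cK l ^ a * f P)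
    (horth : ∀ j ≤ b, ∑ P : Fin 2 → ZMod p, f P * pmon cX cY b j P = 0) :
    f ∈ polyMod p K a := by
  obtain ⟨q, hq⟩ := exists_interp fun s => f (ptOne s)
  have hS : ∀ j, ∑ s : ZMod p, cK s ^ j * f (ptOne s)
      = ∑ i ∈ range p, q i * (if i + j ≠ 0 ∧ p - 1 ∣ i + j then -1 else 0) := fun j => by
    simp only [hq, Finset.mul_sum]
    rw [Finset.sum_comm]
    refine Finset.sum_congr rfl fun i _ => ?_
    have := congrArg (cK : ZMod p →+* K) (sum_pow_zmod (p := p) (i + j))
    rw [map_sum, apply_ite cK, map_neg, map_one, map_zero] at this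
    rw [← this, Finset.mul_sum]
    exact Finset.sum_congr rfl fun s _ => by rw [map_pow, pow_add]; ring
  have hp2 := hp.out.two_le
  have dvd_cases : ∀ k, k ≠ 0 → k < 2 * (p - 1) → p - 1 ∣ k → k = p - 1 := by
    rintro k hk hk2 ⟨m, rfl⟩
    rcases m with _ | _ | m
    · simp at hk
    · simp
    · exfalso
      have : (p - 1) * 2 ≤ (p - 1) * (m + 1 + 1) := Nat.mul_le_mul_left _ (by omega)
      omega
  have hhi : ∀ i, a < i → i < p → q i = 0 := fun i hai hip => by
    have h := horth (p - 1 - i) (by omega)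
    rw [sum_pairing hab hf0 hhom (by omega), if_neg (show p - 1 - i ≠ b by omega), add_zero,
      neg_eq_zero, hS, Finset.sum_eq_single i] at h
    · rwa [if_pos ⟨by omega, by rw [show i + (p - 1 - i) = p - 1 by omega]⟩, mul_neg_one,
        neg_eq_zero] at h
    · intro k hk hki
      rw [mem_range] at hk
      rw [if_neg, mul_zero]
      rintro ⟨h0, hd⟩
      exact hki (by have := dvd_cases _ h0 (by omega) hd; omega)
    · exact fun hi => absurd (mem_range.2 hip) hi
  have hinf : f ptInf = q a := by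
    have h := horth b le_rfl
    rw [sum_pairing hab hf0 hhom le_rfl, if_pos rfl, neg_eq_zero, hS,
      Finset.sum_eq_single a] at h
    · rw [if_pos ⟨by omega, by rw [hab]⟩, mul_neg_one] at h
      linear_combination h
    · intro k hk hka
      rw [mem_range] at hk
      rcases lt_or_gt_of_ne hka with hlt | hgt
      · rw [if_neg, mul_zero]
        rintro ⟨h0, hd⟩
        have := dvd_cases _ h0 (by omega) hd
        omega
      · rw [hhi k hgt hk, zero_mul]
    · exact fun h => absurd (mem_range.2 (by omega)) h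
  set g : (Fin 2 → ZMod p) → K := ∑ i ∈ range (a + 1), q i • pmon cX cY a i with hg
  have hgmem : g ∈ polyMod p K a := Submodule.sum_mem _ fun i hi =>
    Submodule.smul_mem _ _ (pmon_mem_pspan _ _ (Nat.lt_succ_iff.1 (mem_range.1 hi)))
  suffices f = g by rwa [this]
  have ghom : ∀ (l : ZMod p) P, l ≠ 0 → g (l • P) = cK l ^ a * g P := fun l P hl => by
    simp only [hg, Finset.sum_apply, Pi.smul_apply, smul_eq_mul, Finset.mul_sum]
    refine Finset.sum_congr rfl fun i hi => ?_
    rw [pmon_smul_point a (Nat.lt_succ_iff.1 (mem_range.1 hi)) l hl]; ring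
  funext P
  by_cases hP : P = 0
  · subst hP; simp [hg, hf0, pmon, Finset.sum_apply]
  by_cases hy : P 1 = 0
  · have hx : P 0 ≠ 0 := fun h => hP (by funext k; fin_cases k <;> assumption)
    have e : P = P 0 • (ptInf : Fin 2 → ZMod p) := by
      funext k; fin_cases k <;> simp [ptInf, hy]
    rw [e, hhom _ _ hx, ghom _ _ hx, hinf]
    congr 1
    simp only [hg, Finset.sum_apply, Pi.smul_apply, smul_eq_mul]
    rw [Finset.sum_eq_single a]
    · rw [pmon_ptInf le_rfl, if_pos rfl, mul_one]
    · intro k hk hka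
      rw [pmon_ptInf (Nat.lt_succ_iff.1 (mem_range.1 hk)), if_neg hka, mul_zero]
    · simp
  · have e : P = P 1 • ptOne (P 0 / P 1) := by
      funext k; fin_cases k <;> simp [ptOne, mul_div_cancel₀ _ hy]
    rw [e, hhom _ _ hy, ghom _ _ hy, hq, hg, eval_ptOne]
    congr 1
    refine (Finset.sum_subset (range_subset_range.2 (by omega)) fun i hi hi' => ?_).symm
    rw [mem_range] at hi hi'
    rw [hhi i (by omega) hi, zero_mul]

omit hp [CharP K p] in
/-- Eigenspaces inside the span of an independent family of eigenvectors. -/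
theorem finrank_eigen_span {A : Type*} [AddCommGroup A] [Module K A] {n : ℕ}
    (T : Module.End K A) (v : Fin n → A) (hv : LinearIndependent K v) (μ : Fin n → K)
    (hT : ∀ i, T (v i) = μ i • v i) (m : K) :
    finrank K ↥(LinearMap.ker (T - m • 1) ⊓ Submodule.span K (Set.range v))
      = Nat.card {i : Fin n // μ i = m} := by
  classical
  have e : LinearMap.ker (T - m • 1) ⊓ Submodule.span K (Set.range v)
      = Submodule.span K (Set.range fun i : {i : Fin n // μ i = m} => v i) := by
    refine le_antisymm ?_ (Submodule.span_le.2 ?_)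
    · rintro x ⟨hk, hx⟩
      obtain ⟨c, rfl⟩ := (Submodule.mem_span_range_iff_exists_fun K).1 hx
      have h0 : ∑ i, (c i * (μ i - m)) • v i = 0 := by
        rw [SetLike.mem_coe, LinearMap.mem_ker] at hk
        rw [← hk]
        simp only [LinearMap.sub_apply, LinearMap.smul_apply, Module.End.one_apply, map_sum,
          map_smul, hT, Finset.smul_sum, ← Finset.sum_sub_distrib]
        exact Finset.sum_congr rfl fun i _ => by module
      have hc := Fintype.linearIndependent_iff.1 hv _ h0
      refine Submodule.sum_mem _ fun i _ => ?_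
      by_cases hi : μ i = m
      · exact Submodule.smul_mem _ _ (Submodule.subset_span ⟨⟨i, hi⟩, rfl⟩)
      · rcases mul_eq_zero.1 (hc i) with h | h
        · simp [h]
        · exact absurd (sub_eq_zero.1 h) hi
    · rintro _ ⟨i, rfl⟩
      refine ⟨?_, Submodule.subset_span ⟨i.1, rfl⟩⟩
      simp [hT, i.2]
  rw [e, Nat.card_eq_fintype_card]
  exact finrank_span_eq_card (hv.comp _ Subtype.val_injective)

end CfsgLib.FixSixth
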