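import Cfsg.Agent.Lib.FixSixth.SL2Elem
import Cfsg.Agent.Lib.Transfer.ClassTwo
import Mathlib.GroupTheory.Frattini
import Mathlib.Tactic

/-!
# A torus element normalising a cyclic lift of `uM 1` (S5720, piece 6)
-/

set_option autoImplicit false
set_option linter.style.haveILetI false

namespace CfsgLib.FixSixth

open Subgroup
open scoped MatrixGroups

universe u

theorem pow_eq_pow_of_cast {A : Type*} [Group A] {p : ℕ} {x : A} (hx : x ^ p = 1) {m m' : ℕ}
    (h : (m : ZMod p) = (m' : ZMod p)) : x ^ m = x ^ m' := by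
  have h' := (ZMod.natCast_eq_natCast_iff m m' p).1 h
  exact pow_eq_pow_iff_modEq.2 (h'.of_dvd (orderOf_dvd_of_pow_eq_one hx))

/-- An element of order prime to `p` normalising a `p`-group normalises a cyclic lift of a
generator of the image. -/
theorem exists_norm_gen {G Q : Type*} [Group G] [Finite G] [Group Q] {p : ℕ} [hp : Fact p.Prime]
    (π : G →* Q) {t : G} (hn : ¬ p ∣ orderOf t) {a : Q} (ha : orderOf a = p) :
    ∀ (m : ℕ) (S : Subgroup G), Nat.card S ≤ m → IsPGroup p S → (∀ s ∈ S, t * s * t⁻¹ ∈ S) →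
      (∀ s ∈ S, π s ∈ zpowers a) → (∃ u0 ∈ S, π u0 = a) →
      ∃ u ∈ S, π u = a ∧ ∃ j : ℕ, t * u * t⁻¹ = u ^ j := by
  intro m
  induction m with
  | zero => intro S hS _ _ _ _; have := Nat.card_pos (α := S); omega
  | succ m ih =>
    intro S hSm hS htS hSa ⟨u0, hu0S, hu0⟩
    classical
    have hPp : Fact p.Prime := hp
    let N := frattini ↥S
    have hτN : ∀ x : ↥S, x ∈ N → (⟨t * x * t⁻¹, htS _ x.2⟩ : ↥S) ∈ N := by
      let τ : ↥S ≃* ↥S := MulEquiv.ofBijective
        (MonoidHom.mk' (fun x : ↥S => (⟨t * x * t⁻¹, htS _ x.2⟩ : ↥S))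
          fun x y => Subtype.ext (by simp [mul_assoc]))
        (Finite.injective_iff_bijective.1 fun x y e => Subtype.ext (by
          have := congrArg Subtype.val e
          simpa using this))
      intro x hx
      have h := Subgroup.characteristic_iff_map_eq.1 (inferInstance : (frattini ↥S).Characteristic) τ
      exact (SetLike.ext_iff.1 h _).1 ⟨x, hx, rfl⟩
    have haQ : a ^ p = 1 := ha ▸ pow_orderOf_eq_one a
    -- the image of the Frattini subgroup is trivial
    have hNker : N ≤ (π.comp S.subtype).ker := by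
      have hK : (π.comp S.subtype).ker.index = p := by
        rw [index_ker]
        have : (π.comp S.subtype).range = zpowers a := by
          refine le_antisymm ?_ (zpowers_le.2 ⟨⟨u0, hu0S⟩, hu0⟩)
          rintro _ ⟨x, rfl⟩
          exact hSa _ x.2
        rw [this, Nat.card_zpowers, ha]
      have hmax : IsCoatom (π.comp S.subtype).ker := by
        refine ⟨fun e => ?_, fun H hH => ?_⟩
        · rw [e, index_top] at hK; exact hp.out.one_lt.ne hK
        · have h1 := index_dvd_of_le hH.le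
          rw [hK] at h1
          rcases (Nat.dvd_prime hp.out).1 h1 with h2 | h2
          · exact index_eq_one.1 h2
          · have h3 := relIndex_mul_index hH.le
            rw [h2, hK] at h3
            have h4 : (π.comp S.subtype).ker.relIndex H = 1 := by
              have := hp.out.pos
              nlinarith
            exact absurd (relIndex_eq_one.1 h4) (not_le_of_gt hH)
      exact frattini_le_coatom hmax
    let A := ↥S ⧸ N
    letI : CommGroup A := { (inferInstance : Group A) with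
      mul_comm := fun x y => by
        obtain ⟨x, rfl⟩ := QuotientGroup.mk'_surjective N x
        obtain ⟨y, rfl⟩ := QuotientGroup.mk'_surjective N y
        rw [← commutatorElement_eq_one_iff_mul_comm, ← map_commutatorElement]
        exact (QuotientGroup.eq_one_iff _).2
          (CfsgLib.Transfer.commutatorElement_mem_frattini hS x y) }
    have hAp : ∀ x : A, x ^ p = 1 := fun x => by
      obtain ⟨x, rfl⟩ := QuotientGroup.mk'_surjective N x
      rw [← map_pow]
      exact (QuotientGroup.eq_one_iff _).2 (CfsgLib.Transfer.pow_mem_frattini hS x)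
    let πA : A →* Q := QuotientGroup.lift N (π.comp S.subtype) hNker
    let τA : A →* A := QuotientGroup.map N N
      (MonoidHom.mk' (fun x : ↥S => (⟨t * x * t⁻¹, htS _ x.2⟩ : ↥S))
        fun x y => Subtype.ext (by simp [mul_assoc])) hτN
    have hpow : ∀ i : ℕ, t ^ i * u0 * (t ^ i)⁻¹ ∈ S := fun i => by
      induction i with
      | zero => simpa using hu0S
      | succ i hi =>
        have := htS _ hi
        rwa [pow_succ', mul_inv_rev, show t * t ^ i * u0 * ((t ^ i)⁻¹ * t⁻¹) =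
          t * (t ^ i * u0 * (t ^ i)⁻¹) * t⁻¹ by group]
    obtain ⟨k, hk⟩ : ∃ k : ℕ, π (t * u0 * t⁻¹) = a ^ k := by
      have h := hSa _ (htS _ hu0S)
      have hfin : IsOfFinOrder a := orderOf_pos_iff.1 (ha ▸ hp.out.pos)
      obtain ⟨k, hk⟩ := hfin.mem_powers_iff_mem_zpowers.2 h
      exact ⟨k, hk.symm⟩
    have hk' : π t * a * (π t)⁻¹ = a ^ k := by
      rw [← hk, map_mul, map_mul, map_inv, hu0]
    have hki : ∀ i : ℕ, π (t ^ i * u0 * (t ^ i)⁻¹) = a ^ (k ^ i) := fun i => by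
      induction i with
      | zero => simpa using hu0
      | succ i hi =>
        rw [show t ^ (i + 1) * u0 * (t ^ (i + 1))⁻¹ = t * (t ^ i * u0 * (t ^ i)⁻¹) * t⁻¹ by
          rw [pow_succ']; group, map_mul, map_mul, hi, map_inv, ← conj_pow, hk', ← pow_mul,
          pow_succ']
    obtain ⟨n, hndef⟩ : ∃ n, n = orderOf t := ⟨_, rfl⟩
    have htn : t ^ n = 1 := hndef ▸ pow_orderOf_eq_one t
    have hkn : (k : ZMod p) ^ n = 1 := by
      have e := hki n
      rw [htn, inv_one, one_mul, mul_one, hu0] at e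
      have e' : a ^ 1 = a ^ (k ^ n) := by rwa [pow_one]
      rw [pow_eq_pow_iff_modEq, ha] at e'
      have e'' := (ZMod.natCast_eq_natCast_iff 1 (k ^ n) p).2 e'
      push_cast at e''
      exact e''.symm
    have hn0 : n ≠ 0 := hndef ▸ (orderOf_pos t).ne'
    have hk0 : (k : ZMod p) ≠ 0 := fun e => by
      rw [e, zero_pow hn0] at hkn
      exact zero_ne_one hkn
    obtain ⟨c, hc⟩ : ∃ c : ℕ, (k : ZMod p) * (c : ZMod p) = 1 :=
      ⟨((k : ZMod p)⁻¹).val, by rw [ZMod.natCast_zmod_val, mul_inv_cancel₀ hk0]⟩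
    let b : ℕ → A := fun i => QuotientGroup.mk' N ⟨_, hpow i⟩
    let e : A := ∏ i ∈ Finset.range n, b i ^ (c ^ i)
    have hb : ∀ i, τA (b i) = b (i + 1) := fun i => by
      show QuotientGroup.mk' N _ = QuotientGroup.mk' N _
      congr 1
      refine Subtype.ext ?_
      show t * (t ^ i * u0 * (t ^ i)⁻¹) * t⁻¹ = t ^ (i + 1) * u0 * (t ^ (i + 1))⁻¹
      rw [pow_succ']; group
    have hτe : τA e = e ^ k := by
      have h1 : τA e = ∏ i ∈ Finset.range n, b (i + 1) ^ (c ^ (i + 1) * k) := by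
        simp only [e, map_prod, map_pow, hb]
        refine Finset.prod_congr rfl fun i _ => pow_eq_pow_of_cast (hAp _) ?_
        push_cast
        rw [pow_succ, mul_assoc, mul_comm (c : ZMod p), hc, mul_one]
      have h2 : e ^ k = ∏ i ∈ Finset.range n, b i ^ (c ^ i * k) := by
        simp only [e, ← Finset.prod_pow, ← pow_mul]
      have hper : b n ^ (c ^ n * k) = b 0 ^ (c ^ 0 * k) := by
        have hb0 : b n = b 0 := by
          show QuotientGroup.mk' N _ = QuotientGroup.mk' N _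
          congr 1
          refine Subtype.ext ?_
          show t ^ n * u0 * (t ^ n)⁻¹ = t ^ 0 * u0 * (t ^ 0)⁻¹
          rw [htn, pow_zero]
        rw [hb0]
        refine pow_eq_pow_of_cast (hAp _) ?_
        push_cast
        have : (c : ZMod p) ^ n = 1 := by
          have := congrArg (· ^ n) hc
          simpa [mul_pow, hkn] using this
        rw [this, pow_zero]
      rw [h1, h2]
      have h3 := Finset.prod_range_succ' (fun i => b i ^ (c ^ i * k)) n
      rw [Finset.prod_range_succ, hper] at h3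
      exact (mul_right_cancel h3).symm
    have hπe : πA e = a ^ n := by
      letI : CommGroup ↥(zpowers a) := { (inferInstance : Group ↥(zpowers a)) with
        mul_comm := fun x y => by
          obtain ⟨x, i, rfl⟩ := x
          obtain ⟨y, j, rfl⟩ := y
          exact Subtype.ext (((Commute.refl a).zpow_zpow i j).eq) }
      let πZ : A →* ↥(zpowers a) := MonoidHom.mk' (fun x => ⟨πA x, by
          obtain ⟨x, rfl⟩ := QuotientGroup.mk'_surjective N x
          exact hSa _ x.2⟩) fun x y => Subtype.ext (map_mul πA x y)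
      let aZ : ↥(zpowers a) := ⟨a, mem_zpowers a⟩
      have hb' : ∀ i, πZ (b i) = aZ ^ (k ^ i) := fun i => Subtype.ext (hki i)
      suffices h : πZ e = aZ ^ n from congrArg Subtype.val h
      show πZ (∏ i ∈ Finset.range n, b i ^ (c ^ i)) = aZ ^ n
      rw [map_prod]
      simp only [map_pow, hb', ← pow_mul]
      rw [Finset.prod_pow_eq_pow_sum]
      refine pow_eq_pow_of_cast (Subtype.ext haQ) ?_
      push_cast
      simp only [← mul_pow, hc, one_pow, Finset.sum_const, Finset.card_range, nsmul_one]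
    obtain ⟨u1, hu1⟩ := QuotientGroup.mk'_surjective N e
    have hπu1 : π (u1 : G) = a ^ n := by rw [← hπe, ← hu1]; rfl
    obtain ⟨d, hd⟩ : ∃ d : ℕ, (a ^ n) ^ d = a := by
      refine ⟨((n : ZMod p)⁻¹).val, ?_⟩
      rw [← pow_mul]
      conv_rhs => rw [← pow_one a]
      refine pow_eq_pow_of_cast haQ ?_
      push_cast
      rw [ZMod.natCast_zmod_val, mul_inv_cancel₀]
      rwa [Ne, ZMod.natCast_eq_zero_iff, hndef]
    let S' : Subgroup ↥S := zpowers u1 ⊔ N
    by_cases hS' : S' = ⊤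
    · -- cyclic
      have hcyc : zpowers u1 = ⊤ := frattini_nongenerating hS'
      obtain ⟨i, hi⟩ : ∃ i : ℕ, u1 ^ i = (⟨u0, hu0S⟩ : ↥S) :=
        (isOfFinOrder_of_finite u1).mem_powers_iff_mem_zpowers.2 (hcyc ▸ mem_top _)
      have hip : ¬ p ∣ i := fun ⟨l, hl⟩ => by
        have e1 : π u0 = (π (u1 : G)) ^ i := by
          rw [← map_pow]; exact congrArg (fun x : ↥S => π (x : G)) hi.symm
        rw [hu0, hπu1, hl, ← pow_mul, ← mul_assoc, mul_comm n p, mul_assoc, pow_mul, haQ,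
          one_pow] at e1
        rw [e1, orderOf_one] at ha
        exact hp.out.one_lt.ne ha
      obtain ⟨K0, hK0⟩ := hS u1
      obtain ⟨E, -, hE⟩ := (Nat.dvd_prime_pow hp.out).1 (orderOf_dvd_of_pow_eq_one hK0)
      have hgen : zpowers (⟨u0, hu0S⟩ : ↥S) = ⊤ := by
        refine eq_top_of_card_eq _ ?_
        rw [← hi, Nat.card_zpowers, Nat.Coprime.orderOf_pow, ← Nat.card_zpowers, hcyc, card_top]
        rw [hE]
        exact Nat.Coprime.pow_left _ ((hp.out.coprime_iff_not_dvd).2 hip)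
      obtain ⟨j, hj⟩ : ∃ j : ℕ, (⟨u0, hu0S⟩ : ↥S) ^ j = ⟨t * u0 * t⁻¹, htS _ hu0S⟩ :=
        (isOfFinOrder_of_finite _).mem_powers_iff_mem_zpowers.2 (hgen ▸ mem_top _)
      exact ⟨u0, hu0S, hu0, j, (congrArg Subtype.val hj).symm⟩
    · -- smaller invariant subgroup
      have hlt : Nat.card (S'.map S.subtype) ≤ m := by
        rw [card_map_of_injective S.subtype_injective]
        have h1 := card_le_card_group S'
        have h2 : Nat.card S' ≠ Nat.card S := fun h => hS' (eq_top_of_card_eq _ h)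
        omega
      have hinv : ∀ s ∈ S'.map S.subtype, t * s * t⁻¹ ∈ S'.map S.subtype := by
        rintro _ ⟨x, hx, rfl⟩
        refine ⟨⟨t * x * t⁻¹, htS _ x.2⟩, ?_, rfl⟩
        have hle : S' ≤ S'.comap (MonoidHom.mk' (fun x : ↥S => (⟨t * x * t⁻¹, htS _ x.2⟩ : ↥S))
            fun x y => Subtype.ext (by simp [mul_assoc])) := by
          refine sup_le (zpowers_le.2 ?_) fun y hy => mem_sup_right (hτN y hy)
          show (⟨t * u1 * t⁻¹, htS _ u1.2⟩ : ↥S) ∈ zpowers u1 ⊔ N
          have he : QuotientGroup.mk' N (⟨t * u1 * t⁻¹, htS _ u1.2⟩ : ↥S) =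
              QuotientGroup.mk' N (u1 ^ k) := by
            rw [map_pow, hu1, ← hτe, ← hu1]; rfl
          obtain ⟨z, hz, e2⟩ := (QuotientGroup.mk'_eq_mk' N).1 he.symm
          rw [← e2]
          exact mul_mem (mem_sup_left (pow_mem (mem_zpowers u1) k)) (mem_sup_right hz)
        exact hle hx
      obtain ⟨u, hu, h⟩ := ih (S'.map S.subtype) hlt ((hS.to_subgroup S').map S.subtype) hinv
        (fun s hs => hSa s (map_subtype_le S' hs)) ⟨(u1 : G) ^ d,
          ⟨u1 ^ d, mem_sup_left (pow_mem (mem_zpowers u1) d), rfl⟩, by rw [map_pow, hπu1, hd]⟩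
      exact ⟨u, map_subtype_le S' hu, h⟩

variable {p : ℕ}

theorem tM_mul_hom (a b : (ZMod p)ˣ) : tM p (a * b) = tM p a * tM p b := by
  apply Subtype.ext
  simp [tM_val, mul_comm]

/-- The diagonal homomorphism. -/
def tHom (p : ℕ) : (ZMod p)ˣ →* SL(2, ZMod p) := MonoidHom.mk' (tM p) tM_mul_hom

theorem tM_conj_uM_inv (l : (ZMod p)ˣ) (c : ZMod p) :
    tM p l * uM p c * (tM p l)⁻¹ = uM p ((l : ZMod p) ^ 2 * c) := by
  rw [mul_inv_eq_iff_eq_mul]
  apply Subtype.ext
  simp [tM_val, uM_val]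
  rw [show (l : ZMod p) ^ 2 * c * (↑l⁻¹ : ZMod p) = (l : ZMod p) * c * ((l : ZMod p) * ↑l⁻¹) by ring,
    Units.mul_inv, mul_one]

variable [hp : Fact p.Prime]

theorem orderOf_uM_one : orderOf (uM p (1 : ZMod p)) = p := by
  refine orderOf_eq_prime (by rw [uM_pow, ZMod.natCast_self, zero_mul, uM_zero]) fun e => ?_
  have h := congrArg (fun M : SL(2, ZMod p) => M.1 0 1) e
  simp [uM_val] at h

theorem uM_one_inj {m m' : ℕ} (h : uM p (1 : ZMod p) ^ m = uM p (1 : ZMod p) ^ m') :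
    (m : ZMod p) = (m' : ZMod p) := by
  rw [uM_pow, uM_pow, mul_one, mul_one] at h
  simpa [uM_val] using congrArg (fun M : SL(2, ZMod p) => M.1 0 1) h

variable {G : Type u} [Group G] [Finite G]

/-- Lifts of a torus element and of `uM 1`, the first normalising the second. -/
theorem exists_torus (C : Cover p G) (l : (ZMod p)ˣ) :
    ∃ t u : G, C.π t = tM p l ∧ C.π u = uM p 1 ∧ ¬ p ∣ orderOf t ∧ (∃ e : ℕ, u ^ p ^ e = 1) ∧
      ∃ j : ℕ, t * u * t⁻¹ = u ^ j ∧ (j : ZMod p) = (l : ZMod p) ^ 2 := by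
  classical
  let Z : Subgroup SL(2, ZMod p) := zpowers (uM p 1)
  let N : Subgroup G := Z.comap C.π
  obtain ⟨g0, hg0⟩ := C.surj (tM p l)
  have huc : ∀ c : ZMod p, uM p c ∈ Z := fun c => by
    have : uM p c = uM p 1 ^ c.val := by rw [uM_pow, ZMod.natCast_zmod_val, mul_one]
    rw [this]
    exact pow_mem (mem_zpowers _) _
  have hgN : ∀ x ∈ N, g0 * x * g0⁻¹ ∈ N := fun x hx => by
    show C.π _ ∈ Z
    rw [map_mul, map_mul, map_inv, hg0]
    obtain ⟨i, hi⟩ := mem_zpowers_iff.1 (show C.π x ∈ Z from hx)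
    rw [← hi, ← conj_zpow, tM_conj_uM_inv]
    exact zpow_mem (huc _) _
  let φ : ↥N →* ↥N := MonoidHom.mk' (fun x => ⟨g0 * x * g0⁻¹, hgN _ x.2⟩)
    fun x y => Subtype.ext (by simp [mul_assoc])
  have hφ : Function.Injective φ := fun x y e => Subtype.ext (by
    have := congrArg Subtype.val e
    simpa [φ] using this)
  obtain ⟨P⟩ : Nonempty (Sylow p ↥N) := inferInstance
  obtain ⟨P', hP'⟩ : ∃ P' : Sylow p ↥N, (P' : Subgroup ↥N) = (P : Subgroup ↥N).map φ :=
    ⟨Sylow.ofCard _ (by rw [card_map_of_injective hφ, P.card_eq_multiplicity]), Sylow.coe_ofCard _ _⟩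
  obtain ⟨n1, hn1⟩ := MulAction.exists_smul_eq (↥N) P' P
  let S : Subgroup G := (P : Subgroup ↥N).map N.subtype
  let g1 : G := (n1 : G) * g0
  have hg1S : ∀ s ∈ S, g1 * s * g1⁻¹ ∈ S := by
    rintro _ ⟨x, hx, rfl⟩
    refine ⟨n1 * φ x * n1⁻¹, ?_, by simp [g1, φ, mul_assoc]⟩
    rw [← hn1, Sylow.coe_subgroup_smul]
    exact ⟨φ x, hP' ▸ ⟨x, hx, rfl⟩, rfl⟩
  have hSp : IsPGroup p S := P.isPGroup'.map N.subtype
  have hSZ : ∀ s ∈ S, C.π s ∈ zpowers (uM p 1) := by
    rintro _ ⟨x, -, rfl⟩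
    exact x.2
  obtain ⟨u0, hu0S, hu0⟩ : ∃ u0 ∈ S, C.π u0 = uM p 1 := by
    obtain ⟨w, hw⟩ := C.surj (uM p 1)
    have hwN : w ∈ N := show C.π w ∈ Z from hw ▸ mem_zpowers _
    obtain ⟨s, hs, hs1⟩ : ∃ s ∈ S, C.π s ≠ 1 := by
      by_contra hh
      push Not at hh
      let Kr : Subgroup ↥N := (C.π.comp N.subtype).ker
      have hPK : (P : Subgroup ↥N) ≤ Kr := fun x hx => hh _ ⟨x, hx, rfl⟩
      have hi : Kr.index = p := by
        rw [index_ker]
        have : (C.π.comp N.subtype).range = Z := le_antisymm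
          (by rintro _ ⟨x, rfl⟩; exact x.2) (zpowers_le.2 ⟨⟨w, hwN⟩, hw⟩)
        rw [this]
        exact (Nat.card_zpowers _).trans orderOf_uM_one
      exact P.not_dvd_index (by have h' := index_dvd_of_le hPK; rwa [hi] at h')
    obtain ⟨i, hi⟩ := mem_zpowers_iff.1 (hSZ s hs)
    obtain ⟨l', hl'⟩ : ∃ l' : ℤ, ((uM p (1 : ZMod p)) ^ i) ^ l' = uM p 1 := by
      have hZc : Nat.card ↥Z = p := (Nat.card_zpowers _).trans orderOf_uM_one
      have hne : (⟨uM p (1 : ZMod p) ^ i, zpow_mem (mem_zpowers _) i⟩ : ↥Z) ≠ 1 :=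
        fun e => hs1 (hi ▸ congrArg Subtype.val e)
      obtain ⟨l', hl'⟩ := mem_zpowers_iff.1
        (mem_zpowers_of_prime_card hZc hne (g' := ⟨uM p 1, mem_zpowers _⟩))
      exact ⟨l', congrArg Subtype.val hl'⟩
    exact ⟨s ^ l', zpow_mem hs _, by rw [map_zpow, ← hi, hl']⟩
  obtain ⟨c, hc⟩ : ∃ c : ℕ, C.π g1 = uM p 1 ^ c * tM p l := by
    have hfin : IsOfFinOrder (uM p (1 : ZMod p)) := isOfFinOrder_of_finite _
    obtain ⟨c, hc⟩ := hfin.mem_powers_iff_mem_zpowers.2 (show C.π (n1 : G) ∈ Z from n1.2)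
    exact ⟨c, by rw [map_mul, hg0, ← hc]⟩
  let g2 : G := (u0 ^ c)⁻¹ * g1
  have hg2 : C.π g2 = tM p l := by
    rw [map_mul, map_inv, map_pow, hu0, hc, inv_mul_cancel_left]
  have hg2S : ∀ s ∈ S, g2 * s * g2⁻¹ ∈ S := fun s hs => by
    have hu : u0 ^ c ∈ S := pow_mem hu0S c
    rw [show g2 * s * g2⁻¹ = (u0 ^ c)⁻¹ * (g1 * s * g1⁻¹) * u0 ^ c by simp [g2, mul_assoc]]
    exact mul_mem (mul_mem (inv_mem hu) (hg1S s hs)) hu
  obtain ⟨e, m, hm, hem⟩ := Nat.exists_eq_pow_mul_and_not_dvd (orderOf_pos g2).ne' p hp.out.ne_one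
  let t : G := g2 ^ p ^ e
  have htS : ∀ s ∈ S, t * s * t⁻¹ ∈ S := by
    have key : ∀ i : ℕ, ∀ s ∈ S, g2 ^ i * s * (g2 ^ i)⁻¹ ∈ S := fun i => by
      induction i with
      | zero => simp
      | succ i hi =>
        intro s hs
        rw [show g2 ^ (i + 1) * s * (g2 ^ (i + 1))⁻¹ = g2 * (g2 ^ i * s * (g2 ^ i)⁻¹) * g2⁻¹ by
          rw [pow_succ']; group]
        exact hg2S _ (hi s hs)
    exact key _
  have hto : ¬ p ∣ orderOf t := by
    rw [orderOf_pow, hem, Nat.gcd_eq_right (dvd_mul_right _ _),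
      Nat.mul_div_cancel_left _ (pow_pos hp.out.pos e)]
    exact hm
  have htπ : C.π t = tM p l := by
    have hl : ∀ i : ℕ, l ^ p ^ i = l := fun i => by
      induction i with
      | zero => simp
      | succ i hi =>
        rw [pow_succ, pow_mul, hi]
        exact Units.ext (by rw [Units.val_pow_eq_pow_val, ZMod.pow_card])
    show C.π (g2 ^ p ^ e) = _
    rw [map_pow, hg2]
    exact ((tHom p).map_pow l (p ^ e)).symm.trans (congrArg (tM p) (hl e))
  obtain ⟨u, huS, hu, j, hj⟩ := exists_norm_gen C.π hto orderOf_uM_one _ S le_rfl hSp htS hSZ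
    ⟨u0, hu0S, hu0⟩
  obtain ⟨e', he'⟩ := hSp ⟨u, huS⟩
  refine ⟨t, u, htπ, hu, hto, ⟨e', congrArg Subtype.val he'⟩, j, hj, ?_⟩
  have e1 : C.π t * C.π u * (C.π t)⁻¹ = C.π u ^ j := by
    rw [← map_inv, ← map_mul, ← map_mul, ← map_pow]; exact congrArg C.π hj
  rw [htπ, hu, tM_conj_uM_inv, mul_one, uM_pow, mul_one] at e1
  simpa [uM_val] using (congrArg (fun M : SL(2, ZMod p) => M.1 0 1) e1).symm

end CfsgLib.FixSixth
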