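import Cfsg.Agent.Lib.FixSixth.Basic

/-!
# Fixed spaces from permuted weight spaces
-/

set_option autoImplicit false

namespace CfsgLib.FixSixth

open Module

variable {G : Type*} [Group G] {K V : Type*} [Field K] [AddCommGroup V] [Module K V]

/-- The weight space of the function `χ` on the subgroup `A`. -/
def wt (ρ : Representation K G V) (A : Subgroup G) (χ : A → K) : Submodule K V :=
  ⨅ a : A, LinearMap.ker (ρ (a : G) - χ a • 1)

theorem mem_wt {ρ : Representation K G V} {A : Subgroup G} {χ : A → K} {v : V} :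
    v ∈ wt ρ A χ ↔ ∀ a : A, ρ (a : G) v = χ a • v := by
  simp [wt, Submodule.mem_iInf, sub_eq_zero]

/-- The conjugated weight. -/
def conjWt (A : Subgroup G) [hA : A.Normal] (g : G) (χ : A → K) : A → K :=
  fun a => χ ⟨g⁻¹ * a * g, by simpa using hA.conj_mem (a : G) a.2 g⁻¹⟩

theorem apply_mem_wt {ρ : Representation K G V} {A : Subgroup G} [hA : A.Normal] (g : G)
    {χ : A → K} {v : V} (hv : v ∈ wt ρ A χ) : ρ g v ∈ wt ρ A (conjWt A g χ) := by
  rw [mem_wt] at hv ⊢
  intro a
  have h := hv ⟨g⁻¹ * a * g, by simpa using hA.conj_mem (a : G) a.2 g⁻¹⟩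
  have h2 : (a : G) * g = g * (g⁻¹ * a * g) := by group
  rw [← Module.End.mul_apply, ← map_mul, h2, map_mul, Module.End.mul_apply, h, map_smul]
  rfl

omit [Field K] in
theorem conjWt_one (A : Subgroup G) [A.Normal] (χ : A → K) : conjWt A (1 : G) χ = χ := by
  funext a
  simp [conjWt]

omit [Field K] in
theorem conjWt_mul (A : Subgroup G) [A.Normal] (g h : G) (χ : A → K) :
    conjWt A (g * h) χ = conjWt A g (conjWt A h χ) := by
  funext a
  simp only [conjWt]
  congr 1
  ext
  simp [mul_assoc]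

theorem wt_indep (ρ : Representation K G V) (A : Subgroup G)
    (hc : ∀ a b : A, ρ ((a : G) * b) = ρ ((b : G) * a)) : iSupIndep (wt ρ A) := by
  have key := Module.End.independent_iInf_maxGenEigenspace_of_forall_mapsTo
    (f := fun a : A => ρ (a : G)) fun a b μ =>
      Module.End.mapsTo_maxGenEigenspace_of_comm (show Commute (ρ (b : G)) (ρ (a : G)) by
        rw [Commute, SemiconjBy, ← map_mul, ← map_mul, hc]) μ
  refine key.mono fun (χ : A → K) (v : V) (hv : v ∈ wt ρ A χ) => ?_
  rw [Submodule.mem_iInf]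
  intro a
  rw [Module.End.mem_maxGenEigenspace]
  exact ⟨1, by simp [mem_wt.1 hv a]⟩

theorem exists_common_eigen [IsAlgClosed K] [FiniteDimensional K V] [Nontrivial V]
    (ρ : Representation K G V) (A : Subgroup G)
    (hc : ∀ a b : A, ρ ((a : G) * b) = ρ ((b : G) * a)) : ∃ χ : A → K, wt ρ A χ ≠ ⊥ := by
  classical
  obtain ⟨W, ⟨hW0, hWi⟩, hmin⟩ := (wellFounded_lt (α := Submodule K V)).has_min
    {W | W ≠ ⊥ ∧ ∀ a : A, ∀ v ∈ W, ρ (a : G) v ∈ W} ⟨⊤, top_ne_bot, fun _ _ _ => trivial⟩
  have hs : ∀ a : A, ∃ c : K, ∀ v ∈ W, ρ (a : G) v = c • v := by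
    intro a
    let f : End K W := (ρ (a : G)).restrict fun v hv => hWi a v hv
    have : Nontrivial W := Submodule.nontrivial_iff_ne_bot.2 hW0
    obtain ⟨c, hc'⟩ := Module.End.exists_eigenvalue f
    obtain ⟨w, hw, hw0⟩ := hc'.exists_hasEigenvector
    refine ⟨c, fun v hv => ?_⟩
    let U : Submodule K V := W ⊓ LinearMap.ker (ρ (a : G) - c • 1)
    have hU : U = W := by
      by_contra hne
      refine hmin U ⟨?_, ?_⟩ (lt_of_le_of_ne inf_le_left hne)
      · intro hb
        have : (w : V) ∈ U := ⟨w.2, by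
          rw [Module.End.mem_eigenspace_iff] at hw
          simpa [f, sub_eq_zero] using congrArg Subtype.val hw⟩
        rw [hb, Submodule.mem_bot] at this
        exact hw0 (Subtype.ext this)
      · rintro b u ⟨huW, hu⟩
        refine ⟨hWi b u huW, ?_⟩
        simp only [SetLike.mem_coe, LinearMap.mem_ker, LinearMap.sub_apply, LinearMap.smul_apply,
          Module.End.one_apply, sub_eq_zero] at hu ⊢
        rw [← Module.End.mul_apply, ← map_mul, hc, map_mul, Module.End.mul_apply, hu, map_smul]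
    have : v ∈ U := hU ▸ hv
    simpa [U, sub_eq_zero] using this.2
  choose χ hχ using hs
  refine ⟨χ, fun hb => hW0 ?_⟩
  rw [eq_bot_iff, ← hb]
  exact fun v hv => mem_wt.2 fun a => hχ a v hv

theorem finrank_finset_sup [FiniteDimensional K V] {ι : Type*} (W : ι → Submodule K V)
    (hW : iSupIndep W) {d : ℕ} (s : Finset ι) (hd : ∀ i ∈ s, finrank K (W i) = d) :
    finrank K (s.sup W : Submodule K V) = s.card * d := by
  classical
  induction s using Finset.induction with
  | empty => simp
  | insert i t hi ih =>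
    rw [Finset.sup_insert, Finset.card_insert_of_notMem hi]
    have hdis : Disjoint (W i) (t.sup W) := by
      rw [Finset.sup_eq_iSup]
      exact hW.disjoint_biSup (y := (t : Set ι)) (by simpa using hi)
    have h := Submodule.finrank_sup_add_finrank_inf_eq (W i) (t.sup W)
    rw [disjoint_iff.1 hdis, finrank_bot, add_zero, hd i (Finset.mem_insert_self i t),
      ih fun j hj => hd j (Finset.mem_insert_of_mem hj)] at h
    rw [h]
    ring

theorem disjoint_finset_sup {ι : Type*} (W : ι → Submodule K V) (hW : iSupIndep W)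
    (s t : Finset ι) (h : Disjoint s t) : Disjoint (s.sup W) (t.sup W) := by
  rw [Finset.sup_eq_iSup, Finset.sup_eq_iSup]
  exact hW.disjoint_biSup_biSup (Finset.disjoint_coe.2 h)

theorem exists_orbit_reps {α : Type*} [Fintype α] [DecidableEq α] (σ : Equiv.Perm α)
    (h3 : ∀ a, σ (σ (σ a)) = a) :
    ∃ R : Finset α, Disjoint R (R.image σ ∪ R.image fun a => σ (σ a)) ∧
      Fintype.card α ≤ 3 * R.card + (Finset.univ.filter fun a => σ a = a).card := by
  classical
  let e : α ≃ Fin (Fintype.card α) := Fintype.equivFin α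
  let R : Finset α := Finset.univ.filter fun a => e a < e (σ a) ∧ e a < e (σ (σ a))
  refine ⟨R, ?_, ?_⟩
  · rw [Finset.disjoint_left]
    intro a ha hb
    simp only [R, Finset.mem_filter, Finset.mem_univ, true_and] at ha
    rcases Finset.mem_union.1 hb with hb | hb <;> obtain ⟨b, hb', rfl⟩ := Finset.mem_image.1 hb <;>
      simp only [R, Finset.mem_filter, Finset.mem_univ, true_and] at hb'
    · rw [h3] at ha
      exact lt_asymm ha.2 hb'.1
    · rw [h3] at ha
      exact lt_asymm ha.1 hb'.2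
  · have hsub : (Finset.univ : Finset α) ⊆ (R ∪ R.image σ ∪ R.image fun a => σ (σ a)) ∪
        Finset.univ.filter fun a => σ a = a := by
      intro a _
      by_cases hf : σ a = a
      · simp [hf]
      · have h1 : σ (σ a) ≠ σ a := fun h => hf (σ.injective h)
        have h2 : σ (σ a) ≠ a := fun h => hf (by simpa [h] using h3 a)
        have n1 : e (σ a) ≠ e a := fun h => hf (e.injective h)
        have n2 : e (σ (σ a)) ≠ e (σ a) := fun h => h1 (e.injective h)
        have n3 : e (σ (σ a)) ≠ e a := fun h => h2 (e.injective h)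
        refine Finset.mem_union_left _ ?_
        simp only [R, Finset.mem_union, Finset.mem_filter, Finset.mem_univ, true_and,
          Finset.mem_image]
        have h4 : σ (σ (σ (σ a))) = σ a := congrArg σ (h3 a)
        rcases lt_or_gt_of_ne n1 with l1 | l1 <;> rcases lt_or_gt_of_ne n2 with l2 | l2 <;>
          rcases lt_or_gt_of_ne n3 with l3 | l3
        all_goals first
          | exact Or.inl (Or.inl ⟨by omega, by omega⟩)
          | exact Or.inl (Or.inr ⟨σ (σ a), ⟨by rw [h3]; omega, by rw [h3]; omega⟩, h3 a⟩)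
          | exact Or.inr ⟨σ a, ⟨by omega, by rw [h3]; omega⟩, h3 a⟩
    have hc := Finset.card_le_card hsub
    rw [Finset.card_univ] at hc
    have c1 := Finset.card_union_le (R ∪ R.image σ ∪ R.image fun a => σ (σ a))
      (Finset.univ.filter fun a => σ a = a)
    have c2 := Finset.card_union_le (R ∪ R.image σ) (R.image fun a => σ (σ a))
    have c3 := Finset.card_union_le R (R.image σ)
    have c4 := Finset.card_image_le (s := R) (f := σ)
    have c5 := Finset.card_image_le (s := R) (f := fun a => σ (σ a))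
    omega

section Weights

variable (ρ : Representation K G V) (A : Subgroup G)

/-- The weights that occur. -/
abbrev Om : Type _ := {χ : A → K // wt ρ A χ ≠ ⊥}

theorem apply_ne_zero {v : V} (g : G) (hv : v ≠ 0) : ρ g v ≠ 0 := fun h => hv <| by
  simpa using congrArg (ρ g⁻¹) h

instance omAction [A.Normal] : MulAction G (Om ρ A) where
  smul g χ := ⟨conjWt A g χ.1, fun h => by
    obtain ⟨v, hv, hv0⟩ := (Submodule.ne_bot_iff _).1 χ.2
    exact apply_ne_zero ρ g hv0 ((Submodule.mem_bot K).1 (h ▸ apply_mem_wt g hv))⟩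
  one_smul χ := Subtype.ext (conjWt_one A χ.1)
  mul_smul g h χ := Subtype.ext (conjWt_mul A g h χ.1)

theorem smul_val [A.Normal] (g : G) (χ : Om ρ A) : (g • χ).1 = conjWt A g χ.1 := rfl

theorem om_finite [FiniteDimensional K V] (hc : ∀ a b : A, ρ ((a : G) * b) = ρ ((b : G) * a)) :
    Finite (Om ρ A) := by
  have := (wt_indep ρ A hc).fintypeNeBotOfFiniteDimensional
  exact Finite.of_fintype _

variable {ρ A}

theorem finrank_wt_smul [A.Normal] [FiniteDimensional K V] (g : G) (χ : Om ρ A) :
    finrank K (wt ρ A (g • χ).1) = finrank K (wt ρ A χ.1) := by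
  have key : ∀ (g : G) (χ : Om ρ A),
      finrank K (wt ρ A χ.1) ≤ finrank K (wt ρ A (g • χ).1) := by
    intro g χ
    refine LinearMap.finrank_le_finrank_of_injective
      (f := (ρ g).restrict (p := wt ρ A χ.1) (q := wt ρ A (g • χ).1)
        fun v hv => apply_mem_wt g hv) ?_
    intro a b h
    have h' := congrArg (fun v : wt ρ A (g • χ).1 => ρ g⁻¹ (v : V)) h
    exact Subtype.ext (by simpa using h')
  refine le_antisymm ?_ (key g χ)
  have h := key g⁻¹ (g • χ)
  rwa [inv_smul_smul] at h

theorem exists_perm [IsAlgClosed K] [FiniteDimensional K V] (hρ : IsSimpleRep ρ) [A.Normal]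
    (hc : ∀ a b : A, ρ ((a : G) * b) = ρ ((b : G) * a)) :
    MulAction.IsPretransitive G (Om ρ A) ∧
      ((∀ χ ψ : Om ρ A, χ = ψ) → ∀ a ∈ A, ∃ c : K, ρ a = c • 1) ∧
      ∀ x : G, x ^ 3 = 1 → (3 : K) ≠ 0 → ∃ d : ℕ, finrank K V = Nat.card (Om ρ A) * d ∧
        finrank K V ≤ 3 * fixDim ρ x + Nat.card (MulAction.fixedBy (Om ρ A) x) * d := by
  classical
  obtain ⟨v0, hv0⟩ := hρ.1
  have : Nontrivial V := nontrivial_of_ne _ _ hv0
  have := om_finite ρ A hc
  have := Fintype.ofFinite (Om ρ A)
  obtain ⟨χ0, hχ0⟩ := exists_common_eigen ρ A hc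
  let c0 : Om ρ A := ⟨χ0, hχ0⟩
  have hind : iSupIndep fun χ : Om ρ A => wt ρ A χ.1 :=
    (wt_indep ρ A hc).comp Subtype.val_injective
  have horb : ∀ O : Set (Om ρ A), (∀ g : G, ∀ χ ∈ O, g • χ ∈ O) → O.Nonempty →
      (⨆ χ ∈ O, wt ρ A χ.1) = ⊤ := by
    intro O hO hne
    refine (hρ.2 _ fun g => ?_).resolve_left fun hb => ?_
    · refine iSup₂_le fun χ hχ v hv => ?_
      exact Submodule.mem_iSup_of_mem (g • χ)
        (Submodule.mem_iSup_of_mem (hO g χ hχ) (apply_mem_wt g hv))
    · obtain ⟨χ, hχ⟩ := hne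
      exact χ.2 (eq_bot_iff.2 ((le_biSup (fun χ : Om ρ A => wt ρ A χ.1) hχ).trans hb.le))
  have hmem : ∀ χ, χ ∈ MulAction.orbit G c0 := by
    intro χ
    by_contra hne
    have h1 := hind.disjoint_biSup (y := MulAction.orbit G c0) (x := χ) hne
    rw [horb _ (fun g ψ hψ => MulAction.mem_orbit_of_mem_orbit g hψ) ⟨c0, MulAction.mem_orbit_self c0⟩,
      disjoint_top] at h1
    exact χ.2 h1
  refine ⟨⟨fun χ ψ => ?_⟩, fun hsub a ha => ?_, fun x hx h3 => ?_⟩
  · obtain ⟨g, rfl⟩ := hmem χ
    obtain ⟨g', rfl⟩ := hmem ψ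
    exact ⟨g' * g⁻¹, by simp [mul_smul]⟩
  · have htop : wt ρ A c0.1 = ⊤ := by
      have := horb {c0} (fun g χ _ => hsub _ _) ⟨c0, rfl⟩
      simpa using this
    refine ⟨c0.1 ⟨a, ha⟩, LinearMap.ext fun v => ?_⟩
    simpa using mem_wt.1 (htop ▸ Submodule.mem_top : v ∈ wt ρ A c0.1) ⟨a, ha⟩
  let W := fun χ : Om ρ A => wt ρ A χ.1
  let d := finrank K (W c0)
  have hd : ∀ χ, finrank K (W χ) = d := fun χ => by
    obtain ⟨g, rfl⟩ := hmem χ
    exact finrank_wt_smul g c0
  have hD : finrank K V = Nat.card (Om ρ A) * d := by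
    have h1 : (Finset.univ.sup W : Submodule K V) = ⊤ := by
      rw [eq_top_iff, ← horb Set.univ (fun _ _ _ => trivial) ⟨c0, trivial⟩]
      exact iSup₂_le fun χ _ => Finset.le_sup (f := W) (Finset.mem_univ χ)
    have h2 := finrank_finset_sup W hind Finset.univ fun χ _ => hd χ
    rw [h1, finrank_top, Finset.card_univ] at h2
    rw [h2, Nat.card_eq_fintype_card]
  refine ⟨d, hD, ?_⟩
  let σ : Equiv.Perm (Om ρ A) := MulAction.toPerm x
  have hσ : ∀ χ, σ (σ (σ χ)) = χ := fun χ => by
    show x • x • x • χ = χ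
    rw [← mul_smul, ← mul_smul, show x * x * x = x ^ 3 by simp [pow_succ, mul_assoc], hx,
      one_smul]
  obtain ⟨R, hR, hcard⟩ := exists_orbit_reps σ hσ
  have hfix : (Finset.univ.filter fun χ => σ χ = χ).card =
      Nat.card (MulAction.fixedBy (Om ρ A) x) :=
    (Nat.subtype_card _ (by simp [MulAction.mem_fixedBy, σ])).symm
  rw [hfix] at hcard
  let U : Submodule K V := R.sup W
  let Φ : End K V := 1 + ρ x + ρ x * ρ x
  have hx3 : ρ x * (ρ x * ρ x) = 1 := by
    rw [← map_mul, ← map_mul, show x * (x * x) = x ^ 3 by simp [pow_succ, mul_assoc], hx, map_one]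
  have hmapW : ∀ (g : G) (s : Finset (Om ρ A)), ∀ v ∈ s.sup W,
      ρ g v ∈ (s.image (g • ·)).sup W := by
    intro g s
    have : s.sup W ≤ ((s.image (g • ·)).sup W).comap (ρ g) :=
      Finset.sup_le fun χ hχ v hv =>
        Finset.le_sup (f := W) (Finset.mem_image_of_mem (g • ·) hχ) (apply_mem_wt g hv)
    exact fun v hv => this hv
  have hker : U.map Φ ≤ LinearMap.ker (ρ x - 1) := by
    rintro _ ⟨v, -, rfl⟩
    have e : (ρ x - 1) * Φ = 0 := by
      simp only [Φ, mul_add, sub_mul, one_mul, mul_one, hx3]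
      abel
    simpa using congrArg (fun f : End K V => f v) e
  have hinj : Disjoint U (LinearMap.ker Φ) := by
    rw [Submodule.disjoint_def]
    intro v hv hΦ
    have hd' : Disjoint U ((R.image σ ∪ R.image fun a => σ (σ a)).sup W) :=
      disjoint_finset_sup W hind _ _ hR
    have hin : ρ x v + ρ x (ρ x v) ∈ (R.image σ ∪ R.image fun a => σ (σ a)).sup W := by
      rw [Finset.sup_union]
      refine Submodule.add_mem_sup (hmapW x R v hv) ?_
      have h := hmapW x _ _ (hmapW x R v hv)
      rwa [Finset.image_image] at h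
    have hneg : -v ∈ (R.image σ ∪ R.image fun a => σ (σ a)).sup W := by
      rw [LinearMap.mem_ker] at hΦ
      simp only [Φ, LinearMap.add_apply, Module.End.mul_apply, Module.End.one_apply] at hΦ
      convert hin using 1
      rw [neg_eq_iff_add_eq_zero, ← add_assoc, hΦ]
    exact Submodule.disjoint_def.1 hd' v hv (by simpa using hneg)
  have hrank : R.card * d ≤ fixDim ρ x := by
    rw [← finrank_finset_sup W hind R fun χ _ => hd χ]
    have hinj' : Function.Injective (Φ.domRestrict U) := by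
      rw [← LinearMap.ker_eq_bot, LinearMap.ker_eq_bot']
      intro v hv
      exact Subtype.ext (Submodule.disjoint_def.1 hinj v v.2 hv)
    calc finrank K U = finrank K (LinearMap.range (Φ.domRestrict U)) :=
          (LinearMap.finrank_range_of_inj hinj').symm
      _ ≤ _ := Submodule.finrank_mono (by rintro _ ⟨v, rfl⟩; exact hker ⟨v, v.2, rfl⟩)
  rw [hD, Nat.card_eq_fintype_card]
  calc Fintype.card (Om ρ A) * d ≤ (3 * R.card + Nat.card (MulAction.fixedBy (Om ρ A) x)) * d :=
        Nat.mul_le_mul_right d hcard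
    _ ≤ _ := by rw [add_mul, mul_assoc]; omega

end Weights

end CfsgLib.FixSixth
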